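import Cfsg.Agent.Lib.Spor.JTwoType.Local
import Cfsg.Agent.S0215

/-!
# Elements normalising the elementary subgroup and the classes of involutions
-/

set_option autoImplicit false
set_option linter.unusedSectionVars false
set_option linter.style.haveILetI false
set_option maxRecDepth 100000
set_option synthInstance.maxSize 4000

namespace Cfsg.Agent.Spor.JTwoType

open Subgroup

universe u

theorem inFour_cases : ∀ n : Fin 128, inFour n = true → n = 0 ∨ n = 16 ∨ n = 15 ∨ n = 31 := by decide +kernel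

theorem pair_codes : mulM 15 31 = 16 ∧ mulM 31 15 = 16 ∧ mulM 15 16 = 31 ∧ mulM 31 16 = 15 := by decide +kernel

theorem A_code : ∀ n : Fin 128, inA1 n = true → n ≠ 0 → isInv n = true := by decide +kernel

theorem inv_classify : ∀ n : Fin 128, isInv n = true → n = 16 ∨ n = 15 ∨ n = 31 ∨ (∃ s, conjM s 1 = n) ∨
    (inA1 n = true ∧ inFour n = false) ∨ (inA1 (conjM 1 n) = true ∧ inFour (conjM 1 n) = false) := by
  decide +kernel

variable {G : Type u} [Group G] [Finite G]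

theorem cI_cI (a b : G) (X : Subgroup G) : cI a (cI b X) = cI (a * b) X := by
  ext x
  constructor
  · rintro ⟨_, ⟨y, hy, rfl⟩, rfl⟩; exact ⟨y, hy, by simp [mul_assoc]⟩
  · rintro ⟨y, hy, rfl⟩; exact ⟨_, ⟨y, hy, rfl⟩, by simp [mul_assoc]⟩

theorem mem_normalizer_of_cI {x : G} {X : Subgroup G} (h : cI x X ≤ X) : x ∈ normalizer (X : Set G) :=
  mem_normalizer_fintype fun _ ha => h (mem_cI ha)

namespace Setting

variable (d : Setting G)

theorem subA_le_subE : d.s.subA ≤ d.s.subE := by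
  rintro _ ⟨n, hn, rfl⟩
  exact d.s.mem_sub.2 (inA1_inQ n hn).2

theorem subE_le_C : d.s.subE ≤ d.C := d.s.sub_le.trans d.S_le_C

theorem comm_c {x : G} (hx : x ∈ d.s.subE) : x * d.s.φ 15 = d.s.φ 15 * x := by
  obtain ⟨n, hn, rfl⟩ := hx
  exact d.s.commute.2 ((inE_iff n).1 ▸ hn)

theorem φ_NE (n : Fin 128) : d.s.φ n ∈ normalizer (d.s.subE : Set G) := mem_normalizer_of_cI (by
  rintro _ ⟨_, ⟨m, hm, rfl⟩, rfl⟩
  show d.s.φ n * d.s.φ m * (d.s.φ n)⁻¹ ∈ _
  rw [d.s.conj]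
  exact d.s.mem_sub.2 (inE_conj n m hm))

theorem E_NA {q : Fin 128} (hq : inE q = true) : d.s.φ q ∈ normalizer (d.s.subA : Set G) :=
  mem_normalizer_fintype fun a ha => by
    obtain ⟨m, hm, rfl⟩ := ha
    rw [d.s.conj]
    exact d.s.mem_sub.2 ((E_acts q hq).2 m hm).1

/-- The square of an element normalising the maximal subgroup normalises the elementary subgroup. -/
theorem sq_NA {x : G} (hx : x ∈ normalizer (d.s.subE : Set G)) : x * x ∈ normalizer (d.s.subA : Set G) := by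
  set A := d.s.subA
  have hle : ∀ B : Subgroup G, B ≤ d.s.subE → cI x B ≤ d.s.subE := by
    rintro B hB _ ⟨b, hb, rfl⟩
    exact (mem_normalizer_iff.1 hx b).1 (hB hb)
  have helem : ∀ g : G, cI g A ≤ d.s.subE → cI g A = A ∨ cI (d.s.φ 1) (cI g A) = A := fun g hg =>
    d.s.sixteen (hg.trans d.s.sub_le) (by rw [card_cI, d.s.card_subA])
      (fun a ha => by obtain ⟨b, hb, rfl⟩ := ha; rw [← map_mul, d.s.sq_subA hb, map_one])
      (fun a ha b hb => by
        obtain ⟨a', ha', rfl⟩ := ha; obtain ⟨b', hb', rfl⟩ := hb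
        rw [← map_mul, ← map_mul, d.s.comm_subA ha' hb'])
  refine mem_normalizer_of_cI ?_
  rcases helem x (hle A d.subA_le_subE) with e | e
  · rw [← cI_cI, e, e]
  · have e' : cI x A = cI (d.s.φ 1)⁻¹ A := by
      conv_rhs => rw [← e]
      rw [cI_cI, cI_cI]; simp
    rcases helem (x * x) (by rw [← cI_cI]; exact hle _ (hle A d.subA_le_subE)) with h | h
    · exact h.le
    · exfalso
      have h' : cI (x * x) A = cI x A := by
        rw [e', show cI (x * x) A = cI (d.s.φ 1)⁻¹ (cI (d.s.φ 1) (cI (x * x) A)) by rw [cI_cI, cI_cI, inv_mul_cancel, one_mul], h]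
      rw [← cI_cI] at h'
      have h2 : cI x A = A := Subgroup.map_injective (MulAut.conj x).injective h'
      rw [h2] at e
      have hmem := e ▸ mem_cI (g := d.s.φ 1) (d.s.mem_sub.2 A1_not_normal.1 : d.s.φ 32 ∈ A)
      rw [d.s.conj] at hmem
      have h3 := d.s.mem_sub.1 hmem
      simp [A1_not_normal.2] at h3

/-- A 2-subgroup centralising `z` and `c` has order at most 64. -/
theorem card_le_64 {P : Subgroup G} (hP : IsPGroup 2 ↥P) (hC : P ≤ d.C) (hc : ∀ x ∈ P, x * d.s.φ 15 = d.s.φ 15 * x) :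
    Nat.card ↥P ≤ 64 := by
  haveI : Fact (Nat.Prime 2) := ⟨Nat.prime_two⟩
  by_contra hlt
  obtain ⟨k, hk, hkP⟩ := d.into_S hP hC
  have hS : cI k P = (d.S : Subgroup G) := by
    refine Subgroup.eq_of_le_of_card_ge hkP ?_
    rw [d.s.card, card_cI]
    have hdvd := Subgroup.card_dvd_of_le hkP
    rw [card_cI, d.s.card] at hdvd
    obtain ⟨i, hi, hi'⟩ := (Nat.dvd_prime_pow Nat.prime_two (m := 7)).1 (by simpa using hdvd)
    rcases Nat.lt_or_ge i 7 with h | h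
    · have := Nat.pow_le_pow_right two_pos (Nat.le_of_lt_succ (show i < 6 + 1 by omega))
      omega
    · rw [hi', show i = 7 by omega]; norm_num
  set c' := k * d.s.φ 15 * k⁻¹
  have hcomm : ∀ x ∈ (d.S : Subgroup G), c' * x = x * c' := by
    intro x hx
    rw [← hS] at hx
    exact Shape.cI_centralizes (g := k) (x := d.s.φ 15) (fun b hb => (hc b hb).symm) x hx
  have hc'2 : orderOf c' = 2 := by
    rw [show c' = MulAut.conj k (d.s.φ 15) from rfl, (MulAut.conj k).orderOf_eq]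
    exact d.s.orderOf_two.2 cent_one.2.2.2.2.2.2.2.2.1
  have hn : zpowers c' ≤ normalizer ((d.S : Subgroup G) : Set G) := zpowers_le.2 (mem_normalizer_fintype fun x hx => by
    rw [hcomm x hx, mul_inv_cancel_right]; exact hx)
  have hmem : c' ∈ (d.S : Subgroup G) :=
    (d.S.3 ((Invol.isPGroup_zpowers (n := 1) (by rw [hc'2, pow_one])).to_sup_of_normal_right' d.S.isPGroup' hn)
      le_sup_right) ▸ mem_sup_left (mem_zpowers _)
  obtain ⟨n, hn'⟩ := d.s.surj _ hmem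
  rcases d.s.central (n := n) (fun m => by rw [hn']; exact hcomm _ (d.s.mem m)) with rfl | rfl
  · rw [d.s.one] at hn'
    rw [← hn', orderOf_one] at hc'2
    omega
  · have : k * d.s.φ 15 * k⁻¹ = k * d.s.φ 16 * k⁻¹ := by
      rw [show k * d.s.φ 16 * k⁻¹ = d.s.φ 16 by rw [mem_centralizer_singleton_iff.1 hk, mul_inv_cancel_right], hn']
    exact absurd (d.s.inj (mul_left_cancel (mul_right_cancel this))) (by decide)

theorem card_subE : Nat.card ↥d.s.subE = 64 := by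
  rw [Shape.subE, d.s.card_sub, card_inE]

/-- Adjusting an element to normalise the maximal subgroup. -/
theorem adjust_E {g : G} {K : Subgroup G} (hK : K ≤ d.C) (hKc : ∀ x ∈ K, x * d.s.φ 15 = d.s.φ 15 * x)
    (hE : d.s.subE ≤ K) (hg : cI g d.s.subE ≤ K) : ∃ y ∈ K, y * g ∈ normalizer (d.s.subE : Set G) := by
  obtain ⟨y, hy, P, hP, hPK, hEP, hgP⟩ := align K (cI g d.s.subE) d.s.subE
    ((d.S.isPGroup'.to_le d.s.sub_le).map _) hg (d.S.isPGroup'.to_le d.s.sub_le) hE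
  have hPE : d.s.subE = P := Subgroup.eq_of_le_of_card_ge hEP (by
    rw [d.card_subE]; exact d.card_le_64 hP (hPK.trans hK) fun x hx => hKc x (hPK hx))
  refine ⟨y, hy, mem_normalizer_of_cI ?_⟩
  rw [← cI_cI]
  exact hgP.trans hPE.ge

/-- An element inducing a three-cycle on the five points fixes `c`, `z` and normalises both subgroups. -/
theorem exists_beta : ∃ β : ↥d.C, (β : G) * d.s.φ 15 = d.s.φ 15 * β ∧
    (β : G) ∈ normalizer (d.s.subE : Set G) ∧ (β : G) ∈ normalizer (d.s.subA : Set G) ∧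
    d.pA β ^ 3 = 1 ∧ d.pA β ≠ 1 ∧ d.pi β 4 = 4 := by
  obtain ⟨β0, hβ3, hβ1, hβ4⟩ := exists_three
  obtain ⟨g, hg⟩ : (β0 : Equiv.Perm (Fin 5)) ∈ d.pi.range := d.pi_range ▸ β0.2
  obtain ⟨o, ho, m, hm, e⟩ := d.pi_spec g 4
  rw [show d.pi g 4 = 4 by rw [hg, hβ4]] at hm
  have hm' : m = 15 ∨ m = 31 := hm.imp (fun h => h.trans rfl) (fun h => h.trans (by decide +kernel))
  rw [show toM (sv 4) = (15 : Fin 128) from rfl] at e
  set φm := d.s.φ m
  have hφm : φm * φm = 1 := d.s.sq.2 (by rcases hm' with rfl | rfl <;> decide +kernel)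
  -- the odd part is a square inverted by the involution
  have hinv : φm * o = o⁻¹ * φm := by
    have h1 : o * φm * (o * φm) = 1 := by
      rw [← e, show (g : G) * d.s.φ 15 * (g : G)⁻¹ * ((g : G) * d.s.φ 15 * (g : G)⁻¹) =
        (g : G) * (d.s.φ 15 * d.s.φ 15) * (g : G)⁻¹ by group, d.s.sq.2 (show mulM 15 15 = 0 by decide +kernel)]
      group
    calc φm * o = o⁻¹ * (o * φm * (o * φm)) * φm⁻¹ := by group
      _ = o⁻¹ * φm⁻¹ := by rw [h1, mul_one]
      _ = _ := by rw [inv_eq_of_mul_eq_one_right hφm]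
  obtain ⟨i, hi⟩ : Odd (orderOf o) := (θ_odd d.z).of_dvd_nat (orderOf_mk o ho ▸ orderOf_dvd_natCard _)
  set u := o ^ (i + 1)
  have huu : u * u = o := by
    rw [← pow_add, show i + 1 + (i + 1) = (2 * i + 1) + 1 by ring, pow_succ, ← hi, pow_orderOf_eq_one, one_mul]
  have hpow : ∀ j : ℕ, φm * o ^ j = (o ^ j)⁻¹ * φm := by
    intro j
    induction j with
    | zero => simp
    | succ j ih => rw [pow_succ, ← mul_assoc, ih, mul_assoc, hinv, ← mul_assoc, ← mul_inv_rev, ← pow_succ', pow_succ]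
  have hu : u * φm * u⁻¹ = o * φm := by
    have h1 : φm * u⁻¹ = u * φm := by
      calc φm * u⁻¹ = u * (u⁻¹ * φm) * u⁻¹ := by group
        _ = u * (φm * u) * u⁻¹ := by rw [hpow]
        _ = _ := by group
    rw [mul_assoc, h1, ← mul_assoc, huu]
  have huθ : u ∈ θ d.z := pow_mem ho _
  have huC : u ∈ d.C := θ_le _ huθ
  have hπu : d.pi ⟨u, huC⟩ = 1 := (d.pi_ker _).2 ⟨u, huθ, 0, rfl, by rw [d.s.one, mul_one]⟩
  set g' : ↥d.C := ⟨u, huC⟩⁻¹ * g with hg'def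
  have hg' : (g' : G) * d.s.φ 15 * (g' : G)⁻¹ = φm := by
    show u⁻¹ * (g : G) * d.s.φ 15 * (u⁻¹ * (g : G))⁻¹ = φm
    rw [show u⁻¹ * (g : G) * d.s.φ 15 * (u⁻¹ * (g : G))⁻¹ = u⁻¹ * ((g : G) * d.s.φ 15 * (g : G)⁻¹) * u by group, e, ← hu]
    group
  have hπg' : d.pA g' = β0 := Subtype.ext (by
    show d.pi g' = _
    rw [hg'def, map_mul, map_inv, hπu, inv_one, one_mul, hg])
  -- its square fixes `c`
  set h := g' * g'
  have hhc : (h : G) * d.s.φ 15 * (h : G)⁻¹ = d.s.φ 15 := by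
    show (g' : G) * g' * d.s.φ 15 * ((g' : G) * g')⁻¹ = _
    rw [show (g' : G) * g' * d.s.φ 15 * ((g' : G) * g')⁻¹ = (g' : G) * ((g' : G) * d.s.φ 15 * (g' : G)⁻¹) * (g' : G)⁻¹ by group, hg']
    rcases hm' with e' | e' <;> simp only [φm, e'] at hg' ⊢
    · exact hg'
    · have hz : (g' : G) * d.s.φ 16 * (g' : G)⁻¹ = d.s.φ 16 := by
        rw [mem_centralizer_singleton_iff.1 g'.2, mul_inv_cancel_right]
      calc (g' : G) * d.s.φ 31 * (g' : G)⁻¹ = ((g' : G) * d.s.φ 15 * (g' : G)⁻¹) * ((g' : G) * d.s.φ 16 * (g' : G)⁻¹) := by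
            rw [← pair_codes.2.2.1, ← d.s.mul]; group
        _ = d.s.φ 15 := by rw [hg', hz, d.s.mul, pair_codes.2.2.2]
  -- the preimage of the four group in the centralizer of `c`
  set K : Subgroup G := (fourG.comap d.pi).map d.C.subtype ⊓ centralizer ({d.s.φ 15} : Set G)
  have hKC : K ≤ d.C := inf_le_left.trans (map_subtype_le _)
  have hπh : d.pi h 4 = 4 := by
    show (d.pA h : Equiv.Perm (Fin 5)) 4 = 4
    rw [map_mul, hπg', Subgroup.coe_mul, Equiv.Perm.mul_apply, hβ4, hβ4]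
  have hEK : d.s.subE ≤ K := fun x hx => by
    refine ⟨⟨⟨x, d.subE_le_C hx⟩, ?_, rfl⟩, mem_centralizer_singleton_iff.2 (d.comm_c hx)⟩
    obtain ⟨n, -, rfl⟩ := hx
    exact ⟨_, (d.pi_φ n).symm⟩
  have hhK : cI (h : G) d.s.subE ≤ K := by
    rintro _ ⟨x, hx, rfl⟩
    obtain ⟨⟨x', hx', rfl⟩, hxc⟩ := hEK hx
    refine ⟨⟨h * x' * h⁻¹, ?_, by simp⟩, mem_centralizer_singleton_iff.2 ?_⟩
    · obtain ⟨i, hi⟩ := hx'
      obtain ⟨j, hj⟩ := fourA_inv (d.pA h) i hπh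
      show d.pi (h * x' * h⁻¹) ∈ fourG
      rw [map_mul, map_mul, map_inv, ← hi]
      exact ⟨j, hj.symm⟩
    · show (h : G) * (x' : G) * (h : G)⁻¹ * d.s.φ 15 = d.s.φ 15 * ((h : G) * (x' : G) * (h : G)⁻¹)
      conv_lhs => rw [← hhc]
      conv_rhs => rw [← hhc]
      calc _ = (h : G) * ((x' : G) * d.s.φ 15) * (h : G)⁻¹ := by group
        _ = (h : G) * (d.s.φ 15 * (x' : G)) * (h : G)⁻¹ := by rw [show (x' : G) * d.s.φ 15 = d.s.φ 15 * (x' : G) from mem_centralizer_singleton_iff.1 hxc]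
        _ = _ := by group
  obtain ⟨y, hy, hyh⟩ := d.adjust_E hKC (fun x hx => mem_centralizer_singleton_iff.1 hx.2) hEK hhK
  obtain ⟨⟨y', hy', rfl⟩, hyc⟩ := hy
  set β1 := y' * h
  obtain ⟨i, hi⟩ := hy'
  have hh3 : d.pA h ^ 3 = 1 ∧ d.pA h ≠ 1 := by
    rw [map_mul, hπg', ← pow_two]
    refine ⟨by rw [← pow_mul, mul_comm, pow_mul, hβ3, one_pow], fun e' => hβ1 ?_⟩
    calc β0 = β0 ^ 3 * (β0 ^ 2)⁻¹ := by group
      _ = 1 := by rw [hβ3, e', inv_one, one_mul]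
  have hπ1 : d.pA β1 ^ 3 = 1 ∧ d.pA β1 ≠ 1 ∧ d.pi β1 4 = 4 := by
    have h' := three_fourA (d.pA h) i hh3.1 hh3.2 hπh
    have e1 : d.pi β1 = fourA i * d.pi h := by rw [map_mul, hi]
    refine ⟨Subtype.ext ?_, fun e' => h'.2 ?_, ?_⟩
    · rw [Subgroup.coe_pow]
      show d.pi β1 ^ 3 = 1
      rw [e1]; exact h'.1
    · show fourA i * d.pi h = 1
      rw [← e1]; exact d.pA_eq_one.1 e'
    · rw [e1, Equiv.Perm.mul_apply, hπh, (fourA_mem.2.2.1 i).2]
  refine ⟨β1 * β1, ?_, ?_, d.sq_NA hyh, ?_, ?_, ?_⟩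
  · have hb : Commute ((β1 : G)) (d.s.φ 15) := by
      refine Commute.mul_left (mem_centralizer_singleton_iff.1 hyc) ?_
      exact mul_inv_eq_iff_eq_mul.1 hhc
    exact (hb.mul_left hb).eq
  · exact mul_mem hyh hyh
  · rw [map_mul, ← pow_two, ← pow_mul, mul_comm, pow_mul, hπ1.1, one_pow]
  · intro e'
    rw [map_mul, ← pow_two] at e'
    refine hπ1.2.1 ?_
    calc d.pA β1 = d.pA β1 ^ 3 * (d.pA β1 ^ 2)⁻¹ := by group
      _ = 1 := by rw [hπ1.1, e', inv_one, one_mul]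
  · rw [map_mul, Equiv.Perm.mul_apply, hπ1.2.2, hπ1.2.2]

/-- The twelve outer involutions are conjugate by elements fixing the structure. -/
theorem outer_orbit {r r' : Fin 128} (hr : inA1 r = true) (hr4 : inFour r = false) (hr' : inA1 r' = true)
    (hr4' : inFour r' = false) : ∃ g : G, g * d.z = d.z * g ∧ g * d.s.φ 15 = d.s.φ 15 * g ∧
      g ∈ normalizer (d.s.subE : Set G) ∧ g ∈ normalizer (d.s.subA : Set G) ∧
      g * d.s.φ r * g⁻¹ = d.s.φ r' := by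
  obtain ⟨β, hβc, hβE, hβA, hβ3, hβ1, hβ4⟩ := d.exists_beta
  have key : ∀ n : Fin 128, inA1 n = true → inFour n = false →
      d.pA ⟨d.s.φ n, d.φ_mem_C n⟩ * d.pA ⟨d.s.φ n, d.φ_mem_C n⟩ = 1 ∧
      d.pA ⟨d.s.φ n, d.φ_mem_C n⟩ ≠ 1 ∧ d.pi ⟨d.s.φ n, d.φ_mem_C n⟩ 4 = 4 := by
    intro n hn hn4
    refine ⟨?_, fun e => ?_, ?_⟩
    · rw [← map_mul, show (⟨d.s.φ n, d.φ_mem_C n⟩ : ↥d.C) * ⟨d.s.φ n, d.φ_mem_C n⟩ = 1 from
        Subtype.ext (d.s.sq.2 (A1_facts n hn).1), map_one]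
    · have := (inA1_inQ n hn).1.1 (d.pi_φ_one.1 (d.pA_eq_one.1 e))
      simp [this] at hn4
    · rw [d.pi_φ]; exact (fourA_mem.2.2.1 _).2
  obtain ⟨a1, a2, a3⟩ := key r hr hr4
  obtain ⟨b1, b2, b3⟩ := key r' hr' hr4'
  obtain ⟨i, hi⟩ := three_cycle _ _ a1 a2 b1 b2 a3 b3 (d.pA β) hβ3 hβ1 hβ4
  set b := β ^ (i : ℕ)
  have hbA : (b : G) ∈ normalizer (d.s.subA : Set G) := by rw [Subgroup.coe_pow]; exact pow_mem hβA _
  obtain ⟨m, hm, hme⟩ := (mem_normalizer_iff.1 hbA _).1 (d.s.mem_sub.2 hr : d.s.φ r ∈ d.s.subA)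
  have hπ : d.pi ⟨d.s.φ m, d.φ_mem_C m⟩ = d.pi ⟨d.s.φ r', d.φ_mem_C r'⟩ := by
    rw [show (⟨d.s.φ m, d.φ_mem_C m⟩ : ↥d.C) = b * ⟨d.s.φ r, d.φ_mem_C r⟩ * b⁻¹ from Subtype.ext hme]
    show (d.pA (b * _ * b⁻¹) : Equiv.Perm (Fin 5)) = (d.pA _ : Equiv.Perm (Fin 5))
    rw [map_mul, map_mul, map_inv, map_pow, hi, mul_inv_cancel_right]
  have hco : inFour (mulM m r') = true := by
    refine (inA1_inQ _ ((A1_facts m hm).2 r' hr').2).1.1 (d.pi_φ_one.1 ?_)
    rw [show (⟨d.s.φ (mulM m r'), d.φ_mem_C _⟩ : ↥d.C) = ⟨d.s.φ m, d.φ_mem_C m⟩ * ⟨d.s.φ r', d.φ_mem_C r'⟩ from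
      Subtype.ext (d.s.mul m r').symm, map_mul, hπ, ← map_mul,
      show (⟨d.s.φ r', d.φ_mem_C r'⟩ : ↥d.C) * ⟨d.s.φ r', d.φ_mem_C r'⟩ = 1 from
        Subtype.ext (d.s.sq.2 (A1_facts r' hr').1), map_one]
  have hm4 : inFour m = false := by
    by_contra h
    have h1 : d.pi ⟨d.s.φ m, d.φ_mem_C m⟩ = 1 := d.pi_φ_one.2 ((inA1_inQ m hm).1.2 (by simpa using h))
    exact b2 (d.pA_eq_one.2 (hπ ▸ h1))
  obtain ⟨q, hq, hqe⟩ := coset_orbit m r' hm hm4 hco
  have hbz : (b : G) * d.z = d.z * b := mem_centralizer_singleton_iff.1 b.2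
  have hbc : (b : G) * d.s.φ 15 = d.s.φ 15 * b := by
    rw [Subgroup.coe_pow]; exact (Commute.pow_left hβc _).eq
  refine ⟨d.s.φ q * b, ?_, ?_, mul_mem (d.φ_NE q) (by rw [Subgroup.coe_pow]; exact pow_mem hβE _),
    mul_mem (d.E_NA hq) hbA, ?_⟩
  · exact ((show Commute (d.s.φ q) d.z from d.s.comm_16 q).mul_left hbz).eq
  · exact ((show Commute (d.s.φ q) (d.s.φ 15) from d.comm_c (d.s.mem_sub.2 hq)).mul_left hbc).eq
  · rw [show d.s.φ q * (b : G) * d.s.φ r * (d.s.φ q * (b : G))⁻¹ =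
      d.s.φ q * ((b : G) * d.s.φ r * (b : G)⁻¹) * (d.s.φ q)⁻¹ by group,
      show (b : G) * d.s.φ r * (b : G)⁻¹ = d.s.φ m from hme.symm, d.s.conj, hqe]

/-- An element of the elementary subgroup conjugate to `z` is so inside its normalizer. -/
theorem to_z {n : Fin 128} (hn : inA1 n = true) (h : IsConj d.z (d.s.φ n)) :
    ∃ g ∈ normalizer (d.s.subA : Set G), g * d.s.φ n * g⁻¹ = d.z := by
  obtain ⟨g, hg⟩ := _root_.isConj_iff.1 h.symm
  have hgA : cI g d.s.subA ≤ d.C := fun b hb => mem_centralizer_singleton_iff.2 (by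
    have := Shape.cI_centralizes (g := g) (fun a ha => d.s.comm_subA (d.s.mem_sub.2 hn) ha) b hb
    rw [hg] at this
    exact this.symm)
  obtain ⟨k, hk, hkS⟩ := d.into_S ((d.S.isPGroup'.to_le d.s.sub_le).map _) hgA
  rw [cI_cI] at hkS
  have hkg : k * g * d.s.φ n * (k * g)⁻¹ = d.z := by
    rw [show k * g * d.s.φ n * (k * g)⁻¹ = k * (g * d.s.φ n * g⁻¹) * k⁻¹ by group, hg,
      mem_centralizer_singleton_iff.1 hk, mul_inv_cancel_right]
  rcases d.s.sixteen hkS (by rw [card_cI]; exact d.s.card_subA)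
    (fun a ha => by obtain ⟨b, hb, rfl⟩ := ha; rw [← map_mul, d.s.sq_subA hb, map_one])
    (fun a ha b hb => by
      obtain ⟨a', ha', rfl⟩ := ha; obtain ⟨b', hb', rfl⟩ := hb
      rw [← map_mul, ← map_mul, d.s.comm_subA ha' hb']) with e | e
  · exact ⟨k * g, mem_normalizer_of_cI e.le, hkg⟩
  · rw [cI_cI] at e
    refine ⟨d.s.φ 1 * (k * g), mem_normalizer_of_cI e.le, ?_⟩
    rw [show d.s.φ 1 * (k * g) * d.s.φ n * (d.s.φ 1 * (k * g))⁻¹ =
      d.s.φ 1 * (k * g * d.s.φ n * (k * g)⁻¹) * (d.s.φ 1)⁻¹ by group, hkg, d.s.comm_16, mul_inv_cancel_right]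

theorem c_cz : IsConj (d.s.φ 15) (d.s.φ 31) :=
  _root_.isConj_iff.2 ⟨d.s.φ 1, by rw [d.s.conj, cent_one.2.2.2.2.2.1]⟩

/-- An inner involution is conjugate to `z` or `c`. -/
theorem one_c : IsConj (d.s.φ 15) (d.s.φ 1) := by
  obtain ⟨k, -, hk⟩ := d.s.exists_fusion d.no_two
  exact (_root_.isConj_iff.2 ⟨k, hk⟩).symm

/-- The involution `c` is conjugate to `z`. -/
theorem z_conj_c : IsConj d.z (d.s.φ 15) := by
  haveI : Fact (Nat.Prime 2) := ⟨Nat.prime_two⟩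
  by_contra hne
  by_cases hI : ∃ n, inA1 n = true ∧ inFour n = false ∧ IsConj d.z (d.s.φ n)
  · obtain ⟨n, hn, hn4, hnz⟩ := hI
    obtain ⟨g, hgA, hg⟩ := d.to_z hn hnz
    have himg : ∀ v, v = 15 ∨ v = 31 → ∃ p, (p = 15 ∨ p = 31) ∧ g * d.s.φ v * g⁻¹ = d.s.φ p := by
      intro v hv
      obtain ⟨p, hp, hpe⟩ := (mem_normalizer_iff.1 hgA _).1 (d.s.mem_sub.2 (show inA1 v = true by
        rcases hv with rfl | rfl <;> decide +kernel) : d.s.φ v ∈ d.s.subA)
      refine ⟨p, ?_, hpe.symm⟩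
      have hcp : IsConj (d.s.φ 15) (d.s.φ p) := by
        refine IsConj.trans ?_ (_root_.isConj_iff.2 ⟨g, hpe.symm⟩)
        rcases hv with rfl | rfl
        exacts [IsConj.refl _, d.c_cz]
      have hne' : ¬ IsConj d.z (d.s.φ p) := fun h => hne (h.trans hcp.symm)
      by_cases hp4 : inFour p = true
      · rcases inFour_cases p hp4 with rfl | rfl | h
        · exfalso
          rw [d.s.one, eq_comm, conj_eq_one_iff, d.s.eq_one] at hpe
          rcases hv with rfl | rfl <;> exact absurd hpe (by decide)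
        · exact absurd (IsConj.refl _) hne'
        · exact h
      · obtain ⟨h, -, -, -, -, he⟩ := d.outer_orbit hn hn4 hp (by simpa using hp4)
        exact absurd (hnz.trans (_root_.isConj_iff.2 ⟨h, he⟩)) hne'
    obtain ⟨p, hp, hpe⟩ := himg 15 (Or.inl rfl)
    obtain ⟨q, hq, hqe⟩ := himg 31 (Or.inr rfl)
    have hpq : p ≠ q := fun e => by
      rw [e, ← hqe] at hpe
      exact absurd (d.s.inj (mul_left_cancel (mul_right_cancel hpe))) (by decide)
    have hz : g * d.z * g⁻¹ = d.z := by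
      show g * d.s.φ 16 * g⁻¹ = d.s.φ 16
      conv_lhs => rw [← pair_codes.1, ← d.s.mul]
      rw [show g * (d.s.φ 15 * d.s.φ 31) * g⁻¹ = g * d.s.φ 15 * g⁻¹ * (g * d.s.φ 31 * g⁻¹) by group, hpe, hqe, d.s.mul]
      refine congrArg d.s.φ ?_
      rcases hp with rfl | rfl <;> rcases hq with rfl | rfl <;>
        first | exact absurd rfl hpq | exact pair_codes.1 | exact pair_codes.2.1
    have := d.s.inj (mul_left_cancel (mul_right_cancel (hg.trans hz.symm)))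
    rw [this] at hn4
    simp [show inFour 16 = true by decide +kernel] at hn4
  push Not at hI
  have h16 : orderOf d.z = 2 := d.s.orderOf_two.2 cent_one.2.2.2.2.2.2.2.1
  obtain ⟨N, hN, hNo, hNc⟩ := S0215.result d.S d.z h16 (d.s.mem 16) (fun g hg => by
    obtain ⟨n, hn⟩ := d.s.surj _ hg
    have hconj : IsConj d.z (d.s.φ n) := _root_.isConj_iff.2 ⟨g, hn.symm⟩
    have hni : isInv n = true := d.s.isInv_of_conj cent_one.2.2.2.2.2.2.2.1 hn.symm
    rw [← hn]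
    rcases inv_classify n hni with e | e | e | ⟨r, hr⟩ | ⟨h1, h2⟩ | ⟨h1, h2⟩
    · rw [e]
    · exact absurd (e ▸ hconj) hne
    · exact absurd ((e ▸ hconj).trans d.c_cz.symm) hne
    · exact absurd (hconj.trans ((_root_.isConj_iff.2 ⟨d.s.φ r, by rw [d.s.conj, hr]⟩ :
        IsConj (d.s.φ 1) (d.s.φ n)).symm.trans d.one_c.symm)) hne
    · exact absurd hconj (hI n h1 h2)
    · exact absurd (hconj.trans (_root_.isConj_iff.2 ⟨d.s.φ 1, by rw [d.s.conj]⟩)) (hI _ h1 h2))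
  haveI := d.simple
  rcases IsSimpleGroup.eq_bot_or_eq_top_of_normal N hN with e | e
  · have hc := hNc (d.s.φ 1)
    rw [e, mem_bot] at hc
    have hall : ∀ g : G, g * d.z = d.z * g := fun g => by
      have := hNc g
      rw [e, mem_bot] at this
      calc g * d.z = (d.z * g * d.z⁻¹ * g⁻¹) * g * d.z := by rw [this, one_mul]
        _ = d.z * g := by group
    have hn : (zpowers d.z).Normal := ⟨fun w hw g => by
      obtain ⟨j, rfl⟩ := mem_zpowers_iff.1 hw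
      rw [((show Commute g d.z from hall g).zpow_right j).eq, mul_inv_cancel_right]
      exact zpow_mem (mem_zpowers _) j⟩
    rcases IsSimpleGroup.eq_bot_or_eq_top_of_normal _ hn with e' | e'
    · rw [zpowers_eq_bot] at e'
      rw [e', orderOf_one] at h16
      omega
    · have h1 := (d.S : Subgroup G).card_subgroup_dvd_card
      rw [d.s.card, ← Subgroup.card_top, ← e', Nat.card_zpowers, h16] at h1
      norm_num at h1
  · rw [e, Subgroup.card_top] at hNo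
    exact Nat.not_even_iff_odd.2 hNo (even_iff_two_dvd.2 (h16 ▸ orderOf_dvd_natCard _))

/-- An element cycling the central four group, normalising both subgroups. -/
theorem exists_alpha : ∃ α : G, α * d.z * α⁻¹ = d.s.φ 15 ∧ α * d.s.φ 15 * α⁻¹ = d.s.φ 31 ∧
    α ∈ normalizer (d.s.subE : Set G) ∧ α ∈ normalizer (d.s.subA : Set G) := by
  obtain ⟨g, hg⟩ := _root_.isConj_iff.1 d.z_conj_c
  obtain ⟨k, hk, v, hv, hkv⟩ := d.s.exists_swap (Or.inl rfl) hg
  obtain ⟨k', h1, h2⟩ : ∃ k' : G, k' * d.z * k'⁻¹ = d.s.φ 31 ∧ k' * d.s.φ 15 * k'⁻¹ = d.z := by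
    rcases hv with rfl | rfl
    · refine ⟨d.s.φ 1 * k, ?_, ?_⟩
      · rw [show d.s.φ 1 * k * d.z * (d.s.φ 1 * k)⁻¹ = d.s.φ 1 * (k * d.s.φ 16 * k⁻¹) * (d.s.φ 1)⁻¹ by group, hkv,
          d.s.conj, cent_one.2.2.2.2.2.1]
      · rw [show d.s.φ 1 * k * d.s.φ 15 * (d.s.φ 1 * k)⁻¹ = d.s.φ 1 * (k * d.s.φ 15 * k⁻¹) * (d.s.φ 1)⁻¹ by group, hk,
          d.s.comm_16, mul_inv_cancel_right]
    · exact ⟨k, hkv, hk⟩
  set K : Subgroup G := d.C ⊓ centralizer ({d.s.φ 15} : Set G)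
  have hEK : d.s.subE ≤ K := fun x hx => ⟨d.subE_le_C hx, mem_centralizer_singleton_iff.2 (d.comm_c hx)⟩
  have hgK : cI k' d.s.subE ≤ K := by
    intro b hb
    have e1 := Shape.cI_centralizes (g := k') (x := d.s.φ 15) (fun a ha => (d.comm_c ha).symm) b hb
    have e2 := Shape.cI_centralizes (g := k') (x := d.z) (fun a ha => (mem_centralizer_singleton_iff.1 (d.subE_le_C ha)).symm) b hb
    rw [h2] at e1
    rw [h1] at e2
    refine ⟨mem_centralizer_singleton_iff.2 e1.symm, mem_centralizer_singleton_iff.2 ?_⟩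
    rw [show d.s.φ 15 = d.s.φ 31 * d.z by rw [d.s.mul, pair_codes.2.2.2]]
    exact ((show Commute b (d.s.φ 31) from e2.symm).mul_right e1.symm).eq
  obtain ⟨y, hy, hyk⟩ := d.adjust_E (inf_le_left) (fun x hx => mem_centralizer_singleton_iff.1 hx.2) hEK hgK
  have hyz : y * d.z * y⁻¹ = d.z := by rw [mem_centralizer_singleton_iff.1 hy.1, mul_inv_cancel_right]
  have hyc : y * d.s.φ 15 * y⁻¹ = d.s.φ 15 := by rw [mem_centralizer_singleton_iff.1 hy.2, mul_inv_cancel_right]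
  have hz1 : y * k' * d.z * (y * k')⁻¹ = d.s.φ 31 := by
    rw [show y * k' * d.z * (y * k')⁻¹ = y * (k' * d.z * k'⁻¹) * y⁻¹ by group, h1, ← pair_codes.2.2.1, ← d.s.mul,
      show y * (d.s.φ 15 * d.s.φ 16) * y⁻¹ = y * d.s.φ 15 * y⁻¹ * (y * d.z * y⁻¹) by group, hyc, hyz]
  have hc1 : y * k' * d.s.φ 15 * (y * k')⁻¹ = d.z := by
    rw [show y * k' * d.s.φ 15 * (y * k')⁻¹ = y * (k' * d.s.φ 15 * k'⁻¹) * y⁻¹ by group, h2, hyz]
  set a := y * k'
  have h31 : a * d.s.φ 31 * a⁻¹ = d.s.φ 15 := by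
    rw [← pair_codes.2.2.1, ← d.s.mul,
      show a * (d.s.φ 15 * d.s.φ 16) * a⁻¹ = a * d.s.φ 15 * a⁻¹ * (a * d.z * a⁻¹) by group, hc1, hz1, d.s.mul]
    exact congrArg d.s.φ (by decide +kernel)
  refine ⟨a * a, ?_, ?_, mul_mem hyk hyk, d.sq_NA hyk⟩
  · rw [show a * a * d.z * (a * a)⁻¹ = a * (a * d.z * a⁻¹) * a⁻¹ by group, hz1, h31]
  · rw [show a * a * d.s.φ 15 * (a * a)⁻¹ = a * (a * d.s.φ 15 * a⁻¹) * a⁻¹ by group, hc1, hz1]

/-- An element cycling the four group and fixing a given outer involution. -/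
theorem exists_alpha_fix {r : Fin 128} (hr : inA1 r = true) (hr4 : inFour r = false) :
    ∃ a : G, a * d.z * a⁻¹ = d.s.φ 15 ∧ a * d.s.φ 15 * a⁻¹ = d.s.φ 31 ∧
      a ∈ normalizer (d.s.subE : Set G) ∧ a ∈ normalizer (d.s.subA : Set G) ∧ a * d.s.φ r = d.s.φ r * a := by
  obtain ⟨α, h1, h2, h3, h4⟩ := d.exists_alpha
  obtain ⟨m, hm, hme⟩ := (mem_normalizer_iff.1 h4 _).1 (d.s.mem_sub.2 hr : d.s.φ r ∈ d.s.subA)
  have hm4 : inFour m = false := by
    by_contra h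
    have h31 : α * d.s.φ 31 * α⁻¹ = d.z := by
      rw [← pair_codes.2.2.1, ← d.s.mul,
        show α * (d.s.φ 15 * d.s.φ 16) * α⁻¹ = α * d.s.φ 15 * α⁻¹ * (α * d.z * α⁻¹) by group, h2, h1, d.s.mul,
        pair_codes.2.1]
    have hcancel : ∀ v, α * d.s.φ v * α⁻¹ = d.s.φ m → v = r := fun v hv =>
      d.s.inj (mul_left_cancel (mul_right_cancel (hv.trans hme)))
    rcases inFour_cases m (by simpa using h) with e | e | e | e <;> rw [e] at hcancel
    · rw [← hcancel 0 (by rw [d.s.one]; group)] at hr4; revert hr4; decide +kernel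
    · rw [← hcancel 31 h31] at hr4; revert hr4; decide +kernel
    · rw [← hcancel 16 h1] at hr4; revert hr4; decide +kernel
    · rw [← hcancel 15 h2] at hr4; revert hr4; decide +kernel
  obtain ⟨g, g1, g2, g3, g4, g5⟩ := d.outer_orbit hm hm4 hr hr4
  have hfix : ∀ v, g * d.s.φ v = d.s.φ v * g → g * d.s.φ v * g⁻¹ = d.s.φ v := fun v hv => by
    rw [hv, mul_inv_cancel_right]
  have g6 : g * d.s.φ 31 = d.s.φ 31 * g := by
    rw [← pair_codes.2.2.1, ← d.s.mul]; exact (Commute.mul_right g2 g1).eq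
  refine ⟨g * α, ?_, ?_, mul_mem g3 h3, mul_mem g4 h4, mul_inv_eq_iff_eq_mul.1 ?_⟩
  · rw [show g * α * d.z * (g * α)⁻¹ = g * (α * d.z * α⁻¹) * g⁻¹ by group, h1, hfix 15 g2]
  · rw [show g * α * d.s.φ 15 * (g * α)⁻¹ = g * (α * d.s.φ 15 * α⁻¹) * g⁻¹ by group, h2, hfix 31 g6]
  · rw [show g * α * d.s.φ r * (g * α)⁻¹ = g * (α * d.s.φ r * α⁻¹) * g⁻¹ by group,
      show α * d.s.φ r * α⁻¹ = d.s.φ m from hme.symm, g5]

/-- All the central involutions are fused. -/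
theorem z_conj_four {n : Fin 128} (h : inFour n = true) (h0 : n ≠ 0) : IsConj d.z (d.s.φ n) := by
  rcases inFour_cases n h with e | e | e | e
  · exact absurd e h0
  · rw [e]
  · exact e ▸ d.z_conj_c
  · exact e ▸ d.z_conj_c.trans d.c_cz

/-- An inner involution is conjugate to `z`. -/
theorem z_conj_one : IsConj d.z (d.s.φ 1) := d.z_conj_c.trans d.one_c

/-- Either all involutions of the elementary subgroup are conjugate to `z` or no outer one is. -/
theorem dichotomy : (∀ n, inA1 n = true → n ≠ 0 → IsConj d.z (d.s.φ n)) ∨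
    ∀ n, inA1 n = true → inFour n = false → ¬ IsConj d.z (d.s.φ n) := by
  by_cases hI : ∃ n, inA1 n = true ∧ inFour n = false ∧ IsConj d.z (d.s.φ n)
  · obtain ⟨n, hn, hn4, hnz⟩ := hI
    refine Or.inl fun m hm hm0 => ?_
    by_cases hm4 : inFour m = true
    · exact d.z_conj_four hm4 hm0
    · obtain ⟨g, -, -, -, -, hg⟩ := d.outer_orbit hn hn4 hm (by simpa using hm4)
      exact hnz.trans (_root_.isConj_iff.2 ⟨g, hg⟩)
  · push Not at hI
    exact Or.inr hI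

end Setting

end Cfsg.Agent.Spor.JTwoType
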