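import Cfsg.Agent.Lib.Spor.JTwoType.Frame

/-!
# Finite checks for the signalizer argument
-/

set_option autoImplicit false
set_option maxRecDepth 100000
set_option maxHeartbeats 4000000
set_option synthInstance.maxSize 4000

namespace Cfsg.Agent.Spor.JTwoType

/-- Two commuting involutions of the extraspecial group agree modulo the centre. -/
theorem q_inv_comm : ∀ n m : Fin 128, inQ n = true → inQ m = true → mulM n n = 0 → mulM m m = 0 →
    commM n m = true → n = 0 ∨ n = 16 ∨ m = 0 ∨ m = 16 ∨ m = n ∨ m = mulM n 16 := by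
  decide +kernel

theorem one_small : (Finset.univ.filter fun m : Fin 128 =>
    (commM 1 m && (mulM m m == 0 || mulM m m == 1)) = true).card = 4 ∧
    (Finset.univ.filter fun m : Fin 128 =>
    (commM 17 m && (mulM m m == 0 || mulM m m == 17)) = true).card = 4 ∧
    ∀ m : Fin 128, commM 17 m = commM 1 m := by
  decide +kernel

theorem inA1_inQ : ∀ n : Fin 128, inA1 n = true → (inQ n = true ↔ inFour n = true) ∧ inE n = true := by
  decide +kernel

theorem inE_conj : ∀ g n : Fin 128, inE n = true → inE (conjM g n) = true := by decide +kernel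

theorem conj_fifteen : ∀ g : Fin 128, conjM g 15 = 15 ∨ conjM g 15 = 31 := by decide +kernel

theorem inA1_prime : ∀ n : Fin 128, inFour n = true → inA1 (conjM 1 n) = true ∧ inA1 n = true := by decide +kernel

theorem coset_orbit : ∀ r r' : Fin 128, inA1 r = true → inFour r = false → inFour (mulM r r') = true →
    ∃ q : Fin 128, inE q = true ∧ conjM q r = r' := by
  decide +kernel

theorem one_not_comm : commM 1 32 = false ∧ isInv 1 = true := by decide +kernel

theorem inv_cent : ∀ b x : Alt5, b * b = 1 → b ≠ 1 → b * x = x * b → x * x = 1 := by decide +kernel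

theorem four_two : ∀ x : Alt5, x ^ 4 = 1 → x * x = 1 := by decide +kernel

/-- The two generators of the stabiliser four group. -/
def fourA : Fin 4 → Equiv.Perm (Fin 5) :=
  ![1, Equiv.swap 0 1 * Equiv.swap 2 3, Equiv.swap 0 2 * Equiv.swap 1 3, Equiv.swap 0 3 * Equiv.swap 1 2]

/-- Words for elements of order three and five. -/
theorem gen_words : ∀ σ : Alt5, (σ : Equiv.Perm (Fin 5)) 4 ≠ 4 →
    ∃ i j k : Fin 4, ((fourA i * (σ : Equiv.Perm (Fin 5)) * fourA j * σ * fourA k) ^ 3 = 1 ∧
      fourA i * (σ : Equiv.Perm (Fin 5)) * fourA j * σ * fourA k ≠ 1) ∧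
    ∃ i j k : Fin 4, ((fourA i * (σ : Equiv.Perm (Fin 5)) * fourA j * σ * fourA k) ^ 5 = 1 ∧
      fourA i * (σ : Equiv.Perm (Fin 5)) * fourA j * σ * fourA k ≠ 1) := by
  decide +kernel

/-- A three-element fixing the last point cycles the involutions fixing it. -/
theorem three_cycle : ∀ σ τ : Alt5, σ * σ = 1 → σ ≠ 1 → τ * τ = 1 → τ ≠ 1 →
    (σ : Equiv.Perm (Fin 5)) 4 = 4 → (τ : Equiv.Perm (Fin 5)) 4 = 4 →
    ∀ β : Alt5, β ^ 3 = 1 → β ≠ 1 → (β : Equiv.Perm (Fin 5)) 4 = 4 →
    ∃ i : Fin 3, β ^ (i : ℕ) * σ = τ * β ^ (i : ℕ) := by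
  decide +kernel

theorem exists_three : ∃ β : Alt5, β ^ 3 = 1 ∧ β ≠ 1 ∧ (β : Equiv.Perm (Fin 5)) 4 = 4 := by decide +kernel

end Cfsg.Agent.Spor.JTwoType
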