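import Cfsg.Agent.Lib.Spor.JTwoType.Main
import Cfsg.Agent.Lib.Spor.JTwoType.SigFacts
import Cfsg.Agent.Lib.Invol.CentRank.Five
import Cfsg.Agent.Lib.Invol.Bender.Tools
import Cfsg.Agent.Lib.Grp.CoprimeAbelian

/-!
# The local structure at the central involution
-/

set_option autoImplicit false
set_option linter.unusedSectionVars false
set_option linter.style.haveILetI false
set_option maxRecDepth 100000
set_option synthInstance.maxSize 4000

namespace Cfsg.Agent.Spor.JTwoType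

open Subgroup

universe u

theorem four_conj_code : ∀ (n : Fin 128) (i : Fin 5),
    conjM n (toM (sv i)) = toM (sv (fourA ⟨(n : ℕ) / 32, by omega⟩ i)) ∨
    conjM n (toM (sv i)) = mulM (toM (sv (fourA ⟨(n : ℕ) / 32, by omega⟩ i))) 16 := by
  decide +kernel

theorem fourA_mem : (∀ i j : Fin 4, ∃ k, fourA i * fourA j = fourA k) ∧ fourA 0 = 1 ∧
    (∀ i, fourA i * fourA i = 1 ∧ fourA i 4 = 4) ∧ (∀ i, fourA i = 1 → i = 0) := by
  decide +kernel

theorem fourA_inv : ∀ (σ : Alt5) (i : Fin 4), (σ : Equiv.Perm (Fin 5)) 4 = 4 →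
    ∃ j, (σ : Equiv.Perm (Fin 5)) * fourA i * (σ : Equiv.Perm (Fin 5))⁻¹ = fourA j := by
  decide +kernel

theorem three_fourA : ∀ (β : Alt5) (i : Fin 4), β ^ 3 = 1 → β ≠ 1 → (β : Equiv.Perm (Fin 5)) 4 = 4 →
    (fourA i * (β : Equiv.Perm (Fin 5))) ^ 3 = 1 ∧ fourA i * (β : Equiv.Perm (Fin 5)) ≠ 1 := by
  decide +kernel

/-- The stabiliser four group. -/
def fourG : Subgroup (Equiv.Perm (Fin 5)) where
  carrier := Set.range fourA
  one_mem' := ⟨0, fourA_mem.2.1⟩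
  mul_mem' := by
    rintro _ _ ⟨i, rfl⟩ ⟨j, rfl⟩
    exact ⟨_, (fourA_mem.1 i j).choose_spec.symm⟩
  inv_mem' := by
    rintro _ ⟨i, rfl⟩
    exact ⟨i, eq_inv_of_mul_eq_one_left (fourA_mem.2.2.1 i).1⟩

theorem card_fourG : Nat.card ↥fourG = 4 := by
  rw [show Nat.card ↥fourG = (Set.range fourA).ncard from Nat.card_coe_set_eq _,
    Set.ncard_range_of_injective (by decide +kernel), Nat.card_eq_fintype_card, Fintype.card_fin]

variable {G : Type u} [Group G] [Finite G]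

/-- The signalizer. -/
abbrev θ (g : G) : Subgroup G := Cfsg.centralizerPPrimeCore 2 g

theorem θ_le (g : G) : θ g ≤ centralizer ({g} : Set G) := map_subtype_le _

theorem θ_odd (g : G) : Odd (Nat.card (θ g)) := by
  rw [θ, Cfsg.centralizerPPrimeCore, Subgroup.card_map_of_injective (Subgroup.subtype_injective _)]
  exact Nat.Coprime.odd_of_right Grp.pPrimeCore_coprime

theorem θ_conj {g a x : G} (hx : x ∈ θ a) : g * x * g⁻¹ ∈ θ (g * a * g⁻¹) :=
  Invol.CentRank.core_conj hx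

theorem θ_normal {g a x : G} (hg : g * a = a * g) (hx : x ∈ θ a) : g * x * g⁻¹ ∈ θ a := by
  have := θ_conj (g := g) hx
  rwa [hg, mul_inv_cancel_right] at this

theorem two_odd_eq_one {H K : Subgroup G} (hH : IsPGroup 2 ↥H) (hK : Odd (Nat.card ↥K)) {x : G}
    (hxH : x ∈ H) (hxK : x ∈ K) : x = 1 := by
  obtain ⟨j, hj⟩ := hH ⟨x, hxH⟩
  have h1 : orderOf x ∣ 2 ^ j := orderOf_dvd_of_pow_eq_one (congrArg Subtype.val hj)
  have h2 : orderOf x ∣ Nat.card ↥K := orderOf_mk x hxK ▸ orderOf_dvd_natCard _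
  exact orderOf_eq_one_iff.1 (Nat.dvd_one.1 ((Nat.Coprime.pow_left j hK.coprime_two_left).gcd_eq_one ▸
    Nat.dvd_gcd h1 h2))

/-- A simple group with a Sylow 2-subgroup of Hall-Janko shape. -/
structure Setting (G : Type u) [Group G] [Finite G] where
  S : Sylow 2 G
  s : Shape (S : Subgroup G)
  simple : IsSimpleGroup G

namespace Setting

variable (d : Setting G)

/-- The central involution. -/
abbrev z : G := d.s.φ 16

/-- The centralizer of the central involution. -/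
abbrev C : Subgroup G := centralizer ({d.s.φ 16} : Set G)

theorem S_le_C : (d.S : Subgroup G) ≤ d.C := fun x hx => by
  obtain ⟨n, rfl⟩ := d.s.surj x hx
  exact mem_centralizer_singleton_iff.2 (d.s.comm_16 n)

theorem no_two (d : Setting G) : ∀ H : Subgroup G, H.Normal → H.index ≠ 2 := by
  intro H hH hi
  haveI := d.simple
  rcases IsSimpleGroup.eq_bot_or_eq_top_of_normal H hH with e | e
  · have h1 := (d.S : Subgroup G).card_subgroup_dvd_card
    rw [d.s.card] at h1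
    rw [e, index_bot] at hi
    rw [hi] at h1
    norm_num at h1
  · rw [e, index_top] at hi
    norm_num at hi

theorem φ_mem_C (n : Fin 128) : d.s.φ n ∈ d.C := d.S_le_C (d.s.mem n)

/-- The action on the five pairs. -/
theorem exists_pi : ∃ π : ↥d.C →* Equiv.Perm (Fin 5), π.range = alternatingGroup (Fin 5) ∧
    (∀ x : ↥d.C, π x = 1 ↔ ∃ o ∈ θ d.z, ∃ n, inQ n = true ∧ (x : G) = o * d.s.φ n) ∧
    ∀ (g : ↥d.C) (i : Fin 5), ∃ o ∈ θ d.z, ∃ m,
      (m = toM (sv (π g i)) ∨ m = mulM (toM (sv (π g i))) 16) ∧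
      (g : G) * d.s.φ (toM (sv i)) * (g : G)⁻¹ = o * d.s.φ m := by
  haveI : Fact (Nat.Prime 2) := ⟨Nat.prime_two⟩
  set O := Cfsg.oddCore ↥d.C
  haveI : O.Normal := Grp.pPrimeCore_isNormal
  set SC : Sylow 2 ↥d.C := d.S.subtype d.S_le_C
  let sC : Shape (SC : Subgroup ↥d.C) := d.s.ofEquiv ((subgroupOfEquivOfLe d.S_le_C).symm.trans
    (MulEquiv.subgroupCongr (show (d.S : Subgroup G).subgroupOf d.C = (SC : Subgroup ↥d.C) from rfl)))
  have hinj : ∀ x ∈ (SC : Subgroup ↥d.C), QuotientGroup.mk' O x = 1 → x = 1 := fun x hx hx1 =>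
    two_odd_eq_one SC.isPGroup' (Nat.Coprime.odd_of_right Grp.pPrimeCore_coprime) hx
      ((QuotientGroup.eq_one_iff x).1 hx1)
  let sQ : Shape (SC.mapSurjective (QuotientGroup.mk'_surjective O) : Subgroup (↥d.C ⧸ O)) :=
    (sC.map (QuotientGroup.mk' O) hinj).ofEquiv (MulEquiv.subgroupCongr (Sylow.coe_mapSurjective _ _).symm)
  have hval : ∀ n, sQ.φ n = QuotientGroup.mk' O ⟨d.s.φ n, d.φ_mem_C n⟩ := fun _ => rfl
  obtain ⟨k, hk16, hk1⟩ := d.s.exists_fusion d.no_two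
  let c : Ctx (↥d.C ⧸ O) :=
    { S := SC.mapSurjective (QuotientGroup.mk'_surjective O)
      s := sQ
      hz := fun q => by
        obtain ⟨g, rfl⟩ := QuotientGroup.mk'_surjective O q
        rw [hval, ← map_mul, ← map_mul]
        exact congrArg _ (Subtype.ext (mem_centralizer_singleton_iff.1 g.2))
      hO := Grp.pPrimeCore_quotient_eq_bot
      fused := ⟨QuotientGroup.mk' O ⟨k, mem_centralizer_singleton_iff.2 (mul_inv_eq_iff_eq_mul.1 hk16)⟩, by
        rw [hval, hval, ← map_inv, ← map_mul, ← map_mul]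
        exact congrArg _ (Subtype.ext hk1)⟩ }
  obtain ⟨π, hker, hrange, hact⟩ := c.exists_hom
  have hmem : ∀ {x y : ↥d.C}, QuotientGroup.mk' O x = QuotientGroup.mk' O y → ∃ o ∈ θ d.z, (x : G) = o * y := by
    intro x y h
    refine ⟨((x * y⁻¹ : ↥d.C) : G), ⟨x * y⁻¹, ?_, rfl⟩, by simp⟩
    exact (QuotientGroup.eq_one_iff _).1 (show QuotientGroup.mk' O (x * y⁻¹) = 1 by
      rw [map_mul, map_inv, h, mul_inv_cancel])
  refine ⟨π.comp (QuotientGroup.mk' O), ?_, fun x => ⟨fun h => ?_, fun h => ?_⟩, fun g i => ?_⟩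
  · rw [MonoidHom.range_comp, (MonoidHom.range_eq_top.2 (QuotientGroup.mk'_surjective O)),
      ← MonoidHom.range_eq_map, hrange]
  · have hQ : QuotientGroup.mk' O x ∈ c.Q := hker ▸ h
    obtain ⟨n, hn, he⟩ := hQ
    obtain ⟨o, ho, e⟩ := hmem (y := ⟨d.s.φ n, d.φ_mem_C n⟩) (he.symm.trans (hval n))
    exact ⟨o, ho, n, hn, e⟩
  · obtain ⟨o, ⟨o', ho', rfl⟩, n, hn, e⟩ := h
    have hx : x = o' * ⟨d.s.φ n, d.φ_mem_C n⟩ := Subtype.ext e
    show π (QuotientGroup.mk' O x) = 1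
    rw [← MonoidHom.mem_ker, hker, hx, map_mul, show QuotientGroup.mk' O o' = 1 from
      (QuotientGroup.eq_one_iff o').2 ho', one_mul, ← hval]
    exact c.s.mem_sub.2 hn
  · obtain ⟨m, he, hm⟩ := c.lift_conj (g := QuotientGroup.mk' O g) (n := toM (sv i))
      (m := toM (sv (π (QuotientGroup.mk' O g) i))) (hact _ i)
    rw [show c.s.φ = sQ.φ from rfl, hval, hval, ← map_inv, ← map_mul, ← map_mul] at he
    obtain ⟨o, ho, e⟩ := hmem he
    exact ⟨o, ho, m, hm, e⟩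

/-- The action. -/
noncomputable def pi : ↥d.C →* Equiv.Perm (Fin 5) := d.exists_pi.choose

theorem pi_range : d.pi.range = alternatingGroup (Fin 5) := d.exists_pi.choose_spec.1

theorem pi_ker (x : ↥d.C) : d.pi x = 1 ↔ ∃ o ∈ θ d.z, ∃ n, inQ n = true ∧ (x : G) = o * d.s.φ n :=
  d.exists_pi.choose_spec.2.1 x

theorem pi_spec (g : ↥d.C) (i : Fin 5) : ∃ o ∈ θ d.z, ∃ m,
    (m = toM (sv (d.pi g i)) ∨ m = mulM (toM (sv (d.pi g i))) 16) ∧
    (g : G) * d.s.φ (toM (sv i)) * (g : G)⁻¹ = o * d.s.φ m :=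
  d.exists_pi.choose_spec.2.2 g i

theorem pi_alt (g : ↥d.C) : d.pi g ∈ alternatingGroup (Fin 5) := d.pi_range ▸ ⟨g, rfl⟩

/-- The action as an element of the alternating group. -/
noncomputable def pA : ↥d.C →* Alt5 := d.pi.codRestrict _ d.pi_alt

theorem pA_eq_one {g : ↥d.C} : d.pA g = 1 ↔ d.pi g = 1 := Subtype.ext_iff

theorem unique_code {o : G} (ho : o ∈ θ d.z) {a m : Fin 128} (h : d.s.φ a = o * d.s.φ m) : a = m ∧ o = 1 := by
  have h1 : o = 1 := two_odd_eq_one d.S.isPGroup' (θ_odd d.z)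
    (by rw [eq_mul_inv_of_mul_eq h.symm]; exact mul_mem (d.s.mem a) (inv_mem (d.s.mem m))) ho
  rw [h1, one_mul] at h
  exact ⟨d.s.inj h, h1⟩

theorem pi_φ (n : Fin 128) : d.pi ⟨d.s.φ n, d.φ_mem_C n⟩ = fourA ⟨(n : ℕ) / 32, by omega⟩ := by
  refine Equiv.ext fun i => sv_inj ?_
  obtain ⟨o, ho, m, hm, e⟩ := d.pi_spec ⟨d.s.φ n, d.φ_mem_C n⟩ i
  rw [d.s.conj] at e
  obtain ⟨e1, -⟩ := d.unique_code ho e
  refine toM_inj _ _ ?_
  rcases four_conj_code n i with h | h <;> rcases hm with hm | hm <;> rw [e1, hm] at h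
  · exact Or.inl h
  · refine Or.inr ?_
    rw [← h, (inQ_16 _).2]
  · exact Or.inr h
  · exact Or.inl (by rw [← (inQ_16 (toM _)).2, h, (inQ_16 _).2])

theorem pi_φ_one {n : Fin 128} : d.pi ⟨d.s.φ n, d.φ_mem_C n⟩ = 1 ↔ inQ n = true := by
  rw [d.pi_φ]
  refine ⟨fun h => ?_, fun h => ?_⟩
  · have := congrArg Fin.val (fourA_mem.2.2.2 _ h)
    simpa [inQ] using this
  · rw [show (⟨(n : ℕ) / 32, by omega⟩ : Fin 4) = 0 from Fin.ext (by simpa [inQ] using h), fourA_mem.2.1]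

/-- Odd elements in the kernel lie in the core. -/
theorem mem_θ_of_pi {x : ↥d.C} (hx : Odd (orderOf x)) (h : d.pi x = 1) : (x : G) ∈ θ d.z := by
  haveI : Fact (Nat.Prime 2) := ⟨Nat.prime_two⟩
  haveI : (Cfsg.oddCore ↥d.C).Normal := Grp.pPrimeCore_isNormal
  obtain ⟨o, ⟨o', ho', rfl⟩, n, hn, e⟩ := (d.pi_ker x).1 h
  set O := Cfsg.oddCore ↥d.C
  set y : ↥d.C := ⟨d.s.φ n, d.φ_mem_C n⟩
  have hxy : x = o' * y := Subtype.ext e
  have hpow : y ^ orderOf x ∈ O := by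
    refine (QuotientGroup.eq_one_iff _).1 ?_
    show QuotientGroup.mk' O (y ^ orderOf x) = 1
    rw [map_pow, show QuotientGroup.mk' O y = QuotientGroup.mk' O x by
      rw [hxy, map_mul, show QuotientGroup.mk' O o' = 1 from (QuotientGroup.eq_one_iff o').2 ho', one_mul],
      ← map_pow, pow_orderOf_eq_one, map_one]
  have h1 : d.s.φ n ^ orderOf x = 1 := two_odd_eq_one d.S.isPGroup' (θ_odd d.z) (pow_mem (d.s.mem n) _)
    ⟨_, hpow, rfl⟩
  obtain ⟨j, hj⟩ := d.S.isPGroup' ⟨d.s.φ n, d.s.mem n⟩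
  have h2 : d.s.φ n ^ 2 ^ j = 1 := congrArg Subtype.val hj
  have h3 : d.s.φ n = 1 := by
    have := pow_gcd_eq_one.2 ⟨h1, h2⟩
    rwa [(hx.coprime_two_right.pow_right j).gcd_eq_one, pow_one] at this
  rw [h3, mul_one] at e
  exact ⟨o', ho', e.symm⟩

/-- An element of odd order commuting with an outer involution lies in the core. -/
theorem mem_θ_of_comm {x b : ↥d.C} (hx : Odd (orderOf x)) (hc : b * x = x * b) (hb : d.pi b ≠ 1)
    (hb2 : d.pi b * d.pi b = 1) : (x : G) ∈ θ d.z := by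
  refine d.mem_θ_of_pi hx (d.pA_eq_one.1 ?_)
  have h2 : d.pA x * d.pA x = 1 := inv_cent (d.pA b) (d.pA x)
    (Subtype.ext hb2) (fun e => hb (d.pA_eq_one.1 e)) (by rw [← map_mul, hc, map_mul])
  obtain ⟨j, hj⟩ := hx
  have h1 : d.pA x ^ orderOf x = 1 := by rw [← map_pow, pow_orderOf_eq_one, map_one]
  rwa [hj, pow_succ, pow_mul, pow_two, h2, one_pow, one_mul] at h1

/-- An odd subgroup normalised by a 2-group covering a four group lies in the core. -/
theorem odd_le_θ_z {U B : Subgroup G} (hU : U ≤ d.C) (hUo : Odd (Nat.card ↥U)) (hB : IsPGroup 2 ↥B)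
    (hBC : B ≤ d.C) (hBU : B ≤ normalizer (U : Set G))
    (h4 : 4 ≤ Nat.card ↥((B.subgroupOf d.C).map d.pA)) : U ≤ θ d.z := by
  haveI : Fact (Nat.Prime 2) := ⟨Nat.prime_two⟩
  set PB := (B.subgroupOf d.C).map d.pA
  set PU := (U.subgroupOf d.C).map d.pA
  have hPBp : IsPGroup 2 ↥PB := (hB.comap_of_injective _ d.C.subtype_injective).map _
  have hsq : ∀ b ∈ PB, b * b = 1 := by
    intro b hb
    obtain ⟨j, hj⟩ := hPBp ⟨b, hb⟩
    have h1 : orderOf b ∣ 2 ^ j := orderOf_dvd_of_pow_eq_one (congrArg Subtype.val hj)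
    obtain ⟨i, -, hi⟩ := (Nat.dvd_prime_pow Nat.prime_two).1 h1
    have h2 : orderOf b ∣ 60 := by
      have := orderOf_dvd_natCard b
      rwa [show Nat.card Alt5 = 60 by rw [Nat.card_eq_fintype_card]; decide +kernel] at this
    refine four_two b (orderOf_dvd_iff_pow_eq_one.1 ?_)
    rw [hi] at h2 ⊢
    have hi2 : i ≤ 2 := by
      by_contra hcon
      exact absurd ((pow_dvd_pow 2 (show 3 ≤ i by omega)).trans h2) (by norm_num)
    exact (pow_dvd_pow 2 hi2).trans (by norm_num)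
  haveI : IsMulCommutative ↥PB := ⟨⟨fun a b => Subtype.ext (by
    calc (a : Alt5) * b = ((a : Alt5) * b)⁻¹ := eq_inv_of_mul_eq_one_left (hsq _ (mul_mem a.2 b.2))
      _ = (b : Alt5)⁻¹ * (a : Alt5)⁻¹ := mul_inv_rev _ _
      _ = _ := by rw [inv_eq_of_mul_eq_one_right (hsq _ b.2), inv_eq_of_mul_eq_one_right (hsq _ a.2)]; rfl)⟩⟩
  have hcyc : ¬ IsCyclic ↥PB := fun hc => by
    obtain ⟨b, hb⟩ := hc.exists_ofOrder_eq_natCard
    have : orderOf b ≤ 2 := Nat.le_of_dvd two_pos (orderOf_dvd_of_pow_eq_one (Subtype.ext (by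
      rw [Subgroup.coe_pow, pow_two, hsq _ b.2]; rfl)))
    omega
  have hnorm : PB ≤ normalizer (PU : Set Alt5) := by
    rintro _ ⟨b, hb, rfl⟩
    refine mem_normalizer_fintype ?_
    rintro _ ⟨x, hx, rfl⟩
    refine ⟨b * x * b⁻¹, mem_subgroupOf.2 ((mem_normalizer_iff.1 (hBU (mem_subgroupOf.1 hb)) _).1
      (mem_subgroupOf.1 hx)), by simp⟩
  have hPUo : Odd (Nat.card ↥PU) := by
    refine hUo.of_dvd_nat ((card_map_dvd _ _).trans ?_)
    rw [Nat.card_congr (subgroupOfEquivOfLe hU).toEquiv]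
  have hcop : (Nat.card ↥PB).Coprime (Nat.card ↥PU) := by
    obtain ⟨i, hi⟩ := IsPGroup.iff_card.1 hPBp
    rw [hi]
    exact Nat.Coprime.pow_left i hPUo.coprime_two_left
  have hbot : PU = ⊥ := by
    rw [← Grp.generated_by_centralizers PB PU hcyc hnorm hcop, eq_bot_iff]
    refine iSup₂_le fun b hb x hx => mem_bot.2 ?_
    have h2 : x * x = 1 := inv_cent b x (hsq b hb.1) hb.2 (mem_centralizer_singleton_iff.1 hx.2).symm
    have h3 : orderOf x ∣ 2 := orderOf_dvd_of_pow_eq_one (by rw [pow_two, h2])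
    have h4 : orderOf x ∣ Nat.card ↥PU := orderOf_mk x hx.1 ▸ orderOf_dvd_natCard _
    exact orderOf_eq_one_iff.1 (Nat.dvd_one.1 (hPUo.coprime_two_left.gcd_eq_one ▸ Nat.dvd_gcd h3 h4))
  intro x hx
  refine d.mem_θ_of_pi (x := ⟨x, hU hx⟩) ?_ (d.pA_eq_one.1 (mem_bot.1 (hbot ▸ ⟨_, mem_subgroupOf.2 hx, rfl⟩)))
  rw [Subgroup.orderOf_mk]
  exact hUo.of_dvd_nat (orderOf_mk x hx ▸ orderOf_dvd_natCard _)

/-- A 2-subgroup of the centralizer can be moved into the Sylow subgroup. -/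
theorem into_S {B : Subgroup G} (hB : IsPGroup 2 ↥B) (hBC : B ≤ d.C) :
    ∃ k ∈ d.C, cI k B ≤ (d.S : Subgroup G) := by
  obtain ⟨k, hk, P, hP, -, hSP, hBP⟩ := align d.C B (d.S : Subgroup G) hB hBC d.S.isPGroup' d.S_le_C
  exact ⟨k, hk, (d.S.3 hP hSP) ▸ hBP⟩

/-- The two criteria for covering a four group. -/
theorem image_four {B : Subgroup G} (hB : IsPGroup 2 ↥B) (hBC : B ≤ d.C)
    (h : (16 ≤ Nat.card ↥B ∧ (∀ x ∈ B, x * x = 1) ∧ ∀ x ∈ B, ∀ y ∈ B, x * y = y * x) ∨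
      4 * {x : G | x ∈ B ∧ (x * x = 1 ∨ x * x = d.z)}.ncard ≤ Nat.card ↥B) :
    4 ≤ Nat.card ↥((B.subgroupOf d.C).map d.pA) := by
  obtain ⟨k, hk, hkB⟩ := d.into_S hB hBC
  set BC := B.subgroupOf d.C
  set f := d.pA.comp BC.subtype
  have hrange : f.range = BC.map d.pA := by rw [MonoidHom.range_comp, Subgroup.range_subtype]
  have hprod := f.ker.card_mul_index
  rw [index_ker, hrange, Nat.card_congr (subgroupOfEquivOfLe hBC).toEquiv] at hprod
  -- elements of the kernel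
  have hker : ∀ x ∈ f.ker, ∃ n, inQ n = true ∧ k * ((x : ↥d.C) : G) * k⁻¹ = d.s.φ n := by
    intro x hx
    obtain ⟨n, hn⟩ := d.s.surj _ (hkB (mem_cI (mem_subgroupOf.1 x.2)))
    refine ⟨n, ?_, hn.symm⟩
    rw [← d.pi_φ_one, show (⟨d.s.φ n, d.φ_mem_C n⟩ : ↥d.C) = ⟨k, hk⟩ * (x : ↥d.C) * ⟨k, hk⟩⁻¹ from Subtype.ext hn,
      map_mul, map_mul, map_inv, show d.pi (x : ↥d.C) = 1 from d.pA_eq_one.1 (MonoidHom.mem_ker.1 hx), mul_one,
      mul_inv_cancel]
  have hsqc : ∀ n, inQ n = true → mulM n n = 0 ∨ mulM n n = 16 := by decide +kernel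
  rcases h with ⟨h16, hsq, hcomm⟩ | h
  · have hle : Nat.card ↥f.ker ≤ 4 := by
      have hN : ∀ x y : ↥f.ker, ∀ n m, inQ n = true → inQ m = true →
          k * (((x : ↥BC) : ↥d.C) : G) * k⁻¹ = d.s.φ n → k * (((y : ↥BC) : ↥d.C) : G) * k⁻¹ = d.s.φ m →
          n = 0 ∨ n = 16 ∨ m = 0 ∨ m = 16 ∨ m = n ∨ m = mulM n 16 := by
        intro x y n m hn hm ex ey
        refine q_inv_comm n m hn hm ?_ ?_ ?_
        · rw [← d.s.sq, ← ex, show ∀ a : G, k * a * k⁻¹ * (k * a * k⁻¹) = k * (a * a) * k⁻¹ from fun a => by group,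
            hsq _ (mem_subgroupOf.1 (x : ↥BC).2), mul_one, mul_inv_cancel]
        · rw [← d.s.sq, ← ey, show ∀ a : G, k * a * k⁻¹ * (k * a * k⁻¹) = k * (a * a) * k⁻¹ from fun a => by group,
            hsq _ (mem_subgroupOf.1 (y : ↥BC).2), mul_one, mul_inv_cancel]
        · rw [← d.s.commute, ← ex, ← ey]
          have := hcomm _ (mem_subgroupOf.1 (x : ↥BC).2) _ (mem_subgroupOf.1 (y : ↥BC).2)
          calc _ = k * ((((x : ↥BC) : ↥d.C) : G) * (((y : ↥BC) : ↥d.C) : G)) * k⁻¹ := by group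
            _ = k * ((((y : ↥BC) : ↥d.C) : G) * (((x : ↥BC) : ↥d.C) : G)) * k⁻¹ := by rw [this]
            _ = _ := by group
      choose ν hνQ hν using fun x : ↥f.ker => hker x x.2
      have hinj : Function.Injective ν := fun x y e => Subtype.ext (Subtype.ext (Subtype.ext
        (mul_left_cancel (mul_right_cancel ((hν x).trans ((congrArg d.s.φ e).trans (hν y).symm))))))
      by_cases hex : ∃ x, ν x ≠ 0 ∧ ν x ≠ 16
      · obtain ⟨x, hx0, hx16⟩ := hex
        have hmem : ∀ y, ν y ∈ ({0, 16, ν x, mulM (ν x) 16} : Finset (Fin 128)) := fun y => by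
          rcases hN x y _ _ (hνQ x) (hνQ y) (hν x) (hν y) with e | e | e | e | e | e <;>
            simp [e] at hx0 hx16 ⊢
        refine (Nat.card_le_card_of_injective (fun y => (⟨ν y, hmem y⟩ : ({0, 16, ν x, mulM (ν x) 16} : Finset (Fin 128))))
          fun a b e => hinj (congrArg Subtype.val e)).trans ?_
        rw [Nat.card_eq_fintype_card, Fintype.card_coe]
        exact Finset.card_le_four
      · push Not at hex
        have hmem : ∀ y, ν y ∈ ({0, 16} : Finset (Fin 128)) := fun y => by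
          by_cases e : ν y = 0
          · simp [e]
          · simp [hex y e]
        refine (Nat.card_le_card_of_injective (fun y => (⟨ν y, hmem y⟩ : ({0, 16} : Finset (Fin 128))))
          fun a b e => hinj (congrArg Subtype.val e)).trans ?_
        rw [Nat.card_eq_fintype_card, Fintype.card_coe]
        exact Finset.card_le_two.trans (by norm_num)
    nlinarith
  · have hle : Nat.card ↥f.ker ≤ {x : G | x ∈ B ∧ (x * x = 1 ∨ x * x = d.z)}.ncard := by
      rw [← Nat.card_coe_set_eq]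
      refine Nat.card_le_card_of_injective (fun x => ⟨_, mem_subgroupOf.1 (x : ↥BC).2, ?_⟩)
        fun a b e => Subtype.ext (Subtype.ext (Subtype.ext (congrArg Subtype.val e :)))
      obtain ⟨n, hn, e⟩ := hker x x.2
      set a := (((x : ↥BC) : ↥d.C) : G)
      have ea : a * a = k⁻¹ * d.s.φ (mulM n n) * k := by rw [← d.s.mul, ← e]; group
      show a * a = 1 ∨ a * a = d.z
      rcases hsqc n hn with e' | e' <;> rw [ea, e']
      · exact Or.inl (by rw [d.s.one, mul_one, inv_mul_cancel])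
      · exact Or.inr (by rw [mul_assoc, ← mem_centralizer_singleton_iff.1 hk, inv_mul_cancel_left])
    have hpos : 0 < Nat.card ↥f.ker := Nat.card_pos
    nlinarith

/-- An odd subgroup of the centralizer of a conjugate of `z` normalised by a covering 2-group lies in the core. -/
theorem odd_le_θ {a : G} (ha : IsConj d.z a) {U B : Subgroup G} (hU : U ≤ centralizer ({a} : Set G))
    (hUo : Odd (Nat.card ↥U)) (hB : IsPGroup 2 ↥B) (hBC : B ≤ centralizer ({a} : Set G))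
    (hBU : B ≤ normalizer (U : Set G))
    (h : (16 ≤ Nat.card ↥B ∧ (∀ x ∈ B, x * x = 1) ∧ ∀ x ∈ B, ∀ y ∈ B, x * y = y * x) ∨
      4 * {x : G | x ∈ B ∧ (x * x = 1 ∨ x * x = a)}.ncard ≤ Nat.card ↥B) : U ≤ θ a := by
  obtain ⟨g, rfl⟩ := _root_.isConj_iff.1 ha
  have hback : ∀ {X : Subgroup G}, X ≤ centralizer ({g * d.z * g⁻¹} : Set G) → cI g⁻¹ X ≤ d.C := by
    intro X hX b hb
    have := Shape.cI_centralizes (g := g⁻¹) (x := g * d.z * g⁻¹)
      (fun y hy => (mem_centralizer_singleton_iff.1 (hX hy)).symm) b hb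
    refine mem_centralizer_singleton_iff.2 ?_
    rw [show g⁻¹ * (g * d.z * g⁻¹) * g⁻¹⁻¹ = d.z by group] at this
    exact this.symm
  have hsq : ∀ y : G, g⁻¹ * y * g * (g⁻¹ * y * g) = g⁻¹ * (y * y) * g := fun y => by group
  have hmain : cI g⁻¹ U ≤ θ d.z := by
    refine d.odd_le_θ_z (hback hU) (by rwa [card_cI]) (hB.map _) (hback hBC) ?_ (d.image_four (hB.map _) (hback hBC) ?_)
    · rintro _ ⟨b, hb, rfl⟩
      refine mem_normalizer_fintype ?_
      rintro _ ⟨x, hx, rfl⟩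
      exact ⟨b * x * b⁻¹, (mem_normalizer_iff.1 (hBU hb) _).1 hx, by simp [mul_assoc]⟩
    · rcases h with ⟨h16, hs, hc⟩ | h
      · refine Or.inl ⟨by rwa [card_cI], ?_, ?_⟩
        · rintro _ ⟨x, hx, rfl⟩
          rw [← map_mul, hs x hx, map_one]
        · rintro _ ⟨x, hx, rfl⟩ _ ⟨y, hy, rfl⟩
          rw [← map_mul, ← map_mul, hc x hx y hy]
      · refine Or.inr ?_
        rw [card_cI]
        refine le_trans (Nat.mul_le_mul_left 4 ?_) h
        refine Set.ncard_le_ncard_of_injOn (fun y => g * y * g⁻¹) ?_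
          (fun x _ y _ e => mul_left_cancel (mul_right_cancel e)) (Set.toFinite {x | x ∈ B ∧ (x * x = 1 ∨ x * x = g * d.z * g⁻¹)})
        rintro _ ⟨⟨x, hx, rfl⟩, hx2⟩
        have e : g * (g⁻¹ * x * g⁻¹⁻¹) * g⁻¹ = x := by group
        refine ⟨(show g * (g⁻¹ * x * g⁻¹⁻¹) * g⁻¹ ∈ B by rw [e]; exact hx), ?_⟩
        show g * _ * g⁻¹ * (g * _ * g⁻¹) = 1 ∨ g * _ * g⁻¹ * (g * _ * g⁻¹) = g * d.z * g⁻¹
        rcases hx2 with h2 | h2
        · refine Or.inl ?_
          rw [show ∀ y : G, g * y * g⁻¹ * (g * y * g⁻¹) = g * (y * y) * g⁻¹ from fun y => by group, h2,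
            mul_one, mul_inv_cancel]
        · refine Or.inr ?_
          rw [show ∀ y : G, g * y * g⁻¹ * (g * y * g⁻¹) = g * (y * y) * g⁻¹ from fun y => by group, h2]
  intro x hx
  have := θ_conj (g := g) (hmain (mem_cI hx))
  simpa [mul_assoc] using this

/-- Generation of the centralizer. -/
theorem C_le_of {M : Subgroup G} (hθ : θ d.z ≤ M) (hS : (d.S : Subgroup G) ≤ M) {g : ↥d.C}
    (hgM : (g : G) ∈ M) (hg : d.pi g 4 ≠ 4) : d.C ≤ M := by
  classical
  set R := (M.subgroupOf d.C).map d.pA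
  have hF : ∀ i : Fin 4, ∃ a ∈ R, (a : Equiv.Perm (Fin 5)) = fourA i := fun i => by
    set n : Fin 128 := ⟨32 * (i : ℕ), by omega⟩
    refine ⟨d.pA ⟨d.s.φ n, d.φ_mem_C n⟩, ⟨_, mem_subgroupOf.2 (hS (d.s.mem n)), rfl⟩, ?_⟩
    show d.pi _ = _
    rw [d.pi_φ]
    exact congrArg fourA (Fin.ext (show 32 * (i : ℕ) / 32 = i by omega))
  choose fA hfA hfA' using hF
  have hgR : d.pA g ∈ R := ⟨g, mem_subgroupOf.2 hgM, rfl⟩
  have hord : ∀ p : ℕ, p.Prime → (∃ i j k : Fin 4, (fourA i * d.pi g * fourA j * d.pi g * fourA k) ^ p = 1 ∧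
      fourA i * d.pi g * fourA j * d.pi g * fourA k ≠ 1) → p ∣ Nat.card ↥R := by
    rintro p hp ⟨i, j, k, h1, h2⟩
    haveI : Fact p.Prime := ⟨hp⟩
    set w := fA i * d.pA g * fA j * d.pA g * fA k
    have hw : (w : Equiv.Perm (Fin 5)) = fourA i * d.pi g * fourA j * d.pi g * fourA k := by
      simp only [w, Subgroup.coe_mul, hfA']; rfl
    have hwR : w ∈ R := mul_mem (mul_mem (mul_mem (mul_mem (hfA i) hgR) (hfA j)) hgR) (hfA k)
    have ho : orderOf w = p := orderOf_eq_prime (Subtype.ext (by rw [Subgroup.coe_pow, hw, h1]; rfl))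
      (fun e => h2 (by rw [← hw, e]; rfl))
    exact ho ▸ orderOf_mk w hwR ▸ orderOf_dvd_natCard _
  obtain ⟨h3, h5⟩ : 3 ∣ Nat.card ↥R ∧ 5 ∣ Nat.card ↥R := by
    obtain ⟨i, j, k, ⟨h1, h2⟩, i', j', k', h1', h2'⟩ := gen_words (d.pA g) hg
    exact ⟨hord 3 Nat.prime_three ⟨i, j, k, h1, h2⟩, hord 5 (by norm_num) ⟨i', j', k', h1', h2'⟩⟩
  have h4 : 4 ∣ Nat.card ↥R := by
    have hV : fourG ≤ R.map (alternatingGroup (Fin 5)).subtype := by
      rintro _ ⟨i, rfl⟩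
      exact ⟨_, hfA i, hfA' i⟩
    have := Subgroup.card_dvd_of_le hV
    rwa [card_fourG, card_map_of_injective (Subgroup.subtype_injective _)] at this
  have h60 : 60 ∣ Nat.card ↥R :=
    (Nat.Coprime.mul_dvd_of_dvd_of_dvd (by norm_num) (Nat.Coprime.mul_dvd_of_dvd_of_dvd (by norm_num) h4 h3) h5 :
      4 * 3 * 5 ∣ _)
  have htop : R = ⊤ := eq_top_of_card_eq _ (le_antisymm (card_le_card_group R)
    (Nat.le_of_dvd Nat.card_pos (by
      rwa [show Nat.card Alt5 = 60 by rw [Nat.card_eq_fintype_card]; decide +kernel])))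
  intro x hx
  obtain ⟨y, hy, hye⟩ := (htop.ge (mem_top (d.pA ⟨x, hx⟩)) : d.pA ⟨x, hx⟩ ∈ R)
  have h1 : d.pi (⟨x, hx⟩ * y⁻¹) = 1 := d.pA_eq_one.1 (by rw [map_mul, map_inv, hye, mul_inv_cancel])
  obtain ⟨o, ho, n, -, e⟩ := (d.pi_ker _).1 h1
  have hxy : x * (y : G)⁻¹ ∈ M := by
    rw [show x * (y : G)⁻¹ = ((⟨x, hx⟩ * y⁻¹ : ↥d.C) : G) from rfl, e]
    exact mul_mem (hθ ho) (hS (d.s.mem n))
  simpa using mul_mem hxy (mem_subgroupOf.1 hy)

end Setting

end Cfsg.Agent.Spor.JTwoType
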