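import Cfsg.Agent.Lib.Spor.JTwoType.Closure

/-!
# Tools for the balance in the case of two classes of involutions

The signalizers of the central four group meet in one subgroup `Y`; an invariant subgroup of the core at `z` is
generated by the centralizers of the five pairs of involutions.
-/

set_option autoImplicit false
set_option linter.unusedSectionVars false
set_option linter.style.haveILetI false
set_option maxRecDepth 100000

namespace Cfsg.Agent.Spor.JTwoType

open Subgroup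

universe u

theorem V_codes : inFour 16 = true ∧ inFour 15 = true ∧ inFour 31 = true ∧ inA1 16 = true ∧ inA1 15 = true ∧
    inA1 31 = true ∧ inE 6 = true ∧ mulM 6 6 = 16 := by decide +kernel

theorem inner_not_E : ∀ s : Fin 128, inE (conjM s 1) = false := by decide +kernel

theorem conj_one_E : ∀ n : Fin 128, inE n = true → inFour (conjM 1 n) = true → inFour n = true := by
  decide +kernel

theorem Q_comm : ∀ n m : Fin 128, inQ n = true → inQ m = true →
    mulM n m = mulM m n ∨ mulM n m = mulM (mulM m n) 16 := by decide +kernel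

theorem Q_sq : ∀ n : Fin 128, inQ n = true → mulM n n = 0 ∨ mulM n n = 16 := by decide +kernel

theorem gen_codes : inQ 1 = true ∧ inQ 2 = true ∧ inQ 4 = true ∧ inQ 8 = true ∧ inQ 5 = true ∧ inQ 3 = true ∧
    inQ 9 = true ∧ mulM (mulM 5 3) 9 ∈ ([15, 31] : List (Fin 128)) ∧
    mulM 1 4 ∈ ([5, 21] : List (Fin 128)) ∧ mulM 1 2 ∈ ([3, 19] : List (Fin 128)) ∧
    mulM 1 8 ∈ ([9, 25] : List (Fin 128)) ∧
    mulM 5 16 = 21 ∧ mulM 3 16 = 19 ∧ mulM 9 16 = 25 ∧
    toM (sv 0) = 1 ∧ toM (sv 1) = 2 ∧ toM (sv 2) = 4 ∧ toM (sv 3) = 8 ∧ toM (sv 4) = 15 := by decide +kernel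

variable {G : Type u} [Group G] [Finite G]

/-- An element can be moved to commute with an involution by an element of the group it generates with it. -/
theorem exists_mul_comm {x v : G} (hv : v * v = 1) (ho : Odd (orderOf (x⁻¹ * v * x * v))) :
    ∃ u ∈ zpowers (x⁻¹ * v * x * v), x * u * v = v * (x * u) := by
  obtain ⟨k, hk⟩ := ho
  set o := x⁻¹ * v * x * v with ho'
  have hvi : v⁻¹ = v := inv_eq_of_mul_eq_one_right hv
  have hinv : v * o * v⁻¹ = o⁻¹ := by
    rw [ho', hvi, mul_inv_rev, mul_inv_rev, mul_inv_rev, inv_inv, hvi]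
    calc v * (x⁻¹ * v * x * v) * v = v * x⁻¹ * v * x * (v * v) := by group
      _ = _ := by rw [hv, mul_one]; group
  have huu : o ^ (k + 1) * o ^ (k + 1) = o := by
    rw [← pow_add, show k + 1 + (k + 1) = orderOf o + 1 by omega, pow_succ, pow_orderOf_eq_one, one_mul]
  have huv : v * o ^ (k + 1) * v⁻¹ = (o ^ (k + 1))⁻¹ := by
    rw [← inv_pow, ← hinv]
    exact ((MulAut.conj v).toMonoidHom.map_pow o (k + 1))
  refine ⟨o ^ (k + 1), pow_mem (mem_zpowers o) _, ?_⟩
  set u := o ^ (k + 1)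
  calc x * u * v = x * (o * u⁻¹) * v := by rw [← eq_mul_inv_of_mul_eq huu]
    _ = x * o * (v * u * v⁻¹) * v := by rw [huv]; group
    _ = v * (x * u) := by
      rw [show x * o = v * x * v by rw [ho']; group]
      calc v * x * v * (v * u * v⁻¹) * v = v * x * (v * v) * u * (v⁻¹ * v) := by group
        _ = _ := by rw [hv, inv_mul_cancel, mul_one, mul_one, mul_assoc]

/-- Generation by the centralizers of a four group. -/
theorem gen_four {a b : G} (ha2 : a * a = 1) (hb2 : b * b = 1) (hab : a * b = b * a) (ha1 : a ≠ 1)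
    (hb1 : b ≠ 1) (hne : a ≠ b) {U : Subgroup G} (hU : Odd (Nat.card ↥U)) (haU : a ∈ normalizer (U : Set G))
    (hbU : b ∈ normalizer (U : Set G)) :
    U ≤ U ⊓ centralizer ({a} : Set G) ⊔ U ⊓ centralizer ({b} : Set G) ⊔ U ⊓ centralizer ({a * b} : Set G) := by
  haveI : Fact (Nat.Prime 2) := ⟨Nat.prime_two⟩
  let B : Subgroup G :=
    { carrier := {x | x = 1 ∨ x = a ∨ x = b ∨ x = a * b}
      one_mem' := Or.inl rfl
      mul_mem' := by
        have e1 : a * (a * b) = b := by rw [← mul_assoc, ha2, one_mul]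
        have e2 : a * b * a = b := by rw [hab, mul_assoc, ha2, mul_one]
        have e3 : b * (a * b) = a := by rw [hab, ← mul_assoc, hb2, one_mul]
        have e4 : a * b * b = a := by rw [mul_assoc, hb2, mul_one]
        have e5 : a * b * (a * b) = 1 := by rw [← mul_assoc, e2, hb2]
        rintro x y (rfl | rfl | rfl | rfl) (rfl | rfl | rfl | rfl) <;>
          simp [ha2, hb2, e1, e2, e3, e4, e5, ← hab]
      inv_mem' := by
        have e : (a * b)⁻¹ = a * b := by
          rw [mul_inv_rev, inv_eq_of_mul_eq_one_right ha2, inv_eq_of_mul_eq_one_right hb2, hab]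
        rintro x (rfl | rfl | rfl | rfl) <;>
          simp [e, inv_eq_of_mul_eq_one_right ha2, inv_eq_of_mul_eq_one_right hb2] }
  have hsq : ∀ x ∈ B, x * x = 1 := by
    rintro x (rfl | rfl | rfl | rfl)
    exacts [mul_one 1, ha2, hb2, by rw [← mul_assoc, hab, mul_assoc b a a, ha2, mul_one, hb2]]
  haveI := commute_of_sq hsq
  have hab1 : a * b ≠ 1 := fun e => hne (by
    rw [eq_inv_of_mul_eq_one_left e, inv_eq_of_mul_eq_one_right hb2])
  have h4 : 4 ≤ Nat.card ↥B := by
    have hsub : ({1, a, b, a * b} : Set G) ⊆ B := by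
      rintro x (rfl | rfl | rfl | rfl)
      exacts [Or.inl rfl, Or.inr (Or.inl rfl), Or.inr (Or.inr (Or.inl rfl)), Or.inr (Or.inr (Or.inr rfl))]
    have h := Set.ncard_le_ncard hsub (Set.toFinite _)
    rw [Set.ncard_insert_of_notMem, Set.ncard_insert_of_notMem, Set.ncard_insert_of_notMem, Set.ncard_singleton] at h
    · rwa [← Nat.card_coe_set_eq] at h
    · simp only [Set.mem_singleton_iff]
      exact fun e => ha1 (mul_eq_right.1 e.symm)
    · simp only [Set.mem_insert_iff, Set.mem_singleton_iff]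
      rintro (e | e)
      exacts [hne e, hb1 (mul_eq_left.1 e.symm)]
    · simp only [Set.mem_insert_iff, Set.mem_singleton_iff]
      rintro (e | e | e)
      exacts [ha1 e.symm, hb1 e.symm, hab1 e.symm]
  have hBp : IsPGroup 2 ↥B := fun x => ⟨1, Subtype.ext (by rw [Subgroup.coe_pow, pow_one, pow_two]; exact hsq x x.2)⟩
  have hBU : B ≤ normalizer (U : Set G) := by
    rintro x (rfl | rfl | rfl | rfl)
    exacts [one_mem _, haU, hbU, mul_mem haU hbU]
  obtain ⟨i, hi⟩ := IsPGroup.iff_card.1 hBp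
  conv_lhs => rw [← Grp.generated_by_centralizers B U (not_cyclic_four hsq h4) hBU
    (hi ▸ Nat.Coprime.pow_left i hU.coprime_two_left)]
  refine iSup₂_le ?_
  rintro x ⟨hx | hx | hx | hx, hx1⟩
  · exact absurd hx hx1
  · rw [hx]; exact le_sup_of_le_left le_sup_left
  · rw [hx]; exact le_sup_of_le_left le_sup_right
  · rw [hx]; exact le_sup_right

namespace Setting

variable (d : Setting G)

theorem φ_mem_V {n : Fin 128} (h : inFour n = true) : d.s.φ n ∈ d.subV := d.s.mem_sub.2 h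

theorem z_mem_V : d.z ∈ d.subV := d.φ_mem_V V_codes.1

theorem c_mem_V : d.s.φ 15 ∈ d.subV := d.φ_mem_V V_codes.2.1

theorem z_ne_one : d.z ≠ 1 := d.ne_one_φ (by decide)

theorem c_ne_one : d.s.φ 15 ≠ 1 := d.ne_one_φ (by decide)

theorem z_ne_c : d.z ≠ d.s.φ 15 := fun e => absurd (d.s.inj e) (by decide)

theorem z_sq : d.z * d.z = 1 := d.s.sq.2 (inFour_closed.2.2 16 V_codes.1)

theorem V_cases {v : G} (hv : v ∈ d.subV) : v = 1 ∨ v = d.z ∨ v = d.s.φ 15 ∨ v = d.s.φ 31 := by
  obtain ⟨n, hn, rfl⟩ := hv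
  rcases inFour_cases n hn with e | e | e | e <;> rw [e]
  · exact Or.inl d.s.one
  · exact Or.inr (Or.inl rfl)
  · exact Or.inr (Or.inr (Or.inl rfl))
  · exact Or.inr (Or.inr (Or.inr rfl))

theorem z_conj_V {v : G} (hv : v ∈ d.subV) (h1 : v ≠ 1) : IsConj d.z v := by
  obtain ⟨n, hn, rfl⟩ := hv
  exact d.z_conj_four hn fun e => h1 (by rw [e, d.s.one])

theorem subV_le_subE : d.subV ≤ d.s.subE := d.subV_le_subA.trans d.subA_le_subE

theorem subE_le_S : d.s.subE ≤ (d.S : Subgroup G) := d.s.sub_le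

theorem V_sq {v : G} (hv : v ∈ d.subV) : v * v = 1 := d.s.sq_subA (d.subV_le_subA hv)

/-- Balance towards the central four group. -/
theorem bal_V {a v : G} (ha : a ∈ d.s.subA) (hv : v ∈ d.subV) (hv1 : v ≠ 1) :
    θ a ⊓ centralizer ({v} : Set G) ≤ θ v := by
  have hvA := d.subV_le_subA hv
  refine d.odd_le_θ (d.z_conj_V hv hv1) inf_le_right
    ((θ_odd a).of_dvd_nat (card_dvd_of_le inf_le_left)) (d.S.isPGroup'.to_le d.s.sub_le)
    (fun x hx => mem_centralizer_singleton_iff.2 (d.s.comm_subA hx hvA)) (fun x hx => ?_)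
    (Or.inl ⟨d.s.card_subA.ge, fun x hx => d.s.sq_subA hx, fun x hx y hy => d.s.comm_subA hx hy⟩)
  refine mem_normalizer_fintype fun y hy => ⟨θ_normal (d.s.comm_subA hx ha) hy.1, ?_⟩
  have hcx : Commute x v := d.s.comm_subA hx hvA
  exact mem_centralizer_singleton_iff.2 ((hcx.mul_left (mem_centralizer_singleton_iff.1 hy.2)).mul_left hcx.inv_left).eq

theorem comm_of_mem_θ {a x : G} (hx : x ∈ θ a) : x * a = a * x := mem_centralizer_singleton_iff.1 (θ_le a hx)

theorem odd_of_mem_θ {a x : G} (hx : x ∈ θ a) : Odd (orderOf x) :=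
  (θ_odd a).of_dvd_nat (Subgroup.orderOf_dvd_natCard _ hx)

/-- The common part of the signalizers of the central four group. -/
def Y : Subgroup G := θ d.z ⊓ θ (d.s.φ 15)

theorem Y_le {v : G} (hv : v ∈ d.subV) (hv1 : v ≠ 1) : d.Y ≤ θ v := by
  intro x hx
  refine d.bal_V (a := d.z) (d.subV_le_subA d.z_mem_V) hv hv1 ⟨hx.1, mem_centralizer_singleton_iff.2 ?_⟩
  have h1 : Commute x d.z := comm_of_mem_θ hx.1
  have h2 : Commute x (d.s.φ 15) := comm_of_mem_θ hx.2
  rcases d.V_cases hv with e | e | e | e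
  · exact absurd e hv1
  · rw [e]; exact h1.eq
  · rw [e]; exact h2.eq
  · rw [e, ← pair_codes.2.2.1, ← d.s.mul]; exact (h2.mul_right h1).eq

theorem mem_Y {u w x : G} (hu : u ∈ d.subV) (hu1 : u ≠ 1) (hw : w ∈ d.subV) (hw1 : w ≠ 1) (huw : u ≠ w)
    (hx : x ∈ θ u) (hxw : x * w = w * x) : x ∈ d.Y := by
  have hcu : Commute x u := comm_of_mem_θ hx
  have hall : ∀ v ∈ d.subV, Commute x v := by
    intro v hv
    have hz : Commute x d.z ∧ Commute x (d.s.φ 15) := by
      have h31 : ∀ {a b : G}, a = d.z → b = d.s.φ 31 → Commute x a → Commute x b → Commute x (d.s.φ 15) := by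
        rintro a b rfl rfl h1 h2
        rw [← pair_codes.2.2.2, ← d.s.mul]
        exact h2.mul_right h1
      have hz31 : ∀ {a b : G}, a = d.s.φ 15 → b = d.s.φ 31 → Commute x a → Commute x b → Commute x d.z := by
        rintro a b rfl rfl h1 h2
        show Commute x (d.s.φ 16)
        rw [← pair_codes.1, ← d.s.mul]
        exact h1.mul_right h2
      rcases d.V_cases hu with e | e | e | e <;> rcases d.V_cases hw with e' | e' | e' | e'
      all_goals first
        | exact absurd e hu1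
        | exact absurd e' hw1
        | exact absurd (e.trans e'.symm) huw
        | exact ⟨e ▸ hcu, e' ▸ hxw⟩
        | exact ⟨e' ▸ hxw, e ▸ hcu⟩
        | exact ⟨e ▸ hcu, h31 e e' hcu hxw⟩
        | exact ⟨e' ▸ hxw, h31 e' e hxw hcu⟩
        | exact ⟨hz31 e e' hcu hxw, e ▸ hcu⟩
        | exact ⟨hz31 e' e hxw hcu, e' ▸ hxw⟩
    rcases d.V_cases hv with e | e | e | e <;> rw [e]
    · exact Commute.one_right _
    · exact hz.1
    · exact hz.2
    · rw [← pair_codes.2.2.1, ← d.s.mul]; exact hz.2.mul_right hz.1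
  exact ⟨d.bal_V (d.subV_le_subA hu) d.z_mem_V d.z_ne_one ⟨hx, mem_centralizer_singleton_iff.2 (hall _ d.z_mem_V).eq⟩,
    d.bal_V (d.subV_le_subA hu) d.c_mem_V d.c_ne_one ⟨hx, mem_centralizer_singleton_iff.2 (hall _ d.c_mem_V).eq⟩⟩

theorem Y_odd : Odd (Nat.card ↥d.Y) := (θ_odd d.z).of_dvd_nat (card_dvd_of_le inf_le_left)

theorem Y_comm {x v : G} (hx : x ∈ d.Y) (hv : v ∈ d.subV) : x * v = v * x := by
  by_cases h : v = 1
  · rw [h, mul_one, one_mul]
  · exact comm_of_mem_θ (d.Y_le hv h hx)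

theorem Y_conj {g x : G} (hg : g ∈ normalizer (d.subV : Set G)) (hx : x ∈ d.Y) : g * x * g⁻¹ ∈ d.Y := by
  refine d.mem_Y ((mem_normalizer_iff.1 hg _).1 d.z_mem_V) (fun e => d.z_ne_one (conj_eq_one_iff.1 e))
    ((mem_normalizer_iff.1 hg _).1 d.c_mem_V) (fun e => d.c_ne_one (conj_eq_one_iff.1 e))
    (fun e => d.z_ne_c (mul_left_cancel (mul_right_cancel e))) (θ_conj hx.1) ?_
  calc g * x * g⁻¹ * (g * d.s.φ 15 * g⁻¹) = g * (x * d.s.φ 15) * g⁻¹ := by group
    _ = g * (d.s.φ 15 * x) * g⁻¹ := by rw [d.Y_comm hx d.c_mem_V]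
    _ = _ := by group

theorem NV_le_NY : normalizer (d.subV : Set G) ≤ normalizer (d.Y : Set G) := fun _ hg =>
  mem_normalizer_fintype fun _ hx => d.Y_conj hg hx

theorem S_le_NV : (d.S : Subgroup G) ≤ normalizer (d.subV : Set G) := fun x hx => by
  obtain ⟨n, rfl⟩ := d.s.surj x hx
  refine mem_normalizer_fintype ?_
  rintro _ ⟨m, hm, rfl⟩
  rw [d.s.conj]
  exact d.s.mem_sub.2 (four_conj m hm n)

theorem S_le_Nθz : (d.S : Subgroup G) ≤ normalizer (θ d.z : Set G) := fun x hx => by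
  refine mem_normalizer_fintype fun y hy => θ_normal ?_ hy
  obtain ⟨n, rfl⟩ := d.s.surj x hx
  exact d.s.comm_16 n

theorem E_comm_V {x v : G} (hx : x ∈ d.s.subE) (hv : v ∈ d.subV) : x * v = v * x := by
  have hc : Commute x (d.s.φ 15) := d.comm_c hx
  have hz : Commute x d.z := (mem_centralizer_singleton_iff.1 (d.subE_le_C hx) : x * d.s.φ 16 = d.s.φ 16 * x)
  rcases d.V_cases hv with e | e | e | e <;> rw [e]
  · simp
  · exact hz.eq
  · exact hc.eq
  · rw [← pair_codes.2.2.1, ← d.s.mul]; exact (hc.mul_right hz).eq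

theorem E_le_Nθ {v : G} (hv : v ∈ d.subV) : d.s.subE ≤ normalizer (θ v : Set G) := fun _ hx =>
  mem_normalizer_fintype fun _ hy => θ_normal (d.E_comm_V hx hv) hy

/-- An element of `S` centralising `c` lies in the maximal subgroup. -/
theorem mem_subE_of_comm {x : G} (hx : x ∈ (d.S : Subgroup G)) (h : x * d.s.φ 15 = d.s.φ 15 * x) :
    x ∈ d.s.subE := by
  obtain ⟨n, rfl⟩ := d.s.surj x hx
  exact d.s.mem_sub.2 ((inE_iff n).1.symm ▸ d.s.commute.1 h)

/-- An element cycling the four group, commuting with a given outer involution. -/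
theorem V_conj {r : Fin 128} (hr : inA1 r = true) (hr4 : inFour r = false) {v : G} (hv : v ∈ d.subV) (hv1 : v ≠ 1) :
    ∃ a : G, a * d.z * a⁻¹ = v ∧ a ∈ normalizer (d.s.subA : Set G) ∧ a * d.s.φ r = d.s.φ r * a := by
  obtain ⟨a, h1, h2, -, h4, h5⟩ := d.exists_alpha_fix hr hr4
  rcases d.V_cases hv with e | e | e | e
  · exact absurd e hv1
  · exact ⟨1, by rw [e]; group, one_mem _, by simp⟩
  · exact ⟨a, by rw [e]; exact h1, h4, h5⟩
  · refine ⟨a * a, ?_, mul_mem h4 h4, (Commute.mul_left h5 h5).eq⟩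
    rw [e, show a * a * d.z * (a * a)⁻¹ = a * (a * d.z * a⁻¹) * a⁻¹ by group, h1, h2]

/-- Odd elements centralising a four group meeting the central one once lie in the core. -/
theorem mem_θ_odd {r : Fin 128} (hr : inA1 r = true) (hr4 : inFour r = false) {v x : G} (hv : v ∈ d.subV)
    (hv1 : v ≠ 1) (hx : Odd (orderOf x)) (hxv : x * v = v * x) (hxr : x * d.s.φ r = d.s.φ r * x) : x ∈ θ v := by
  obtain ⟨a, ha, -, har⟩ := d.V_conj hr hr4 hv hv1
  have hC : a⁻¹ * x * a ∈ d.C := mem_centralizer_singleton_iff.2 (by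
    show a⁻¹ * x * a * d.z = d.z * (a⁻¹ * x * a)
    calc a⁻¹ * x * a * d.z = a⁻¹ * (x * (a * d.z * a⁻¹)) * a := by group
      _ = a⁻¹ * ((a * d.z * a⁻¹) * x) * a := by rw [ha, hxv]
      _ = _ := by group)
  have hr' : Commute (d.s.φ r) (a⁻¹ * x * a) :=
    ((Commute.inv_left har).symm.mul_right (Commute.symm hxr)).mul_right (Commute.symm har)
  have hodd : Odd (orderOf (⟨_, hC⟩ : ↥d.C)) := by
    rw [Subgroup.orderOf_mk, show a⁻¹ * x * a = MulAut.conj a⁻¹ x by simp, (MulAut.conj a⁻¹).orderOf_eq]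
    exact hx
  have h := d.mem_θ_of_comm (x := ⟨_, hC⟩) (b := ⟨d.s.φ r, d.φ_mem_C r⟩) hodd (Subtype.ext hr'.eq)
    (fun e => by
      have := (inA1_inQ r hr).1.1 (d.pi_φ_one.1 e)
      rw [this] at hr4; exact Bool.noConfusion hr4)
    (by rw [d.pi_φ]; exact (fourA_mem.2.2.1 _).1)
  have h2 := θ_conj (g := a) h
  rw [ha] at h2
  simpa [mul_assoc] using h2

section Generation

/-- An invariant subgroup of the core at `z`, split along a four group modulo `z`. -/
theorem four_split {U : Subgroup G} (hU : U ≤ θ d.z)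
    (hQ : ∀ q, inQ q = true → d.s.φ q ∈ normalizer (U : Set G)) {n m : Fin 128} (hn : inQ n = true)
    (hm : inQ m = true) (hn0 : n ≠ 0) (hn16 : n ≠ 16) (hm0 : m ≠ 0) (hm16 : m ≠ 16) (hnm : n ≠ m)
    (hnm16 : n ≠ mulM m 16) :
    U ≤ U ⊓ centralizer ({d.s.φ n} : Set G) ⊔ U ⊓ centralizer ({d.s.φ m} : Set G) ⊔
      U ⊓ centralizer ({d.s.φ (mulM n m)} : Set G) := by
  set zc : ↥d.C := ⟨d.z, d.φ_mem_C 16⟩
  have hzc : ∀ g : ↥d.C, g * zc = zc * g := fun g => Subtype.ext (mem_centralizer_singleton_iff.1 g.2)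
  haveI : (zpowers zc).Normal := ⟨fun w hw g => by
    obtain ⟨j, rfl⟩ := mem_zpowers_iff.1 hw
    rw [((show Commute g zc from hzc g).zpow_right j).eq, mul_inv_cancel_right]
    exact zpow_mem (mem_zpowers zc) j⟩
  set f := QuotientGroup.mk' (zpowers zc)
  have hone : ∀ {g : ↥d.C}, f g = 1 ↔ (g : G) = 1 ∨ (g : G) = d.z := by
    intro g
    rw [show f g = 1 ↔ g ∈ zpowers zc from QuotientGroup.eq_one_iff g]
    constructor
    · intro hg
      obtain ⟨j, rfl⟩ := mem_zpowers_iff.1 hg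
      rw [Subgroup.coe_zpow]
      show d.z ^ j = 1 ∨ d.z ^ j = d.z
      rcases Int.even_or_odd j with ⟨i, rfl⟩ | ⟨i, rfl⟩
      · exact Or.inl (by rw [zpow_add, ← (Commute.refl d.z).mul_zpow, d.z_sq, one_zpow])
      · exact Or.inr (by rw [zpow_add, zpow_mul, zpow_ofNat, pow_two, d.z_sq, one_zpow, one_mul, zpow_one])
    · rintro (e | e)
      · rw [show g = 1 from Subtype.ext e]; exact one_mem _
      · rw [show g = zc from Subtype.ext e]; exact mem_zpowers _
  set UC := U.subgroupOf d.C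
  have hUC : U ≤ d.C := hU.trans (θ_le d.z)
  have hUo : Odd (Nat.card ↥U) := (θ_odd d.z).of_dvd_nat (card_dvd_of_le hU)
  have hinjU : ∀ g ∈ UC, f g = 1 → g = 1 := fun g hg h => by
    refine Subtype.ext ((hone.1 h).resolve_right fun e => d.z_ne_one ?_)
    exact two_odd_eq_one d.S.isPGroup' hUo (d.s.mem 16) (e ▸ mem_subgroupOf.1 hg)
  let φC : Fin 128 → ↥d.C := fun k => ⟨d.s.φ k, d.φ_mem_C k⟩
  have hmul : ∀ j k, φC j * φC k = φC (mulM j k) := fun j k => Subtype.ext (d.s.mul j k)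
  have hf0 : ∀ k, (k = 0 ∨ k = 16) → f (φC k) = 1 := fun k hk => hone.2 (hk.imp
    (fun e => by show d.s.φ k = 1; rw [e, d.s.one]) fun e => by show d.s.φ k = d.z; rw [e])
  have hf1 : ∀ k, f (φC k) = 1 → k = 0 ∨ k = 16 := fun k hk => (hone.1 hk).imp d.s.eq_one.1 fun e => d.s.inj e
  have hsq : ∀ k, inQ k = true → f (φC k) * f (φC k) = 1 := fun k hk => by
    rw [← map_mul, hmul]; exact hf0 _ (Q_sq k hk)
  have h16 : f (φC 16) = 1 := hf0 16 (Or.inr rfl)
  have hab : f (φC n) * f (φC m) = f (φC m) * f (φC n) := by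
    rw [← map_mul, ← map_mul, hmul, hmul]
    rcases Q_comm n m hn hm with e | e <;> rw [e]
    rw [← hmul, map_mul, h16, mul_one]
  have hne : f (φC n) ≠ f (φC m) := fun e => by
    have h1 : f (φC (mulM n (invM m))) = 1 := by
      rw [← hmul, map_mul, e, ← map_mul, hmul, (invM_spec m).1]; exact hf0 0 (Or.inl rfl)
    have hd : ∀ a b : Fin 128, (mulM a (invM b) = 0 → a = b) ∧ (mulM a (invM b) = 16 → a = mulM b 16) := by
      decide +kernel
    rcases hf1 _ h1 with h | h
    · exact hnm ((hd n m).1 h)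
    · exact hnm16 ((hd n m).2 h)
  have hN : ∀ k, inQ k = true → f (φC k) ∈ normalizer ((UC.map f : Subgroup _) : Set _) := by
    intro k hk
    refine mem_normalizer_fintype ?_
    rintro _ ⟨g, hg, rfl⟩
    exact ⟨φC k * g * (φC k)⁻¹, mem_subgroupOf.2 ((mem_normalizer_iff.1 (hQ k hk) _).1 (mem_subgroupOf.1 hg)),
      by rw [map_mul, map_mul, map_inv]⟩
  have hodd : Odd (Nat.card ↥(UC.map f)) := by
    refine hUo.of_dvd_nat ((card_map_dvd _ _).trans ?_)
    rw [Nat.card_congr (subgroupOfEquivOfLe hUC).toEquiv]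
  have hgen := gen_four (hsq n hn) (hsq m hm) hab (fun e => (hf1 n e).elim hn0 hn16)
    (fun e => (hf1 m e).elim hm0 hm16) hne hodd (hN n hn) (hN m hm)
  set W := U ⊓ centralizer ({d.s.φ n} : Set G) ⊔ U ⊓ centralizer ({d.s.φ m} : Set G) ⊔
      U ⊓ centralizer ({d.s.φ (mulM n m)} : Set G)
  have hWU : W ≤ U := sup_le (sup_le inf_le_left inf_le_left) inf_le_left
  have hback : ∀ k, inQ k = true → U ⊓ centralizer ({d.s.φ k} : Set G) ≤ W →
      UC.map f ⊓ centralizer ({f (φC k)} : Set _) ≤ (W.subgroupOf d.C).map f := by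
    intro k hk hkW
    rintro _ ⟨⟨g, hg, rfl⟩, hgc⟩
    refine ⟨g, mem_subgroupOf.2 (hkW ⟨mem_subgroupOf.1 hg, mem_centralizer_singleton_iff.2 ?_⟩), rfl⟩
    have h1 : f (φC k * g * (φC k)⁻¹ * g⁻¹) = 1 := by
      rw [map_mul, map_mul, map_mul, map_inv, map_inv, ← mem_centralizer_singleton_iff.1 hgc]; group
    have h2 : φC k * g * (φC k)⁻¹ * g⁻¹ ∈ UC :=
      mul_mem (mem_subgroupOf.2 ((mem_normalizer_iff.1 (hQ k hk) _).1 (mem_subgroupOf.1 hg))) (inv_mem hg)
    have h3 := congrArg Subtype.val (hinjU _ h2 h1)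
    simp only [Subgroup.coe_mul, InvMemClass.coe_inv, OneMemClass.coe_one, φC] at h3
    rw [mul_inv_eq_one, mul_inv_eq_iff_eq_mul] at h3
    exact h3.symm
  intro x hx
  have hx' : f ⟨x, hUC hx⟩ ∈ (W.subgroupOf d.C).map f := by
    refine (hgen.trans ?_) ⟨_, mem_subgroupOf.2 hx, rfl⟩
    rw [← map_mul, hmul]
    exact sup_le (sup_le (hback n hn (le_sup_of_le_left le_sup_left)) (hback m hm (le_sup_of_le_left le_sup_right)))
      (hback _ (inQ_closed n m hn hm) le_sup_right)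
  obtain ⟨w, hw, hwe⟩ := hx'
  have h1 : f (w⁻¹ * ⟨x, hUC hx⟩) = 1 := by rw [map_mul, map_inv, hwe, inv_mul_cancel]
  have h2 := hinjU _ (mul_mem (inv_mem (mem_subgroupOf.2 (hWU (mem_subgroupOf.1 hw)))) (mem_subgroupOf.2 hx)) h1
  rw [inv_mul_eq_one] at h2
  have := mem_subgroupOf.1 hw
  rwa [h2] at this

theorem comm_flip {x : G} (hx : x ∈ θ d.z) {n k : Fin 128} (h : k = n ∨ k = mulM n 16)
    (hc : x * d.s.φ k = d.s.φ k * x) : x * d.s.φ n = d.s.φ n * x := by
  rcases h with rfl | rfl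
  · exact hc
  · rw [← d.s.mul] at hc
    have h1 : Commute x (d.s.φ n * d.s.φ 16) := hc
    have h2 : Commute x (d.s.φ 16) := comm_of_mem_θ hx
    have := h1.mul_right h2.inv_right
    rw [mul_inv_cancel_right] at this
    exact this.eq

/-- An invariant subgroup is generated by the centralizers of the five pairs. -/
theorem inner_gen {U : Subgroup G} (hU : U ≤ θ d.z)
    (hQ : ∀ q, inQ q = true → d.s.φ q ∈ normalizer (U : Set G)) :
    U ≤ ⨆ i : Fin 5, U ⊓ centralizer ({d.s.φ (toM (sv i))} : Set G) := by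
  obtain ⟨q1, q2, q4, q8, q5, q3, q9, h15, h5, h3, h9, e5, e3, e9, s0, s1, s2, s3, s4⟩ := gen_codes
  simp only [List.mem_cons, List.not_mem_nil, or_false] at h15 h5 h3 h9
  set R := ⨆ i : Fin 5, U ⊓ centralizer ({d.s.φ (toM (sv i))} : Set G)
  have hi : ∀ {n : Fin 128} (i : Fin 5), toM (sv i) = n → U ⊓ centralizer ({d.s.φ n} : Set G) ≤ R :=
    fun i e => e ▸ le_iSup (fun i : Fin 5 => U ⊓ centralizer ({d.s.φ (toM (sv i))} : Set G)) i
  have hinv : ∀ {V : Subgroup G}, V ≤ θ d.z → (∀ q, inQ q = true → d.s.φ q ∈ normalizer (V : Set G)) →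
      ∀ k, inQ k = true →
        ∀ q, inQ q = true → d.s.φ q ∈ normalizer ((V ⊓ centralizer ({d.s.φ k} : Set G) : Subgroup G) : Set G) := by
    intro V hV hVQ k hk q hq
    refine mem_normalizer_fintype fun x hx => ?_
    have h1 := (mem_normalizer_iff.1 (hVQ q hq) x).1 hx.1
    refine ⟨h1, mem_centralizer_singleton_iff.2 ?_⟩
    have hxc := mem_centralizer_singleton_iff.1 hx.2
    have h4 : d.s.φ q * x * (d.s.φ q)⁻¹ * d.s.φ (conjM q k) = d.s.φ (conjM q k) * (d.s.φ q * x * (d.s.φ q)⁻¹) := by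
      rw [← d.s.conj]
      calc _ = d.s.φ q * (x * d.s.φ k) * (d.s.φ q)⁻¹ := by group
        _ = d.s.φ q * (d.s.φ k * x) * (d.s.φ q)⁻¹ := by rw [hxc]
        _ = _ := by group
    have hcode : ∀ a b : Fin 128, inQ a = true → inQ b = true → conjM a b = b ∨ conjM a b = mulM b 16 := by
      decide +kernel
    exact d.comm_flip (hV h1) (hcode q k hq hk) h4
  have hle5 : U ⊓ centralizer ({d.s.φ 5} : Set G) ≤ θ d.z := inf_le_left.trans hU
  have hQ5 := hinv hU hQ 5 q5
  set U5 := U ⊓ centralizer ({d.s.φ 5} : Set G)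
  have hQ53 := hinv hle5 hQ5 3 q3
  set U53 := U5 ⊓ centralizer ({d.s.φ 3} : Set G)
  have hmem : ∀ {V : Subgroup G} {n k : Fin 128}, V ≤ θ d.z → (k = n ∨ k = mulM n 16) →
      V ⊓ centralizer ({d.s.φ k} : Set G) ≤ V ⊓ centralizer ({d.s.φ n} : Set G) := fun hV h x hx =>
    ⟨hx.1, mem_centralizer_singleton_iff.2 (d.comm_flip (hV hx.1) h (mem_centralizer_singleton_iff.1 hx.2))⟩
  have hU5U : ∀ {n : Fin 128}, U5 ⊓ centralizer ({d.s.φ n} : Set G) ≤ U ⊓ centralizer ({d.s.φ n} : Set G) :=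
    fun {_} => inf_le_inf_right _ inf_le_left
  have h53 : U53 ≤ R := by
    refine (d.four_split (inf_le_left.trans hle5) hQ53 q1 q8 (by decide) (by decide) (by decide) (by decide) (by decide)
      (by decide +kernel)).trans (sup_le (sup_le ?_ ?_) ?_)
    · exact (inf_le_inf_right _ (inf_le_left.trans inf_le_left)).trans (hi 0 s0)
    · exact (inf_le_inf_right _ (inf_le_left.trans inf_le_left)).trans (hi 3 s3)
    · refine (hmem (inf_le_left.trans hle5) (n := 9) (by rw [e9]; exact h9)).trans ?_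
      intro x hx
      refine hi 4 s4 ⟨hx.1.1.1, mem_centralizer_singleton_iff.2 ?_⟩
      refine d.comm_flip (hU hx.1.1.1) (k := mulM (mulM 5 3) 9) ?_ ?_
      · rw [pair_codes.2.2.1]; exact h15
      · rw [← d.s.mul, ← d.s.mul]
        exact (((show Commute x (d.s.φ 5) from mem_centralizer_singleton_iff.1 hx.1.1.2).mul_right
          (mem_centralizer_singleton_iff.1 hx.1.2)).mul_right (mem_centralizer_singleton_iff.1 hx.2)).eq
  have h5' : U5 ≤ R := by
    refine (d.four_split hle5 hQ5 q1 q2 (by decide) (by decide) (by decide) (by decide) (by decide)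
      (by decide +kernel)).trans (sup_le (sup_le ?_ ?_) ?_)
    · exact hU5U.trans (hi 0 s0)
    · exact hU5U.trans (hi 1 s1)
    · exact (hmem hle5 (n := 3) (by rw [e3]; exact h3)).trans h53
  refine (d.four_split hU hQ q1 q4 (by decide) (by decide) (by decide) (by decide) (by decide)
    (by decide +kernel)).trans (sup_le (sup_le (hi 0 s0) (hi 2 s2)) ?_)
  exact (hmem hU (n := 5) (by rw [e5]; exact h5)).trans h5'

end Generation

section Two

variable (hII : ∀ n, inA1 n = true → inFour n = false → ¬ IsConj d.z (d.s.φ n))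
include hII

theorem A_class {a : G} (ha : a ∈ d.s.subA) (h : IsConj d.z a) : a ∈ d.subV := by
  obtain ⟨n, hn, rfl⟩ := ha
  refine d.s.mem_sub.2 ?_
  by_contra h4
  exact hII n hn (by simpa using h4) h

theorem NA_le_NV {g : G} (hg : g ∈ normalizer (d.s.subA : Set G)) : g ∈ normalizer (d.subV : Set G) := by
  refine mem_normalizer_fintype fun v hv => ?_
  by_cases h : v = 1
  · rw [h, mul_one, mul_inv_cancel]; exact one_mem _
  · exact d.A_class hII ((mem_normalizer_iff.1 hg _).1 (d.subV_le_subA hv))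
      ((d.z_conj_V hv h).trans (_root_.isConj_iff.2 ⟨g, rfl⟩))

/-- An element of the maximal subgroup conjugate to `z` lies in the four group. -/
theorem E_class {x : G} (hx : x ∈ d.s.subE) (h : IsConj d.z x) : x ∈ d.subV := by
  obtain ⟨n, hn, rfl⟩ := hx
  obtain ⟨g, hg⟩ := _root_.isConj_iff.1 h
  refine d.s.mem_sub.2 ?_
  rcases inv_classify n (d.s.isInv_of_conj cent_one.2.2.2.2.2.2.2.1 hg) with e | e | e | ⟨s, hs⟩ | ⟨h1, h4⟩ | ⟨h1, h4⟩
  · rw [e]; exact V_codes.1
  · rw [e]; exact V_codes.2.1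
  · rw [e]; exact V_codes.2.2.1
  · have := inner_not_E s
    rw [hs, hn] at this
    exact Bool.noConfusion this
  · exact absurd h (hII n h1 h4)
  · exact absurd (h.trans (_root_.isConj_iff.2 ⟨d.s.φ 1, d.s.conj 1 n⟩)) (hII _ h1 h4)

end Two

end Setting

end Cfsg.Agent.Spor.JTwoType
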