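import Cfsg.Agent.Lib.Spor.JTwoType.SigFacts

/-!
# Finite checks for a strongly closed central four group
-/

set_option autoImplicit false
set_option maxRecDepth 100000
set_option maxHeartbeats 4000000

namespace Cfsg.Agent.Spor.JTwoType

/-- The powers of a code. -/
def pwM (n : Fin 128) : Fin 4 → Fin 128 := ![0, n, mulM n n, mulM n (mulM n n)]

theorem E_inv_move : ∀ p : Fin 128, inE p = true → isInv p = true → inFour p = false →
    ∃ e, inE e = true ∧ inFour (mulM p (conjM e p)) = true ∧ mulM p (conjM e p) ≠ 0 := by
  decide +kernel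

theorem E_sq : ∀ n : Fin 128, inE n = true → inFour (mulM n n) = true := by decide +kernel

theorem E_pair : ∀ n m : Fin 128, inE n = true → mulM n n = 16 → inE m = true → mulM m m = 15 →
    (isInv (mulM n m) = true → inFour (mulM n m) = true) → commM n m = true := by
  decide +kernel

theorem E_span : ∀ n m : Fin 128, inE n = true → mulM n n = 16 → inE m = true → mulM m m = 15 →
    commM n m = true → (∀ i j : Fin 4, mulM (pwM n i) (pwM m j) = 0 → i = 0 ∧ j = 0) ∧
    ∀ k : Fin 128, inE k = true → ∃ i j : Fin 4, inA1 (mulM (invM (mulM (pwM n i) (pwM m j))) k) = true := by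
  decide +kernel

theorem six_facts : inE 6 = true ∧ mulM 6 6 = 16 ∧ inFour 6 = false ∧ (∀ v, inFour v = true → commM 6 v = true) ∧
    ∀ v, inFour v = true → mulM (mulM v 6) (mulM v 6) = 16 := by
  decide +kernel

end Cfsg.Agent.Spor.JTwoType
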