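import Cfsg.Agent.Lib.Spor.JTwoType.Tools
import Cfsg.Agent.Lib.Spor.JTwoType.StrongFacts
import Cfsg.Agent.Lib.Transfer.Burnside
import Cfsg.Agent.S0949

/-!
# A strongly closed central four group

In a subgroup containing the maximal subgroup, in which the central four group is strongly closed, that four
group is normal modulo the odd core: a moved component would be a simple group with a Sylow 2-subgroup which is
either homocyclic or a four group with an outer automorphism centralising it and squaring into it.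
-/

set_option autoImplicit false
set_option linter.unusedSectionVars false
set_option linter.style.haveILetI false
set_option maxRecDepth 100000

namespace Cfsg.Agent.Spor.JTwoType

open Subgroup

universe u

variable {G : Type u} [Group G] [Finite G]

/-- The odd core of a subgroup, in the ambient group. -/
abbrev OG (H : Subgroup G) : Subgroup G := (Cfsg.oddCore ↥H).map H.subtype

theorem OG_le (H : Subgroup G) : OG H ≤ H := map_subtype_le _

theorem OG_odd (H : Subgroup G) : Odd (Nat.card ↥(OG H)) := by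
  rw [Subgroup.card_map_of_injective (Subgroup.subtype_injective _)]
  exact Nat.Coprime.odd_of_right Grp.pPrimeCore_coprime

theorem mem_OG {H : Subgroup G} {x : ↥H} : (x : G) ∈ OG H ↔ x ∈ Cfsg.oddCore ↥H :=
  ⟨fun ⟨y, hy, e⟩ => by rwa [← Subtype.ext e], fun h => ⟨x, h, rfl⟩⟩

theorem OG_conj {H : Subgroup G} {h x : G} (hh : h ∈ H) (hx : x ∈ OG H) : h * x * h⁻¹ ∈ OG H := by
  obtain ⟨y, hy, rfl⟩ := hx
  exact ⟨⟨h, hh⟩ * y * ⟨h, hh⟩⁻¹, (Grp.pPrimeCore_isNormal (p := 2)).conj_mem y hy _, rfl⟩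

theorem le_OG {H M : Subgroup G} (hM : M ≤ H) (ho : Odd (Nat.card ↥M))
    (hn : ∀ h ∈ H, ∀ x ∈ M, h * x * h⁻¹ ∈ M) : M ≤ OG H := by
  have hn' : (M.subgroupOf H).Normal := ⟨fun x hx g => mem_subgroupOf.2 (hn g g.2 x (mem_subgroupOf.1 hx))⟩
  have hc : (Nat.card ↥(M.subgroupOf H)).Coprime 2 := by
    rw [Nat.card_congr (subgroupOfEquivOfLe hM).toEquiv]
    exact Nat.coprime_two_right.2 ho
  exact fun x hx => ⟨⟨x, hM hx⟩, Grp.le_pPrimeCore hn' hc (mem_subgroupOf.2 hx), rfl⟩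

/-- Two involutions with a product of odd order are conjugate by an element it generates. -/
theorem exists_exact {a b : G} (ha : a * a = 1) (hb : b * b = 1) (ho : Odd (orderOf (a * b))) :
    ∃ u ∈ zpowers (a * b), u * b * u⁻¹ = a := by
  obtain ⟨k, hk⟩ := ho
  set o := a * b with ho'
  have hinv : b * o * b⁻¹ = o⁻¹ := by
    rw [ho', mul_inv_rev, mul_assoc, mul_assoc, mul_inv_cancel, mul_one, inv_eq_of_mul_eq_one_right ha,
      inv_eq_of_mul_eq_one_right hb]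
  have huu : o ^ (k + 1) * o ^ (k + 1) = o := by
    rw [← pow_add, show k + 1 + (k + 1) = orderOf o + 1 by omega, pow_succ, pow_orderOf_eq_one, one_mul]
  have hub : b * o ^ (k + 1) * b⁻¹ = (o ^ (k + 1))⁻¹ := by
    rw [← inv_pow, ← hinv]
    exact ((MulAut.conj b).toMonoidHom.map_pow o (k + 1))
  refine ⟨o ^ (k + 1), pow_mem (mem_zpowers o) _, ?_⟩
  calc o ^ (k + 1) * b * (o ^ (k + 1))⁻¹ = o ^ (k + 1) * b * (b * o ^ (k + 1) * b⁻¹) := by rw [hub]
    _ = o ^ (k + 1) * (b * b) * o ^ (k + 1) * b⁻¹ := by group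
    _ = o * b⁻¹ := by rw [hb, mul_one, huu]
    _ = a := by rw [ho', mul_inv_cancel_right]

namespace Setting

variable (d : Setting G)

/-- No component moves the central four group. -/
theorem no_moved {H : Subgroup G} (hE : d.s.subE ≤ H) (P : Sylow 2 ↥H)
    (hP : (P : Subgroup ↥H) = (d.S : Subgroup G).subgroupOf H)
    [(Cfsg.oddCore ↥H).Normal]
    (hloc : Fus.Gold.LocalHyp (↥H ⧸ Cfsg.oddCore ↥H)
      ((d.subV.subgroupOf H).map (QuotientGroup.mk' (Cfsg.oddCore ↥H)))) :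
    Fus.Gold.movedComps ((d.subV.subgroupOf H).map (QuotientGroup.mk' (Cfsg.oddCore ↥H))) = ∅ := by
  classical
  haveI : Fact (Nat.Prime 2) := ⟨Nat.prime_two⟩
  set q := QuotientGroup.mk' (Cfsg.oddCore ↥H) with hq
  set Vb := (d.subV.subgroupOf H).map q with hVb
  refine Set.eq_empty_iff_forall_notMem.2 ?_
  rintro K ⟨hK, hKm⟩
  have hKm' : ¬ Vb ≤ centralizer (K : Set (↥H ⧸ Cfsg.oddCore ↥H)) := fun h => hKm (Subgroup.le_centralizer_iff.1 h)
  have hEH : ∀ {n : Fin 128}, inE n = true → d.s.φ n ∈ H := fun h => hE (d.s.mem_sub.2 h)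
  have hinj : ∀ x y : ↥H, (x : G) ∈ (d.S : Subgroup G) → (y : G) ∈ (d.S : Subgroup G) → q x = q y → x = y := by
    intro x y hx hy e
    refine mul_inv_eq_one.1 (Subtype.ext ?_)
    exact two_odd_eq_one d.S.isPGroup' (OG_odd H) (mul_mem hx (inv_mem hy))
      (mem_OG.2 ((QuotientGroup.eq_one_iff (N := Cfsg.oddCore ↥H) (x * y⁻¹)).1 (show q (x * y⁻¹) = 1 by
        rw [map_mul, map_inv, e, mul_inv_cancel])))
  set Pb : Sylow 2 (↥H ⧸ Cfsg.oddCore ↥H) := P.mapSurjective (QuotientGroup.mk'_surjective _)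
  have hPb : ∀ y, y ∈ (Pb : Subgroup _) ↔ ∃ x : ↥H, (x : G) ∈ (d.S : Subgroup G) ∧ q x = y := by
    intro y
    rw [Sylow.coe_mapSurjective, hP]
    exact ⟨fun ⟨x, hx, e⟩ => ⟨x, hx, e⟩, fun ⟨x, hx, e⟩ => ⟨x, hx, e⟩⟩
  have hVP : Vb ≤ (Pb : Subgroup _) := by
    rintro _ ⟨x, hx, rfl⟩
    exact (hPb _).2 ⟨x, d.s.sub_le (mem_subgroupOf.1 hx), rfl⟩
  have hcV : ∀ {x : ↥H}, (x : G) ∈ d.subV → q x ∈ Vb := fun hx => ⟨_, mem_subgroupOf.2 hx, rfl⟩
  have hcardV : Nat.card ↥Vb = 4 := by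
    rw [hVb, ← card_four, ← d.s.card_sub (h1 := inFour_closed.1) (hm := inFour_closed.2.1)]
    refine (Nat.card_eq_of_bijective (fun x : ↥d.subV =>
      (⟨q ⟨x, hE (d.subV_le_subE x.2)⟩, hcV (show ((⟨(x : G), hE (d.subV_le_subE x.2)⟩ : ↥H) : G) ∈ d.subV from x.2)⟩ : ↥Vb))
      ⟨fun x y e => ?_, ?_⟩).symm
    · exact Subtype.ext (congrArg Subtype.val (hinj _ _ (d.subE_le_S (d.subV_le_subE x.2)) (d.subE_le_S (d.subV_le_subE y.2)) (congrArg Subtype.val e)) :)
    · rintro ⟨_, x, hx, rfl⟩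
      exact ⟨⟨x, mem_subgroupOf.1 hx⟩, rfl⟩
  -- the component contains the four group and is transitive on it
  have hdisj : Vb ⊓ centralizer (K : Set (↥H ⧸ Cfsg.oddCore ↥H)) = ⊥ := by
    refine Subgroup.card_eq_one.1 ?_
    have h4 := Fus.Gold.local_four hloc hK hKm'
    rw [hcardV] at h4
    have hpos : 0 < Nat.card ↥(Vb ⊓ centralizer (K : Set (↥H ⧸ Cfsg.oddCore ↥H))) := Nat.card_pos
    omega
  obtain ⟨E', hE', -, hsup, htr⟩ := Fus.Gold.local_factor hloc hK hKm'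
  rw [hdisj, bot_sup_eq] at hsup
  subst hsup
  have hVK : Vb ≤ K := hE'.trans inf_le_right
  have hNK : normalizer (Vb : Set (↥H ⧸ Cfsg.oddCore ↥H)) ≤ normalizer (K : Set (↥H ⧸ Cfsg.oddCore ↥H)) := by
    intro n hn
    refine mem_normalizer_fintype fun k hk => ?_
    by_contra hout
    have hne : K.map (MulAut.conj n).toMonoidHom ≠ K := fun e => hout (e ▸ ⟨k, hk, rfl⟩)
    refine hKm' fun v hv => (Grp.IsComponent.commute (Grp.IsComponent.map_iso (MulAut.conj n) hK) hK hne) ?_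
    exact ⟨n⁻¹ * v * n, hVK ((mem_normalizer_iff''.1 hn v).1 hv), by simp [mul_assoc]⟩
  have hPN : (Pb : Subgroup _) ≤ normalizer (K : Set (↥H ⧸ Cfsg.oddCore ↥H)) :=
    (hloc.sylow_le_normalizer hVP).trans hNK
  -- the component has trivial centre
  have hZ : K ⊓ centralizer (K : Set (↥H ⧸ Cfsg.oddCore ↥H)) = ⊥ := by
    set Z := K ⊓ centralizer (K : Set (↥H ⧸ Cfsg.oddCore ↥H))
    by_contra hne
    have hZP : Z ≤ (Pb : Subgroup _) := Fus.Gold.center_le_sylow hloc hVP hK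
    obtain ⟨y, hy, hyp⟩ := Grp.exists_prime_order_mem hne
    have hy2 : orderOf y = 2 := by
      obtain ⟨j, hj⟩ := IsPGroup.iff_orderOf.1 (Pb.isPGroup'.to_le hZP) ⟨y, hy⟩
      rw [Subgroup.orderOf_mk] at hj
      rw [hj] at hyp ⊢
      have := (Nat.Prime.pow_eq_iff (p := 2 ^ j) (a := 2) (k := j) hyp).1 rfl
      omega
    obtain ⟨x, hx, hxy⟩ := (hPb y).1 (hZP hy)
    obtain ⟨p, hp⟩ := d.s.surj _ hx
    have hdisj' : ∀ w, w ∈ Z → w ∈ Vb → w = 1 := fun w hw hwV => mem_bot.1 (hdisj ▸ ⟨hwV, hw.2⟩ : w ∈ (⊥ : Subgroup _))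
    have hZn : ∀ n ∈ normalizer (K : Set (↥H ⧸ Cfsg.oddCore ↥H)), ∀ w ∈ Z, n * w * n⁻¹ ∈ Z := fun n hn w hw =>
      ⟨(mem_normalizer_iff.1 hn w).1 hw.1, Fus.Gold.conj_mem_centralizer hn hw.2⟩
    have hVc : ∀ v : ↥H, (v : G) ∈ d.subV → x * v = v * x := by
      intro v hv
      refine hinj _ _ (mul_mem hx (d.s.sub_le hv)) (mul_mem (d.s.sub_le hv) hx) ?_
      rw [map_mul, map_mul, hxy]
      exact (mem_centralizer_iff.1 hy.2 _ (hVK (hcV hv))).symm
    have hpE : inE p = true := by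
      have := d.mem_subE_of_comm hx (congrArg Subtype.val (hVc ⟨d.s.φ 15, hE (d.subV_le_subE d.c_mem_V)⟩ d.c_mem_V))
      rw [← hp] at this
      exact d.s.mem_sub.1 this
    have hpi : isInv p = true := by
      rw [← d.s.orderOf_two, hp, Subgroup.orderOf_coe]
      refine orderOf_eq_prime ?_ fun e => by rw [← hxy, e, map_one, orderOf_one] at hy2; omega
      refine hinj _ _ (pow_mem hx 2) (by rw [OneMemClass.coe_one]; exact one_mem _) ?_
      rw [map_pow, hxy, map_one, ← hy2, pow_orderOf_eq_one]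
    have hp4 : inFour p = false := by
      by_contra h
      have hxV : (x : G) ∈ d.subV := hp ▸ d.φ_mem_V (by simpa using h)
      have := hdisj' y hy (hxy ▸ hcV hxV)
      rw [this, orderOf_one] at hy2
      omega
    obtain ⟨e, heE, hw, hw0⟩ := E_inv_move p hpE hpi hp4
    set eh : ↥H := ⟨d.s.φ e, hEH heE⟩
    have h1 : q (x * (eh * x * eh⁻¹)) = y * (q eh * y * (q eh)⁻¹) := by
      rw [map_mul, map_mul, map_mul, map_inv, hxy]
    have h2 : ((x * (eh * x * eh⁻¹) : ↥H) : G) = d.s.φ (mulM p (conjM e p)) := by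
      rw [← d.s.mul, ← d.s.conj, hp]; rfl
    have h3 := hdisj' _ (Z.mul_mem hy (hZn _ (hPN ((hPb _).2 ⟨eh, d.s.mem e, rfl⟩)) y hy))
      (h1 ▸ hcV (h2 ▸ d.φ_mem_V hw))
    rw [← h1, ← map_one q] at h3
    have h4 := congrArg Subtype.val (hinj _ _ (h2 ▸ d.s.mem _) (by rw [OneMemClass.coe_one]; exact one_mem _) h3)
    rw [h2, OneMemClass.coe_one, d.s.eq_one] at h4
    exact hw0 h4
  -- hence it is simple
  have hcen : center ↥K = ⊥ := by rw [Fus.Gold.center_eq hK, hZ, bot_subgroupOf]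
  let eK : ↥K ⧸ center ↥K ≃* ↥K := (QuotientGroup.quotientMulEquivOfEq hcen).trans QuotientGroup.quotientBot
  haveI : IsSimpleGroup (↥K ⧸ center ↥K) := hK.2.2
  haveI : IsSimpleGroup ↥K := eK.symm.isSimpleGroup
  have hnc : ¬ IsMulCommutative ↥K := fun h => Fus.Gold.not_comm_quotient hK
    ⟨⟨fun a b => eK.injective (by rw [map_mul, map_mul, h.is_comm.comm])⟩⟩
  obtain ⟨SK, hSK⟩ := Fus.Gold.exists_sylow_component (T := Pb) hK
  have hVKne : Vb.subgroupOf K ≠ ⊥ := by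
    intro h
    have h1 := Nat.card_congr (subgroupOfEquivOfLe hVK).toEquiv
    rw [h, Subgroup.card_bot, hcardV] at h1
    omega
  have helK : Cfsg.IsElementaryAbelian 2 (Vb.subgroupOf K) :=
    ⟨⟨⟨fun a b => Subtype.ext (Subtype.ext (hloc.comm (mem_subgroupOf.1 a.2) (mem_subgroupOf.1 b.2)))⟩⟩,
      fun a ha => Subtype.ext (by rw [Subgroup.coe_pow, pow_two, hloc.sq (mem_subgroupOf.1 ha)]; rfl)⟩
  have hscK : Cfsg.IsStronglyClosed (Vb.subgroupOf K) (SK : Subgroup ↥K) := by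
    refine ⟨fun a ha => hSK.symm ▸ mem_subgroupOf.2 (hVP (mem_subgroupOf.1 ha)), fun a ha g hg => ?_⟩
    rw [hSK] at hg
    exact mem_subgroupOf.2 (hloc.closed _ Pb.isPGroup' hVP _ (mem_subgroupOf.1 ha) g (mem_subgroupOf.1 hg))
  obtain ⟨-, hinv, hcent, -⟩ := Fus.Gold.conclusion_all ↥K inferInstance hnc SK _ hVKne helK hscK
  -- codes of the Sylow subgroup of the component
  have hcode : ∀ s : ↥K, s ∈ (SK : Subgroup ↥K) → ∃ (n : Fin 128) (hn : inE n = true),
      q ⟨d.s.φ n, hEH hn⟩ = (s : ↥H ⧸ Cfsg.oddCore ↥H) ∧ (isInv n = true → inFour n = true) := by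
    intro s hs
    have hs' := hs
    rw [hSK] at hs'
    obtain ⟨x, hx, hxs⟩ := (hPb _).1 (mem_subgroupOf.1 hs')
    obtain ⟨n, hn⟩ := d.s.surj _ hx
    have hnE : inE n = true := by
      set c : ↥H := ⟨d.s.φ 15, hE (d.subV_le_subE d.c_mem_V)⟩
      have h1 := mem_centralizer_iff.1 (hcent hs) ⟨q c, hVK (hcV d.c_mem_V)⟩ (mem_subgroupOf.2 (hcV d.c_mem_V))
      have h2 : x * c = c * x := hinj _ _ (mul_mem hx (d.s.mem 15)) (mul_mem (d.s.mem 15) hx) (by
        rw [map_mul, map_mul, hxs]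
        exact (congrArg Subtype.val h1).symm)
      have := d.mem_subE_of_comm hx (congrArg Subtype.val h2)
      rw [← hn] at this
      exact d.s.mem_sub.1 this
    have hxn : (⟨d.s.φ n, hEH hnE⟩ : ↥H) = x := Subtype.ext hn
    refine ⟨n, hnE, hxn ▸ hxs, fun hi => ?_⟩
    have hxx : x * x = 1 := Subtype.ext (by
      rw [Subgroup.coe_mul, ← hn, OneMemClass.coe_one]
      exact d.s.sq.2 (by simpa [isInv] using (Bool.and_eq_true_iff.1 hi).2))
    have h1 : s * s = 1 := Subtype.ext (by rw [Subgroup.coe_mul, ← hxs, ← map_mul, hxx, map_one]; rfl)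
    obtain ⟨v, hv, hve⟩ := mem_subgroupOf.1 (hinv s hs h1)
    have h2 : v = x := hinj _ _ (d.s.sub_le (mem_subgroupOf.1 hv)) hx (hve.trans hxs.symm)
    rw [← d.s.mem_sub (h1 := inFour_closed.1) (hm := inFour_closed.2.1), hn, ← h2]
    exact mem_subgroupOf.1 hv
  set zb : ↥H := ⟨d.z, hE (d.subV_le_subE d.z_mem_V)⟩
  set cb : ↥H := ⟨d.s.φ 15, hE (d.subV_le_subE d.c_mem_V)⟩
  have hne1 : ∀ v : ↥H, (v : G) ∈ d.subV → (v : G) ≠ 1 → q v ≠ 1 := fun v hv hv1 e => hv1 (congrArg Subtype.val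
    (hinj v 1 (d.s.sub_le hv) (by rw [OneMemClass.coe_one]; exact one_mem _) (by rw [e, map_one])) :)
  obtain ⟨k, hkK, hkN, -, hk⟩ := htr _ (hcV (x := zb) d.z_mem_V) _ (hcV (x := cb) d.c_mem_V)
    (hne1 zb d.z_mem_V d.z_ne_one) (hne1 cb d.c_mem_V d.c_ne_one)
  by_cases hall : ∀ s : ↥K, s ∈ (SK : Subgroup ↥K) → (s : ↥H ⧸ Cfsg.oddCore ↥H) ∈ Vb
  · -- a four group: an element squaring to `z` gives an outer automorphism
    obtain ⟨h6E, h66, h64, h6c, h6sq⟩ := six_facts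
    set y := q ⟨d.s.φ 6, hEH h6E⟩
    have hyy : y * y = q zb := by
      rw [← map_mul]; exact congrArg q (Subtype.ext ((d.s.mul 6 6).trans (congrArg d.s.φ h66)))
    have hyN : y ∈ normalizer (K : Set (↥H ⧸ Cfsg.oddCore ↥H)) := hPN ((hPb _).2 ⟨_, d.s.mem 6, rfl⟩)
    have hyV : ∀ v ∈ Vb, y * v = v * y := by
      rintro _ ⟨v, hv, rfl⟩
      obtain ⟨m, hm, hme⟩ := mem_subgroupOf.1 hv
      rw [← map_mul, ← map_mul]
      refine congrArg q (Subtype.ext ?_)
      show d.s.φ 6 * (v : G) = (v : G) * d.s.φ 6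
      rw [← hme]
      exact d.s.commute.2 (h6c m hm)
    set XK := (K ⊔ zpowers y) ⊓ centralizer (Vb : Set (↥H ⧸ Cfsg.oddCore ↥H))
    set D := Vb ⊔ zpowers y
    have hyP : y ∈ (Pb : Subgroup _) := (hPb _).2 ⟨_, d.s.mem 6, rfl⟩
    have hD : IsPGroup 2 ↥D := Pb.isPGroup'.to_le (sup_le hVP (zpowers_le.2 hyP))
    have hDX : D ≤ XK := sup_le
      (le_inf (hVK.trans le_sup_left) fun v hv => mem_centralizer_iff.2 fun w hw => hloc.comm hw hv)
      (le_inf le_sup_right (zpowers_le.2 (mem_centralizer_iff.2 fun w hw => (hyV w hw).symm)))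
    have hkD : cI k D ≤ XK := by
      have hy' : k * y * k⁻¹ ∈ XK := by
        have hkS : k * y * k⁻¹ ∈ K ⊔ zpowers y :=
          mul_mem (mul_mem (Subgroup.mem_sup_left hkK) (Subgroup.mem_sup_right (mem_zpowers y)))
            (inv_mem (Subgroup.mem_sup_left hkK))
        refine ⟨hkS, mem_centralizer_iff.2 fun w hw => ?_⟩
        have hw' := (mem_normalizer_iff''.1 hkN w).1 hw
        calc w * (k * y * k⁻¹) = k * (k⁻¹ * w * k * y) * k⁻¹ := by group
          _ = k * (y * (k⁻¹ * w * k)) * k⁻¹ := by rw [hyV _ hw']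
          _ = _ := by group
      rintro _ ⟨w, hw, rfl⟩
      refine (map_le_iff_le_comap.2 (sup_le (fun v hv => ?_) (zpowers_le.2 hy')) : D.map (MulAut.conj k).toMonoidHom ≤ XK)
        ⟨w, hw, rfl⟩
      show k * v * k⁻¹ ∈ XK
      exact hDX (mem_sup_left ((mem_normalizer_iff.1 hkN v).1 hv))
    obtain ⟨m, hm, Q, hQ, hQX, hDQ, hmQ⟩ := align XK (cI k D) D (hD.map _) hkD hD hDX
    set p := m * (k * y * k⁻¹) * m⁻¹
    have hpQ : p ∈ Q := hmQ (mem_cI (mem_cI (mem_sup_right (mem_zpowers y))))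
    have hpp : p * p = q cb := by
      rw [show p * p = m * (k * (y * y) * k⁻¹) * m⁻¹ by simp only [p]; group, hyy, hk,
        ← mem_centralizer_iff.1 hm.2 _ (hcV d.c_mem_V), mul_inv_cancel_right]
    have hQK : ∀ w ∈ Q, w ∈ K → w ∈ Vb := by
      intro w hw hwK
      have hp' : IsPGroup 2 ↥(Q.subgroupOf K) := hQ.comap_of_injective _ (subtype_injective _)
      obtain ⟨T', hT'⟩ := hp'.exists_le_sylow
      have h1 : Nat.card ↥(Q.subgroupOf K) ≤ 4 := by
        refine (Subgroup.card_le_of_le hT').trans ?_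
        rw [T'.card_eq_multiplicity, ← SK.card_eq_multiplicity, ← hcardV,
          ← Nat.card_congr (subgroupOfEquivOfLe hVK).toEquiv]
        exact Subgroup.card_le_of_le fun s hs => mem_subgroupOf.2 (hall s hs)
      have h2 : Vb.subgroupOf K = Q.subgroupOf K := by
        refine eq_of_le_of_card_ge (fun v hv => mem_subgroupOf.2 (hDQ (mem_sup_left (mem_subgroupOf.1 hv)))) ?_
        rw [Nat.card_congr (subgroupOfEquivOfLe hVK).toEquiv, hcardV]
        exact h1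
      have h3 : (⟨w, hwK⟩ : ↥K) ∈ Q.subgroupOf K := mem_subgroupOf.2 hw
      rw [← h2] at h3
      exact mem_subgroupOf.1 h3
    have hzc : q zb ≠ q cb := fun e => d.z_ne_c (congrArg Subtype.val (hinj zb cb (d.s.mem 16) (d.s.mem 15) e) :)
    have hsup : p ∈ K ⊔ zpowers y := (hQX hpQ).1
    rw [← SetLike.mem_coe, coe_mul_of_right_le_normalizer_left _ _ (zpowers_le.2 hyN)] at hsup
    obtain ⟨a, ha, b, hb, hab⟩ := hsup
    obtain ⟨j, rfl⟩ := mem_zpowers_iff.1 hb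
    have hzK : q zb ∈ K := hVK (hcV d.z_mem_V)
    rcases Int.even_or_odd j with ⟨i, rfl⟩ | ⟨i, rfl⟩
    · have hpK : p ∈ K := by
        rw [← hab]
        show a * y ^ (i + i) ∈ K
        rw [zpow_add, ← (Commute.refl y).mul_zpow, hyy]
        exact mul_mem ha (zpow_mem hzK i)
      rw [hloc.sq (hQK p hpQ hpK)] at hpp
      exact hne1 cb d.c_mem_V d.c_ne_one hpp.symm
    · have hpy : p * y⁻¹ ∈ K := by
        rw [← hab]
        show a * y ^ (2 * i + 1) * y⁻¹ ∈ K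
        rw [zpow_add, zpow_one, mul_assoc, mul_inv_cancel_right, zpow_mul, zpow_ofNat, pow_two, hyy]
        exact mul_mem ha (zpow_mem hzK i)
      have hv := hQK _ (mul_mem hpQ (inv_mem (hDQ (mem_sup_right (mem_zpowers y))))) hpy
      refine hzc ?_
      rw [← hpp, show p * p = p * y⁻¹ * (y * (p * y⁻¹)) * y by group, hyV _ hv,
        show p * y⁻¹ * (p * y⁻¹ * y) * y = p * y⁻¹ * (p * y⁻¹) * (y * y) by group, hloc.sq hv, one_mul, hyy]
  · -- a homocyclic group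
    push Not at hall
    obtain ⟨s, hs, hsV⟩ := hall
    obtain ⟨n, hnE, hns, hn4⟩ := hcode s hs
    have hni : isInv n = false := by
      by_contra h
      refine hsV (hns ▸ hcV ?_)
      exact d.φ_mem_V (hn4 (by simpa using h))
    have hn0 : n ≠ 0 := fun e => hsV (hns ▸ hcV (d.φ_mem_V (e ▸ inFour_closed.1)))
    have hsqne : mulM n n ≠ 0 := fun e => by simp [isInv, e, hn0] at hni
    set v0 : ↥H := ⟨d.s.φ (mulM n n), hE (d.subV_le_subE (d.φ_mem_V (E_sq n hnE)))⟩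
    have hv0 : (v0 : G) ∈ d.subV := d.φ_mem_V (E_sq n hnE)
    have hv0s : q v0 = (s : ↥H ⧸ Cfsg.oddCore ↥H) * s := by
      rw [← hns, ← map_mul]; exact congrArg q (Subtype.ext (d.s.mul n n).symm)
    have hget : ∀ w : ↥H, (w : G) ∈ d.subV → (w : G) ≠ 1 → ∃ t : ↥K, t ∈ (SK : Subgroup ↥K) ∧
        (t : ↥H ⧸ Cfsg.oddCore ↥H) * t = q w := by
      intro w hw hw1
      obtain ⟨g, hgK, -, -, hg⟩ := htr _ (hcV hv0) _ (hcV hw)
        (hne1 v0 hv0 (fun e => hsqne (d.s.eq_one.1 e))) (hne1 w hw hw1)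
      have hcen' : ∀ u ∈ Vb.subgroupOf K, ∀ a ∈ (SK : Subgroup ↥K), Commute a u := fun u hu a ha =>
        (mem_centralizer_iff.1 (hcent ha) u hu).symm
      have hx : (⟨q v0, hVK (hcV hv0)⟩ : ↥K) ∈ Vb.subgroupOf K := mem_subgroupOf.2 (hcV hv0)
      have hy : (⟨g, hgK⟩ : ↥K) * ⟨q v0, hVK (hcV hv0)⟩ * ⟨g, hgK⟩⁻¹ ∈ Vb.subgroupOf K := by
        refine mem_subgroupOf.2 ?_
        show g * q v0 * g⁻¹ ∈ Vb
        rw [hg]; exact hcV hw
      obtain ⟨r, hr, hre⟩ := Transfer.exists_normalizer_conj_elem SK (hcen' _ hx) (hcen' _ hy)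
      refine ⟨r * s * r⁻¹, (mem_normalizer_iff.1 hr s).1 hs, ?_⟩
      have h1 := congrArg Subtype.val hre
      simp only [Subgroup.coe_mul, InvMemClass.coe_inv] at h1 ⊢
      rw [hg] at h1
      rw [← h1, hv0s]
      group
    obtain ⟨s1, hs1, hs1z⟩ := hget zb d.z_mem_V d.z_ne_one
    obtain ⟨s2, hs2, hs2c⟩ := hget cb d.c_mem_V d.c_ne_one
    obtain ⟨a, haE, has, -⟩ := hcode s1 hs1
    obtain ⟨b, hbE, hbs, -⟩ := hcode s2 hs2
    have hsqcode : ∀ {e : Fin 128} (he : inE e = true) (w : ↥H), (w : G) ∈ (d.S : Subgroup G) →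
        q ⟨d.s.φ e, hEH he⟩ * q ⟨d.s.φ e, hEH he⟩ = q w → d.s.φ (mulM e e) = (w : G) := by
      intro e he w hw h
      rw [← map_mul] at h
      have h' := congrArg Subtype.val (hinj _ _ (mul_mem (d.s.mem e) (d.s.mem e)) hw h)
      rw [Subgroup.coe_mul] at h'
      rw [← d.s.mul]
      exact h'
    have ha2 : mulM a a = 16 := d.s.inj (hsqcode haE zb (d.s.mem 16) (by rw [has, hs1z]))
    have hb2 : mulM b b = 15 := d.s.inj (hsqcode hbE cb (d.s.mem 15) (by rw [hbs, hs2c]))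
    have hq' : ∀ {e e' : Fin 128} (he : inE e = true) (he' : inE e' = true) (h : inE (mulM e e') = true),
        q ⟨d.s.φ e, hEH he⟩ * q ⟨d.s.φ e', hEH he'⟩ = q ⟨d.s.φ (mulM e e'), hEH h⟩ := fun _ _ _ => by
      rw [← map_mul]; exact congrArg q (Subtype.ext (d.s.mul _ _))
    have hinjc : ∀ {e e' : Fin 128} (he : inE e = true) (he' : inE e' = true),
        q ⟨d.s.φ e, hEH he⟩ = q ⟨d.s.φ e', hEH he'⟩ → e = e' := fun {e e'} _ _ h =>
      d.s.inj (congrArg Subtype.val (hinj _ _ (d.s.mem e) (d.s.mem e') h) :)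
    have hEmul : ∀ {e e' : Fin 128}, inE e = true → inE e' = true → inE (mulM e e') = true := fun he he' => by
      rw [← d.s.mem_sub (h1 := _) (hm := _)]
      rw [← d.s.mul]
      exact d.s.subE.mul_mem (d.s.mem_sub.2 he) (d.s.mem_sub.2 he')
    have hab : commM a b = true := by
      refine E_pair a b haE ha2 hbE hb2 ?_
      obtain ⟨e, heE, hes, he4⟩ := hcode (s1 * s2) (mul_mem hs1 hs2)
      intro hi
      have : e = mulM a b := hinjc heE (hEmul haE hbE) (by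
        rw [hes, Subgroup.coe_mul, ← has, ← hbs, hq' haE hbE (hEmul haE hbE)])
      rw [← this] at hi ⊢
      exact he4 hi
    obtain ⟨hindep, hspan⟩ := E_span a b haE ha2 hbE hb2 hab
    have hc12 : Commute s1 s2 := Subtype.ext (by
      show (s1 : ↥H ⧸ Cfsg.oddCore ↥H) * s2 = s2 * s1
      rw [← has, ← hbs, ← map_mul, ← map_mul]
      exact congrArg q (Subtype.ext (d.s.commute.2 hab)))
    have hfour : ∀ {e : Fin 128} (he : inE e = true) {t : ↥K},
        q ⟨d.s.φ e, hEH he⟩ = (t : ↥H ⧸ Cfsg.oddCore ↥H) → ∀ i : Fin 4,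
        ∃ h : inE (pwM e i) = true, q ⟨d.s.φ (pwM e i), hEH h⟩ = ((t ^ (i : ℕ) : ↥K) : ↥H ⧸ Cfsg.oddCore ↥H) := by
      intro e he t ht i
      have h2 := hEmul he he
      have h3 := hEmul he h2
      rw [Subgroup.coe_pow, ← ht]
      fin_cases i
      · refine ⟨(inE_iff 0).1.symm ▸ (show commM 0 15 = true by decide +kernel), ?_⟩
        show q ⟨d.s.φ 0, _⟩ = _ ^ 0
        rw [pow_zero, ← map_one q]
        exact congrArg q (Subtype.ext d.s.one)
      · exact ⟨he, (pow_one _).symm⟩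
      · exact ⟨h2, by show _ = _ ^ 2; rw [pow_two, hq' he he h2]; rfl⟩
      · exact ⟨h3, by show _ = _ ^ 3; rw [pow_succ', pow_two, hq' he he h2, hq' he h2 h3]; rfl⟩
    have hprod : ∀ i j : Fin 4, ∃ h : inE (mulM (pwM a i) (pwM b j)) = true,
        q ⟨d.s.φ (mulM (pwM a i) (pwM b j)), hEH h⟩ =
          ((s1 ^ (i : ℕ) * s2 ^ (j : ℕ) : ↥K) : ↥H ⧸ Cfsg.oddCore ↥H) := by
      intro i j
      obtain ⟨h1, e1⟩ := hfour haE has i
      obtain ⟨h2, e2⟩ := hfour hbE hbs j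
      exact ⟨hEmul h1 h2, by rw [Subgroup.coe_mul, ← e1, ← e2, hq' h1 h2 (hEmul h1 h2)]⟩
    have hs14 : s1 ^ 4 = 1 := Subtype.ext (by
      rw [show (4 : ℕ) = 2 * 2 from rfl, pow_mul, pow_two, pow_two, Subgroup.coe_mul, Subgroup.coe_mul, hs1z,
        hloc.sq (hcV d.z_mem_V)]
      rfl)
    have hs24 : s2 ^ 4 = 1 := Subtype.ext (by
      rw [show (4 : ℕ) = 2 * 2 from rfl, pow_mul, pow_two, pow_two, Subgroup.coe_mul, Subgroup.coe_mul, hs2c,
        hloc.sq (hcV d.c_mem_V)]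
      rfl)
    have hadd : ∀ (t : ↥K), t ^ 4 = 1 → ∀ i j : ZMod (2 ^ 2), t ^ (i + j).val = t ^ i.val * t ^ j.val := by
      intro t ht i j
      rw [← pow_add, ZMod.val_add]
      exact (pow_eq_pow_mod _ ht).symm
    let f : Multiplicative (ZMod (2 ^ 2) × ZMod (2 ^ 2)) →* ↥(SK : Subgroup ↥K) :=
      MonoidHom.mk' (fun p => ⟨s1 ^ (Multiplicative.toAdd p).1.val * s2 ^ (Multiplicative.toAdd p).2.val,
        mul_mem (pow_mem hs1 _) (pow_mem hs2 _)⟩) fun p p' => Subtype.ext (by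
        simp only [toAdd_mul, Prod.fst_add, Prod.snd_add, hadd s1 hs14, hadd s2 hs24, Subgroup.coe_mul]
        exact (hc12.pow_pow (Multiplicative.toAdd p').1.val (Multiplicative.toAdd p).2.val).mul_mul_mul_comm _ _)
    have hf : Function.Bijective f := by
      refine ⟨(injective_iff_map_eq_one f).2 fun p hp => ?_, fun t => ?_⟩
      · set i : Fin 4 := ⟨(Multiplicative.toAdd p).1.val, ZMod.val_lt (Multiplicative.toAdd p).1⟩ with hi
        set j : Fin 4 := ⟨(Multiplicative.toAdd p).2.val, ZMod.val_lt (Multiplicative.toAdd p).2⟩ with hj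
        obtain ⟨h, e⟩ := hprod i j
        have h1 : ((f p : ↥(SK : Subgroup ↥K)) : ↥K) = 1 := by rw [hp]; rfl
        have h2 : s1 ^ (i : ℕ) * s2 ^ (j : ℕ) = 1 := h1
        have h3 : mulM (pwM a i) (pwM b j) = 0 := by
          refine hinjc h ((inE_iff 0).1.symm ▸ (show commM 0 15 = true by decide +kernel)) ?_
          rw [e, h2, OneMemClass.coe_one, ← map_one q]
          exact congrArg q (Subtype.ext d.s.one.symm)
        obtain ⟨i0, j0⟩ := hindep _ _ h3
        exact Multiplicative.toAdd.injective (Prod.ext ((ZMod.val_eq_zero _).1 (congrArg Fin.val i0))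
          ((ZMod.val_eq_zero _).1 (congrArg Fin.val j0)))
      · obtain ⟨e, heE, het, -⟩ := hcode t t.2
        obtain ⟨i, j, hij⟩ := hspan e heE
        obtain ⟨hp, hpe⟩ := hprod i j
        set r : ↥K := (s1 ^ (i : ℕ) * s2 ^ (j : ℕ))⁻¹ * t
        have hrS : r ∈ (SK : Subgroup ↥K) := mul_mem (inv_mem (mul_mem (pow_mem hs1 _) (pow_mem hs2 _))) t.2
        have hrsq : r * r = 1 := by
          set k0 := mulM (invM (mulM (pwM a i) (pwM b j))) e with hk0
          have hEi : inE (invM (mulM (pwM a i) (pwM b j))) = true :=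
            d.s.mem_sub.1 (show d.s.φ (invM _) ∈ d.s.subE by rw [← d.s.inv]; exact inv_mem (d.s.mem_sub.2 hp))
          have hrk : (r : ↥H ⧸ Cfsg.oddCore ↥H) = q ⟨d.s.φ k0, hEH (hEmul hEi heE)⟩ := by
            rw [show (r : ↥H ⧸ Cfsg.oddCore ↥H) = _ from Subgroup.coe_mul _ _ _, InvMemClass.coe_inv, ← hpe, ← het,
              ← map_inv, ← map_mul]
            refine congrArg q (Subtype.ext ?_)
            show (d.s.φ _)⁻¹ * d.s.φ e = d.s.φ k0
            rw [d.s.inv, d.s.mul]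
          refine Subtype.ext ?_
          rw [Subgroup.coe_mul, hrk, ← map_mul, OneMemClass.coe_one, ← map_one q]
          exact congrArg q (Subtype.ext (d.s.sq.2 (A1_facts k0 hij).1))
        obtain ⟨v, hv, hve⟩ := mem_subgroupOf.1 (hinv r hrS hrsq)
        have hrr : ∃ a0 b0 : ℕ, r = s1 ^ a0 * s2 ^ b0 := by
          rcases d.V_cases (mem_subgroupOf.1 hv) with e1 | e1 | e1 | e1
          · exact ⟨0, 0, Subtype.ext (by rw [← hve, show v = 1 from Subtype.ext e1, map_one]; simp)⟩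
          · exact ⟨2, 0, Subtype.ext (by rw [← hve, show v = zb from Subtype.ext e1]; simp [pow_two, hs1z])⟩
          · exact ⟨0, 2, Subtype.ext (by rw [← hve, show v = cb from Subtype.ext e1]; simp [pow_two, hs2c])⟩
          · refine ⟨2, 2, Subtype.ext ?_⟩
            rw [← hve, show v = cb * zb from Subtype.ext (by
              rw [e1, ← pair_codes.2.2.1, ← d.s.mul]; rfl), map_mul]
            simp only [Subgroup.coe_mul, pow_two, hs1z, hs2c]
            exact hloc.comm (hcV d.c_mem_V) (hcV d.z_mem_V)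
        obtain ⟨a0, b0, hab0⟩ := hrr
        refine ⟨Multiplicative.ofAdd ((((i : ℕ) + a0 : ℕ) : ZMod (2 ^ 2)), (((j : ℕ) + b0 : ℕ) : ZMod (2 ^ 2))),
          Subtype.ext ?_⟩
        show s1 ^ ZMod.val _ * s2 ^ ZMod.val _ = (t : ↥K)
        simp only [toAdd_ofAdd, ZMod.val_natCast]
        rw [show (2 : ℕ) ^ 2 = 4 from rfl, ← pow_eq_pow_mod _ hs14, ← pow_eq_pow_mod _ hs24, pow_add, pow_add,
          (hc12.pow_pow a0 (j : ℕ)).mul_mul_mul_comm, ← hab0, mul_inv_cancel_left]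
    have hO : ∀ N : Subgroup ↥K, N.Normal → Odd (Nat.card ↥N) → N = ⊥ := by
      intro N hN hNo
      refine (IsSimpleGroup.eq_bot_or_eq_top_of_normal N hN).resolve_right fun e => ?_
      rw [e, Subgroup.card_top] at hNo
      have h4 := Nat.card_congr (subgroupOfEquivOfLe hVK).toEquiv
      rw [hcardV] at h4
      have hd := (Vb.subgroupOf K).card_subgroup_dvd_card
      rw [h4] at hd
      exact Nat.not_even_iff_odd.2 hNo (even_iff_two_dvd.2 ((show 2 ∣ 4 by norm_num).trans hd))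
    obtain ⟨hn, -, -⟩ := S0949.result SK 2 le_rfl (MulEquiv.ofBijective f hf).symm hO
    rcases IsSimpleGroup.eq_bot_or_eq_top_of_normal _ hn with e | e
    · refine hsV ?_
      rw [e, mem_bot] at hs
      rw [hs, OneMemClass.coe_one]
      exact one_mem _
    · refine hnc ⟨⟨fun x y => ?_⟩⟩
      obtain ⟨p, hp⟩ := hf.2 ⟨x, e ▸ mem_top x⟩
      obtain ⟨p', hp'⟩ := hf.2 ⟨y, e ▸ mem_top y⟩
      have h1 : f p * f p' = f p' * f p := by rw [← map_mul, ← map_mul, mul_comm]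
      rw [hp, hp'] at h1
      exact congrArg Subtype.val h1

/-- In a subgroup where it is strongly closed the central four group is normal modulo the odd core. -/
theorem strong_fix {H : Subgroup G} (hE : d.s.subE ≤ H) (P : Sylow 2 ↥H)
    (hP : (P : Subgroup ↥H) = (d.S : Subgroup G).subgroupOf H)
    (hcl : ∀ v ∈ d.subV, ∀ h ∈ H, h * v * h⁻¹ ∈ (d.S : Subgroup G) → h * v * h⁻¹ ∈ d.subV) :
    ∀ h ∈ H, ∀ v ∈ d.subV, ∃ w ∈ d.subV, h * v * h⁻¹ * w⁻¹ ∈ OG H := by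
  haveI : Fact (Nat.Prime 2) := ⟨Nat.prime_two⟩
  haveI : (Cfsg.oddCore ↥H).Normal := Grp.pPrimeCore_isNormal
  set q := QuotientGroup.mk' (Cfsg.oddCore ↥H)
  set Vb := (d.subV.subgroupOf H).map q with hVb
  set Pb : Sylow 2 (↥H ⧸ Cfsg.oddCore ↥H) := P.mapSurjective (QuotientGroup.mk'_surjective _)
  have hPb : (Pb : Subgroup _) = ((d.S : Subgroup G).subgroupOf H).map q := by
    rw [Sylow.coe_mapSurjective, hP]
  have hclb : ∀ a ∈ Vb, ∀ g, g * a * g⁻¹ ∈ (Pb : Subgroup _) → g * a * g⁻¹ ∈ Vb := by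
    rintro _ ⟨v, hv, rfl⟩ g hg
    obtain ⟨g, rfl⟩ := QuotientGroup.mk'_surjective _ g
    rw [hPb] at hg
    obtain ⟨p, hp, hpe⟩ := hg
    rw [← map_mul, ← map_inv, ← map_mul] at hpe ⊢
    have ho : (((g * v * g⁻¹) * p⁻¹ : ↥H) : G) ∈ OG H :=
      mem_OG.2 ((QuotientGroup.eq_one_iff (N := Cfsg.oddCore ↥H) _).1 (show q (g * v * g⁻¹ * p⁻¹) = 1 by
        rw [map_mul, map_inv, hpe, mul_inv_cancel]))
    have hvv : (v : G) * v = 1 := d.V_sq (mem_subgroupOf.1 hv)
    have ha2 : (g * v * g⁻¹) * (g * v * g⁻¹) = 1 := Subtype.ext (by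
      simp only [Subgroup.coe_mul, InvMemClass.coe_inv, OneMemClass.coe_one]
      rw [show (g : G) * v * (g : G)⁻¹ * (g * v * (g : G)⁻¹) = g * (v * v) * (g : G)⁻¹ by group, hvv, mul_one,
        mul_inv_cancel])
    have hpp : (p : G) * p = 1 := by
      refine two_odd_eq_one d.S.isPGroup' (OG_odd H) (mul_mem (mem_subgroupOf.1 hp) (mem_subgroupOf.1 hp)) ?_
      rw [← Subgroup.coe_mul]
      refine mem_OG.2 ((QuotientGroup.eq_one_iff (N := Cfsg.oddCore ↥H) _).1 ?_)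
      show q (p * p) = 1
      rw [map_mul, hpe, ← map_mul, ha2, map_one]
    have hp2 : p * p = 1 := Subtype.ext hpp
    have hpi : p⁻¹ = p := inv_eq_of_mul_eq_one_right hp2
    rw [hpi] at ho
    obtain ⟨u, hu, hue⟩ := exists_exact ha2 hp2 (by
      rw [← Subgroup.orderOf_coe]
      exact (OG_odd H).of_dvd_nat (Subgroup.orderOf_dvd_natCard _ ho))
    have hu1 : q u = 1 := by
      refine (QuotientGroup.eq_one_iff u).2 ?_
      exact zpowers_le.2 (mem_OG.1 ho) hu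
    have hgv : ((u⁻¹ * g : ↥H) : G) * v * ((u⁻¹ * g : ↥H) : G)⁻¹ = p := by
      rw [← Subgroup.coe_mul, ← InvMemClass.coe_inv, ← Subgroup.coe_mul]
      refine congrArg Subtype.val ?_
      rw [show u⁻¹ * g * v * (u⁻¹ * g)⁻¹ = u⁻¹ * (g * v * g⁻¹) * u by group, ← hue]
      group
    have hmem := hcl v (mem_subgroupOf.1 hv) _ (u⁻¹ * g).2 (hgv ▸ mem_subgroupOf.1 hp)
    rw [hgv] at hmem
    refine ⟨p, mem_subgroupOf.2 hmem, ?_⟩
    rw [show g * v * g⁻¹ = u * p * u⁻¹ from hue.symm, map_mul, map_mul, map_inv, hu1]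
    group
    rfl
  have hloc : Fus.Gold.LocalHyp (↥H ⧸ Cfsg.oddCore ↥H) Vb :=
    { core := Grp.pPrimeCore_quotient_eq_bot
      elem := by
        refine ⟨⟨⟨fun a b => Subtype.ext ?_⟩⟩, fun a ha => ?_⟩
        · obtain ⟨v, hv, hve⟩ := a.2
          obtain ⟨w, hw, hwe⟩ := b.2
          rw [Subgroup.coe_mul, Subgroup.coe_mul, ← hve, ← hwe, ← map_mul, ← map_mul]
          exact congrArg q (Subtype.ext (d.s.comm_subA (d.subV_le_subA (mem_subgroupOf.1 hv))
            (d.subV_le_subA (mem_subgroupOf.1 hw))))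
        · obtain ⟨v, hv, rfl⟩ := ha
          rw [pow_two, ← map_mul, show v * v = 1 from Subtype.ext (d.V_sq (mem_subgroupOf.1 hv)), map_one]
      closed := fun T hT hVT x hx g hg => by
        obtain ⟨h, hh⟩ := conj_into Pb hT
        have hN : h ∈ normalizer (Vb : Set (↥H ⧸ Cfsg.oddCore ↥H)) :=
          mem_normalizer_fintype fun a ha => hclb a ha h (hh (mem_cI (hVT ha)))
        refine (mem_normalizer_iff.1 hN _).2 ?_
        rw [show h * (g * x * g⁻¹) * h⁻¹ = h * g * x * (h * g)⁻¹ by group]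
        refine hclb x hx (h * g) ?_
        rw [show h * g * x * (h * g)⁻¹ = h * (g * x * g⁻¹) * h⁻¹ by group]
        exact hh (mem_cI hg)
      comp := fun K hK => by
        haveI := hK.2.2
        exact Fus.Gold.conclusion_all _ hK.2.2 (Fus.Gold.not_comm_quotient hK) }
  have hno := d.no_moved hE P hP hloc
  have h1 := Fus.Gold.local_closure hloc
  rw [hno, sSup_empty, sup_bot_eq] at h1
  intro h hh v hv
  have h2 := h1 (commutator_mem_commutator (mem_top (q ⟨h, hh⟩))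
    (⟨⟨v, hE (d.subV_le_subE hv)⟩, mem_subgroupOf.2 hv, rfl⟩ : q ⟨v, hE (d.subV_le_subE hv)⟩ ∈ Vb))
  rw [commutatorElement_def, ← map_inv, ← map_inv, ← map_mul, ← map_mul, ← map_mul] at h2
  obtain ⟨w, hw, hwe⟩ := h2
  refine ⟨(w : G) * v, d.subV.mul_mem (mem_subgroupOf.1 hw) hv, ?_⟩
  have h3 : q ((⟨h, hh⟩ * ⟨v, hE (d.subV_le_subE hv)⟩ * ⟨h, hh⟩⁻¹ * ⟨v, hE (d.subV_le_subE hv)⟩⁻¹) * w⁻¹) = 1 := by
    rw [map_mul, map_inv, hwe, mul_inv_cancel]
  have h4 := mem_OG.2 ((QuotientGroup.eq_one_iff (N := Cfsg.oddCore ↥H) _).1 h3)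
  simp only [Subgroup.coe_mul, InvMemClass.coe_inv] at h4
  rwa [mul_inv_rev, ← mul_assoc]

end Setting

end Cfsg.Agent.Spor.JTwoType
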