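import Cfsg.Agent.Lib.Spor.JTwoType.Outer
import Cfsg.Agent.Lib.Fus.Goldschmidt.Main

/-!
# The extraspecial subgroup is normal in a group centralising `z`

Its image modulo `z` is strongly closed; by Goldschmidt's theorem it is normal, as a moved component would split
the five singular vectors into orbits of length three.
-/

set_option autoImplicit false
set_option linter.unusedSectionVars false
set_option linter.style.haveILetI false
set_option maxRecDepth 100000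

namespace Cfsg.Agent.Spor.JTwoType

open Subgroup

universe u

variable {G : Type u} [Group G] [Finite G]

/-- The odd core of a quotient by a central 2-subgroup. -/
theorem oddCore_quotient (hO : Cfsg.oddCore G = ⊥) (Z : Subgroup G) [Z.Normal] (hZ : Z ≤ center G)
    (h2 : IsPGroup 2 ↥Z) : Cfsg.oddCore (G ⧸ Z) = ⊥ := by
  haveI : Fact (Nat.Prime 2) := ⟨Nat.prime_two⟩
  refine le_bot_iff.1 (sSup_le ?_)
  rintro N ⟨hN, hNc⟩
  set M := N.comap (QuotientGroup.mk' Z)
  have hZM : Z ≤ M := fun z hz => by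
    show QuotientGroup.mk' Z z ∈ N
    rw [QuotientGroup.mk'_apply, (QuotientGroup.eq_one_iff z).2 hz]
    exact one_mem _
  haveI : (Z.subgroupOf M).Normal := inferInstance
  obtain ⟨k, hk⟩ := IsPGroup.iff_card.1 h2
  have hidx : (Z.subgroupOf M).index = Nat.card ↥N := by
    have h1 := (Z.subgroupOf M).card_mul_index
    have h3 : Nat.card ↥M = Nat.card ↥Z * Nat.card ↥N := by
      have hM : M.index = N.index := index_comap_of_surjective N (QuotientGroup.mk'_surjective Z)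
      have a := M.card_mul_index
      have b : Nat.card ↥N * N.index = Z.index := N.card_mul_index.trans Z.index_eq_card.symm
      rw [hM, ← Z.card_mul_index, ← b, ← mul_assoc] at a
      exact Nat.eq_of_mul_eq_mul_right (Nat.pos_of_ne_zero index_ne_zero_of_finite) a
    rw [Nat.card_congr (subgroupOfEquivOfLe hZM).toEquiv, h3] at h1
    exact Nat.eq_of_mul_eq_mul_left Nat.card_pos h1
  have hcop : (Nat.card ↥(Z.subgroupOf M)).Coprime (Z.subgroupOf M).index := by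
    rw [hidx, Nat.card_congr (subgroupOfEquivOfLe hZM).toEquiv, hk]
    exact Nat.Coprime.pow_left k hNc.symm
  obtain ⟨C, hC⟩ := exists_right_complement'_of_coprime hcop
  have hcC : Nat.card ↥C = Nat.card ↥N := by rw [← hC.symm.index_eq_card, hidx]
  -- elements of odd order of `M` lie in `C`
  have hodd : ∀ w : ↥M, Odd (orderOf w) → w ∈ C := by
    intro w hw
    obtain ⟨⟨⟨z, hz⟩, t, ht⟩, rfl⟩ := hC.2 w
    have hc : Commute z t := (Subtype.ext (mem_center_iff.1 (hZ (mem_subgroupOf.1 hz)) t) : t * z = z * t).symm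
    set n := orderOf ((z : ↥M) * t)
    have h1 : z ^ n * t ^ n = 1 := by rw [← hc.mul_pow]; exact pow_orderOf_eq_one _
    have h2' : z ^ n ∈ C := by rw [eq_inv_of_mul_eq_one_left h1]; exact inv_mem (pow_mem ht _)
    have h3 : z ^ n = 1 := mem_bot.1 (hC.disjoint.le_bot ⟨pow_mem hz _, h2'⟩)
    have h4 : orderOf z ∣ n := orderOf_dvd_of_pow_eq_one h3
    obtain ⟨j, hj⟩ := IsPGroup.iff_orderOf.1 (show IsPGroup 2 ↥(Z.subgroupOf M) from h2.comap_of_injective _ M.subtype_injective) ⟨z, hz⟩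
    rw [Subgroup.orderOf_mk] at hj
    have h5 : orderOf z = 1 := by
      rw [hj] at h4 ⊢
      rcases j with _ | j
      · rfl
      · exact absurd ((dvd_pow_self 2 (Nat.succ_ne_zero j)).trans h4) (fun h => Nat.not_even_iff_odd.2 hw (even_iff_two_dvd.2 h))
    show z * t ∈ C
    rw [orderOf_eq_one_iff.1 h5, one_mul]
    exact ht
  have hCn : (C.map M.subtype).Normal := ⟨by
    rintro _ ⟨c, hc, rfl⟩ g
    have hMn : M.Normal := hN.comap _
    refine ⟨⟨g * c * g⁻¹, hMn.conj_mem c c.2 g⟩, hodd _ ?_, rfl⟩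
    rw [← Subgroup.orderOf_coe]
    show Odd (orderOf (g * c * g⁻¹))
    rw [show orderOf (g * c * g⁻¹) = orderOf (c : G) from (MulAut.conj g).orderOf_eq (c : G), Subgroup.orderOf_coe]
    refine (Nat.not_even_iff_odd.1 fun he => ?_ : Odd (Nat.card ↥C)).of_dvd_nat
      (orderOf_mk c hc ▸ orderOf_dvd_natCard _)
    rw [hcC, even_iff_two_dvd] at he
    exact (Nat.Prime.coprime_iff_not_dvd Nat.prime_two).1 hNc.symm he⟩
  have hCc : (Nat.card ↥(C.map M.subtype)).Coprime 2 := by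
    rw [card_map_of_injective M.subtype_injective, hcC]; exact hNc
  have hbot : C.map M.subtype = ⊥ := le_bot_iff.1 (hO ▸ le_sSup ⟨hCn, hCc⟩)
  have h1 : Nat.card ↥N = 1 := by
    rw [← hcC, ← card_map_of_injective M.subtype_injective, hbot, Subgroup.card_bot]
  exact (Subgroup.card_eq_one.1 h1).le

/-- A monomial as a code. -/
def toM (x : Fin 16) : Fin 128 := ⟨x, by omega⟩

/-- The singular vectors. -/
def sg (x : Fin 16) : Bool := x == 1 || x == 2 || x == 4 || x == 8 || x == 15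

/-- The five singular vectors. -/
def sv : Fin 5 → Fin 16 := ![1, 2, 4, 8, 15]

/-- The sum of two vectors. -/
def xr (x y : Fin 16) : Fin 16 := ⟨((x : ℕ) ^^^ (y : ℕ)) % 16, Nat.mod_lt _ (by norm_num)⟩

/-- Membership in the extraspecial subgroup. -/
def inQ (n : Fin 128) : Bool := (n : ℕ) / 32 == 0

theorem inQ_closed : ∀ n m : Fin 128, inQ n = true → inQ m = true → inQ (mulM n m) = true := by decide +kernel

theorem toM_mul : ∀ x y : Fin 16, mulM (toM x) (toM y) = toM (xr x y) ∨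
    mulM (toM x) (toM y) = mulM (toM (xr x y)) 16 := by decide +kernel

theorem toM_inj : ∀ x y : Fin 16, (toM x = toM y ∨ toM x = mulM (toM y) 16) → x = y := by decide +kernel

theorem toM_Q : ∀ x : Fin 16, inQ (toM x) = true ∧ inQ (mulM (toM x) 16) = true ∧ (toM x = 0 ↔ x = 0) ∧
    isInv (toM x) = sg x ∧ isInv (mulM (toM x) 16) = (sg x || x == 0) ∧
    mulM (mulM (toM x) 16) (mulM (toM x) 16) = mulM (toM x) (toM x) := by decide +kernel

theorem inQ_toM : ∀ n : Fin 128, inQ n = true → ∃ x : Fin 16, n = toM x ∨ n = mulM (toM x) 16 := by decide +kernel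

theorem inQ_16 : ∀ n : Fin 128, inQ (mulM n 16) = inQ n ∧ mulM (mulM n 16) 16 = n := by decide +kernel

theorem inQ_conj : ∀ g n : Fin 128, inQ n = true → inQ (conjM g n) = true := by decide +kernel

theorem sg_sum : ∀ x y : Fin 16, sg x = true → sg y = true → x ≠ y → sg (xr x y) = false := by decide +kernel

theorem sg_sv : ∀ x : Fin 16, sg x = true → ∃ i, sv i = x := by decide +kernel

theorem sv_inj : Function.Injective sv := by decide +kernel

theorem sv_sg : ∀ i, sg (sv i) = true := by decide +kernel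

theorem perm_32 : ∀ i, conjM 32 (toM (sv i)) = toM (sv (![1, 0, 3, 2, 4] i)) ∨
    conjM 32 (toM (sv i)) = mulM (toM (sv (![1, 0, 3, 2, 4] i))) 16 := by decide +kernel

theorem perm_64 : ∀ i, conjM 64 (toM (sv i)) = toM (sv (![2, 3, 0, 1, 4] i)) ∨
    conjM 64 (toM (sv i)) = mulM (toM (sv (![2, 3, 0, 1, 4] i))) 16 := by decide +kernel

/-- No splitting of the singular vectors. -/
theorem no_split : ∀ a b : Fin 16, sg a = false → sg b = false → sg (xr a b) = false → a ≠ 0 → b ≠ 0 → a ≠ b →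
    ∀ c d : Fin 16, sg c = false → sg d = false → sg (xr c d) = false → c ≠ 0 → d ≠ 0 → c ≠ d →
    [c, d, xr c d].all (fun f => f != a && f != b && f != xr a b) = true →
    [c, d, xr c d].all (fun f => sg (xr a f) == sg (xr b f) && sg (xr b f) == sg (xr (xr a b) f)) = true →
    [a, b, xr a b].all (fun e => [c, d, xr c d].all fun f => xr e f != 1) = true := by
  decide +kernel

theorem five_three : ∀ p : Equiv.Perm (Fin 5), p ^ 5 = 1 → p ≠ 1 → ∃ (k : Fin 5) (τ : Bool),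
    let t : Equiv.Perm (Fin 5) := if τ then Equiv.swap 0 1 * Equiv.swap 2 3 else Equiv.swap 0 2 * Equiv.swap 1 3
    (p ^ (k : ℕ) * t) ^ 3 = 1 ∧ p ^ (k : ℕ) * t ≠ 1 := by
  decide +kernel

/-- The data: a Sylow subgroup of Hall-Janko shape with `z` central, trivial odd core and `a0` fused to `c`. -/
structure Ctx (G : Type u) [Group G] [Finite G] where
  S : Sylow 2 G
  s : Shape (S : Subgroup G)
  hz : ∀ g : G, g * s.φ 16 = s.φ 16 * g
  hO : Cfsg.oddCore G = ⊥
  fused : ∃ k : G, k * s.φ 1 * k⁻¹ = s.φ 15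

namespace Ctx

variable (c : Ctx G)

/-- The centre. -/
def Z : Subgroup G := zpowers (c.s.φ 16)

theorem Z_central : c.Z ≤ center G := zpowers_le.2 (mem_center_iff.2 c.hz)

instance Z_normal : c.Z.Normal := ⟨fun z hz g => by
  rw [mem_center_iff.1 (c.Z_central hz) g, mul_inv_cancel_right]; exact hz⟩

theorem mem_Z {g : G} : g ∈ c.Z ↔ g = 1 ∨ g = c.s.φ 16 := by
  constructor
  · intro h
    obtain ⟨n, hn⟩ := mem_zpowers_iff.1 h
    have h2 : c.s.φ 16 * c.s.φ 16 = 1 := c.s.sq.2 (commM_16 0).2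
    rcases Int.even_or_odd n with ⟨j, rfl⟩ | ⟨j, rfl⟩
    · exact Or.inl (by rw [← hn, zpow_add, ← (Commute.refl (c.s.φ 16)).mul_zpow, h2, one_zpow])
    · exact Or.inr (by rw [← hn, zpow_add, zpow_mul, zpow_ofNat, pow_two, h2, one_zpow, one_mul, zpow_one])
  · rintro (rfl | rfl)
    exacts [one_mem _, mem_zpowers _]

/-- The map onto the quotient. -/
def qm : G →* G ⧸ c.Z := QuotientGroup.mk' c.Z

theorem qm_surj : Function.Surjective c.qm := QuotientGroup.mk'_surjective _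

/-- Codes in the quotient. -/
def ψ (n : Fin 128) : G ⧸ c.Z := c.qm (c.s.φ n)

theorem ψ_mul (n m : Fin 128) : c.ψ n * c.ψ m = c.ψ (mulM n m) := by rw [ψ, ψ, ψ, ← map_mul, c.s.mul]

theorem qm_eq {g : G} {n : Fin 128} : c.qm g = c.ψ n ↔ g = c.s.φ n ∨ g = c.s.φ (mulM n 16) := by
  rw [ψ, ← c.s.mul, eq_comm, qm, QuotientGroup.mk'_apply, QuotientGroup.mk'_apply, QuotientGroup.eq, c.mem_Z,
    inv_mul_eq_one, inv_mul_eq_iff_eq_mul]
  exact ⟨fun h => h.imp Eq.symm id, fun h => h.imp Eq.symm id⟩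

theorem ψ_eq {n m : Fin 128} : c.ψ n = c.ψ m ↔ n = m ∨ n = mulM m 16 := by
  rw [show c.ψ n = c.qm (c.s.φ n) from rfl, c.qm_eq, c.s.inj.eq_iff, c.s.inj.eq_iff]

/-- Coordinates on the image of the extraspecial subgroup. -/
def al (x : Fin 16) : G ⧸ c.Z := c.ψ (toM x)

theorem al_mul (x y : Fin 16) : c.al x * c.al y = c.al (xr x y) := by
  rw [al, al, c.ψ_mul, al, c.ψ_eq]; exact toM_mul x y

theorem al_inj : Function.Injective c.al := fun x y h => toM_inj x y (c.ψ_eq.1 h)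

theorem al_zero : c.al 0 = 1 := by
  rw [al, show toM 0 = (0 : Fin 128) from rfl, ψ, c.s.one, map_one]

theorem al_eq_one {x : Fin 16} : c.al x = 1 ↔ x = 0 := by rw [← c.al_zero, c.al_inj.eq_iff]

theorem al_of_inQ {n : Fin 128} (h : inQ n = true) : ∃ x, c.ψ n = c.al x :=
  (inQ_toM n h).imp fun _ hx => c.ψ_eq.2 hx

/-- The extraspecial subgroup. -/
def Q : Subgroup G := c.s.sub inQ (by decide +kernel) inQ_closed

/-- Its image. -/
def A : Subgroup (G ⧸ c.Z) := c.Q.map c.qm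

theorem mem_A {a : G ⧸ c.Z} : a ∈ c.A ↔ ∃ x, a = c.al x := by
  constructor
  · rintro ⟨_, ⟨n, hn, rfl⟩, rfl⟩
    exact c.al_of_inQ hn
  · rintro ⟨x, rfl⟩
    exact ⟨_, c.s.mem_sub.2 (toM_Q x).1, rfl⟩

theorem al_mem (x : Fin 16) : c.al x ∈ c.A := c.mem_A.2 ⟨x, rfl⟩

theorem ψ_mem_A {n : Fin 128} : c.ψ n ∈ c.A ↔ inQ n = true := by
  refine ⟨fun h => ?_, fun h => c.mem_A.2 (c.al_of_inQ h)⟩
  obtain ⟨x, hx⟩ := c.mem_A.1 h
  rcases c.ψ_eq.1 hx with e | e <;> rw [e]
  exacts [(toM_Q x).1, (toM_Q x).2.1]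

theorem card_A : Nat.card ↥c.A = 16 := by
  have h := Nat.card_eq_of_bijective (fun x : Fin 16 => (⟨c.al x, c.al_mem x⟩ : c.A))
    ⟨fun _ _ h => c.al_inj (congrArg Subtype.val h), fun ⟨a, ha⟩ => by
      obtain ⟨x, hx⟩ := c.mem_A.1 ha
      exact ⟨x, Subtype.ext hx.symm⟩⟩
  rw [← h, Nat.card_eq_fintype_card, Fintype.card_fin]

theorem A_sq {a : G ⧸ c.Z} (ha : a ∈ c.A) : a * a = 1 := by
  obtain ⟨x, rfl⟩ := c.mem_A.1 ha
  rw [c.al_mul, c.al_eq_one]
  exact Fin.ext (by simp [xr])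

theorem A_comm {a b : G ⧸ c.Z} (ha : a ∈ c.A) (hb : b ∈ c.A) : a * b = b * a := by
  obtain ⟨x, rfl⟩ := c.mem_A.1 ha
  obtain ⟨y, rfl⟩ := c.mem_A.1 hb
  rw [c.al_mul, c.al_mul]
  exact congrArg c.al (Fin.ext (by simp [xr, Nat.xor_comm]))

theorem A_elem : Cfsg.IsElementaryAbelian 2 c.A :=
  ⟨⟨⟨fun a b => Subtype.ext (c.A_comm a.2 b.2)⟩⟩, fun a ha => by rw [pow_two]; exact c.A_sq ha⟩

/-- The Sylow subgroup of the quotient. -/
noncomputable def T : Sylow 2 (G ⧸ c.Z) := c.S.mapSurjective c.qm_surj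

theorem mem_T {h : G ⧸ c.Z} : h ∈ (c.T : Subgroup (G ⧸ c.Z)) ↔ ∃ n, h = c.ψ n := by
  rw [T, Sylow.coe_mapSurjective]
  constructor
  · rintro ⟨g, hg, rfl⟩
    obtain ⟨n, rfl⟩ := c.s.surj g hg
    exact ⟨n, rfl⟩
  · rintro ⟨n, rfl⟩
    exact ⟨_, c.s.mem n, rfl⟩

theorem A_le_T : c.A ≤ (c.T : Subgroup (G ⧸ c.Z)) := fun a ha => by
  obtain ⟨x, rfl⟩ := c.mem_A.1 ha
  exact c.mem_T.2 ⟨_, rfl⟩

theorem T_normalizes : (c.T : Subgroup (G ⧸ c.Z)) ≤ normalizer (c.A : Set (G ⧸ c.Z)) := fun t ht => by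
  obtain ⟨n, rfl⟩ := c.mem_T.1 ht
  refine mem_normalizer_fintype fun a ha => ?_
  obtain ⟨_, ⟨m, hm, rfl⟩, rfl⟩ := ha
  show c.qm _ * c.qm _ * (c.qm _)⁻¹ ∈ c.A
  rw [← map_mul, ← map_inv, ← map_mul, c.s.conj]
  exact c.ψ_mem_A.2 (inQ_conj n m hm)

theorem lift_conj {g : G} {n m : Fin 128} (h : c.qm g * c.ψ n * (c.qm g)⁻¹ = c.ψ m) :
    ∃ m', g * c.s.φ n * g⁻¹ = c.s.φ m' ∧ (m' = m ∨ m' = mulM m 16) := by
  rw [ψ, ← map_mul, ← map_inv, ← map_mul, c.qm_eq] at h
  rcases h with h | h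
  exacts [⟨m, h, Or.inl rfl⟩, ⟨_, h, Or.inr rfl⟩]

/-- Every conjugate in the Sylow subgroup of an element of the image stays in it. -/
theorem strongly : ∀ a ∈ c.A, ∀ h : G ⧸ c.Z, h * a * h⁻¹ ∈ (c.T : Subgroup (G ⧸ c.Z)) → h * a * h⁻¹ ∈ c.A := by
  intro a ha h ht
  obtain ⟨_, ⟨n, hn, rfl⟩, rfl⟩ := ha
  obtain ⟨g, rfl⟩ := c.qm_surj h
  obtain ⟨m, hm⟩ := c.mem_T.1 ht
  obtain ⟨m', hg, hm'⟩ := c.lift_conj hm
  rw [hm, c.ψ_mem_A]
  suffices hq : inQ m' = true by
    rcases hm' with e | e <;> rw [e] at hq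
    · exact hq
    · rwa [(inQ_16 m).1] at hq
  by_contra hout
  have hh : (m' : ℕ) / 32 ≠ 0 := by simpa [inQ] using hout
  by_cases hsq : mulM n n = 16
  · refine hh (sq_sixteen m' (c.s.inj ?_))
    rw [← c.s.mul, ← hg, show g * c.s.φ n * g⁻¹ * (g * c.s.φ n * g⁻¹) = g * (c.s.φ n * c.s.φ n) * g⁻¹ by group,
      c.s.mul, hsq, c.hz, mul_inv_cancel_right]
  have hcases : ∀ n : Fin 128, inQ n = true → mulM n n ≠ 16 →
      n = 0 ∨ n = 16 ∨ n = 15 ∨ n = 31 ∨ (isInv n = true ∧ inFour n = false ∧ (n : ℕ) / 32 = 0) := by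
    decide +kernel
  have hfinal : ∀ (x : G) (d : Fin 128), d = 15 ∨ d = 31 → x * c.s.φ d * x⁻¹ = c.s.φ m' → False := by
    intro x d hd e
    have hdi : isInv d = true := by rcases hd with rfl | rfl <;> decide +kernel
    exact c.s.outer_not_conj c.hz (c.s.isInv_of_conj hdi e) hh hd x⁻¹ (by rw [← e]; group)
  rcases hcases n hn hsq with rfl | rfl | rfl | rfl | ⟨hi, hf, hzero⟩
  · rw [c.s.one, mul_one, mul_inv_cancel, eq_comm, c.s.eq_one] at hg
    rw [hg] at hh; exact hh rfl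
  · rw [c.hz, mul_inv_cancel_right] at hg
    rw [← c.s.inj hg] at hh
    exact hh (by decide)
  · exact hfinal g 15 (Or.inl rfl) hg
  · exact hfinal g 31 (Or.inr rfl) hg
  · obtain ⟨-, r, hr⟩ := invol_inner n hi hf hzero
    obtain ⟨k, hk⟩ := c.fused
    refine hfinal (g * c.s.φ r * k⁻¹) 15 (Or.inl rfl) ?_
    rw [← hk, ← hg, ← hr, ← c.s.conj]; group

theorem localHyp : Fus.Gold.LocalHyp (G ⧸ c.Z) c.A where
  core := oddCore_quotient c.hO c.Z c.Z_central (c.S.isPGroup'.to_le (zpowers_le.2 (c.s.mem 16)))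
  elem := c.A_elem
  closed P hP hAP x hx g hg := by
    obtain ⟨h, hh⟩ := conj_into c.T hP
    have hN : h ∈ normalizer (c.A : Set (G ⧸ c.Z)) :=
      mem_normalizer_fintype fun a ha => c.strongly a ha h (hh (mem_cI (hAP ha)))
    refine (mem_normalizer_iff.1 hN _).2 ?_
    rw [show h * (g * x * g⁻¹) * h⁻¹ = h * g * x * (h * g)⁻¹ by group]
    refine c.strongly x hx (h * g) ?_
    rw [show h * g * x * (h * g)⁻¹ = h * (g * x * g⁻¹) * h⁻¹ by group]
    exact hh (mem_cI hg)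
  comp K hK := by
    haveI := hK.2.2
    exact Fus.Gold.conclusion_all _ hK.2.2 (Fus.Gold.not_comm_quotient hK)

theorem sg_conj {h : G ⧸ c.Z} {x y : Fin 16} (e : h * c.al x * h⁻¹ = c.al y) : sg x = sg y := by
  obtain ⟨g, rfl⟩ := c.qm_surj h
  obtain ⟨m', hg, hm'⟩ := c.lift_conj e
  have key : c.s.φ (mulM m' m') = c.s.φ (mulM (toM x) (toM x)) ↔ True := by
    rw [iff_true, ← c.s.mul, ← hg, show g * c.s.φ (toM x) * g⁻¹ * (g * c.s.φ (toM x) * g⁻¹) =
      g * (c.s.φ (toM x) * c.s.φ (toM x)) * g⁻¹ by group, c.s.mul]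
    have hsq : ∀ x : Fin 16, mulM (toM x) (toM x) = 0 ∨ mulM (toM x) (toM x) = 16 := by decide +kernel
    rcases hsq x with e' | e' <;> rw [e']
    · rw [c.s.one, mul_one, mul_inv_cancel]
    · rw [c.hz, mul_inv_cancel_right]
  have hmm : mulM (toM y) (toM y) = mulM (toM x) (toM x) := by
    have := c.s.inj (key.2 trivial)
    rcases hm' with e' | e' <;> rw [e'] at this
    · exact this
    · rwa [(toM_Q y).2.2.2.2.2] at this
  have hx0 : x = 0 ↔ y = 0 := by
    rw [← c.al_eq_one, ← c.al_eq_one, ← e, conj_eq_one_iff]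
  have hchar : ∀ x : Fin 16, sg x = (mulM (toM x) (toM x) == 0 && x != 0) := by decide +kernel
  rw [hchar, hchar, hmm]
  by_cases h0 : x = 0
  · rw [h0, hx0.1 h0]
  · have : y ≠ 0 := fun e => h0 (hx0.2 e)
    rw [show (x != 0) = true from bne_iff_ne.2 h0, show (y != 0) = true from bne_iff_ne.2 this]

theorem exists_move : ∃ n ∈ normalizer (c.A : Set (G ⧸ c.Z)), n * c.al 1 * n⁻¹ = c.al 15 := by
  obtain ⟨k, hk⟩ := c.fused
  have e : c.qm k * c.al 1 * (c.qm k)⁻¹ = c.al 15 := by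
    show c.qm k * c.qm _ * (c.qm k)⁻¹ = c.qm _
    rw [← map_mul, ← map_inv, ← map_mul]
    exact congrArg c.qm hk
  obtain ⟨n, hn, hne⟩ := Fus.Gold.exists_conj_eq_of_closed c.T c.A_elem
    (c.localHyp.stronglyClosed c.A_le_T) (c.A_le_T (c.al_mem 1)) (g := c.qm k)
    (by rw [e]; exact c.A_le_T (c.al_mem 15))
  exact ⟨n, hn, hne.trans e⟩

/-- An invariant subgroup of the image is trivial or everything. -/
theorem invariant_eq {W : Subgroup (G ⧸ c.Z)} (hWA : W ≤ c.A) (hne : W ≠ ⊥)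
    (hinv : ∀ n ∈ normalizer (c.A : Set (G ⧸ c.Z)), ∀ w ∈ W, n * w * n⁻¹ ∈ W) : c.A ≤ W := by
  have hT : ∀ (g : Fin 128) {w}, w ∈ W → c.ψ g * w * (c.ψ g)⁻¹ ∈ W :=
    fun g w hw => hinv _ (c.T_normalizes (c.mem_T.2 ⟨g, rfl⟩)) w hw
  let cx (g : Fin 128) (x : Fin 16) : Fin 16 := ⟨(conjM g (toM x) : ℕ) % 16, Nat.mod_lt _ (by norm_num)⟩
  have hcx : ∀ (g : Fin 128) (x : Fin 16), conjM g (toM x) = toM ⟨(conjM g (toM x) : ℕ) % 16, Nat.mod_lt _ (by norm_num)⟩ ∨
      conjM g (toM x) = mulM (toM ⟨(conjM g (toM x) : ℕ) % 16, Nat.mod_lt _ (by norm_num)⟩) 16 := by decide +kernel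
  have hconj : ∀ g x, c.ψ g * c.al x * (c.ψ g)⁻¹ = c.al (cx g x) := fun g x => by
    show c.qm _ * c.qm _ * (c.qm _)⁻¹ = _
    rw [← map_mul, ← map_inv, ← map_mul, c.s.conj]
    exact c.ψ_eq.2 (hcx g x)
  have hd : ∀ g x, c.al x ∈ W → c.al (xr (cx g x) x) ∈ W := fun g x hx => by
    rw [← c.al_mul, ← hconj]; exact W.mul_mem (hT g hx) hx
  obtain ⟨⟨w, hw⟩, hw1⟩ := W.ne_bot_iff_exists_ne_one.1 hne
  obtain ⟨x, rfl⟩ := c.mem_A.1 (hWA hw)
  have hx0 : x ≠ 0 := fun e => hw1 (Subtype.ext (c.al_eq_one.2 e))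
  have hdesc : ∀ x : Fin 16, x ≠ 0 → x = 15 ∨
      [32, 64].any (fun g => let y := xr ⟨(conjM g (toM x) : ℕ) % 16, Nat.mod_lt _ (by norm_num)⟩ x
        y == 15 || [32, 64].any (fun g' => xr ⟨(conjM g' (toM y) : ℕ) % 16, Nat.mod_lt _ (by norm_num)⟩ y == 15)) := by
    decide +kernel
  have h15 : c.al 15 ∈ W := by
    rcases hdesc x hx0 with rfl | h
    · exact hw
    · simp only [List.any_eq_true, Bool.or_eq_true, beq_iff_eq] at h
      obtain ⟨g, -, h | ⟨g', -, h⟩⟩ := h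
      · exact h ▸ hd g x hw
      · exact h ▸ hd g' _ (hd g x hw)
  obtain ⟨n, hn, hne'⟩ := c.exists_move
  have h1 : c.al 1 ∈ W := by
    have := hinv n⁻¹ (inv_mem hn) _ h15
    rw [← hne'] at this
    simpa [mul_assoc] using this
  have horb : ∀ i : Fin 16, (i = 2 ∨ i = 4 ∨ i = 8) → ∃ g : Fin 128,
      (⟨(conjM g (toM 1) : ℕ) % 16, Nat.mod_lt _ (by norm_num)⟩ : Fin 16) = i := by decide +kernel
  have hbasis : ∀ i : Fin 16, (i = 2 ∨ i = 4 ∨ i = 8) → c.al i ∈ W := fun i hi => by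
    obtain ⟨g, hg⟩ := horb i hi
    rw [← hg]
    exact hconj g 1 ▸ hT g h1
  intro a ha
  obtain ⟨y, rfl⟩ := c.mem_A.1 ha
  have hspan : ∀ y : Fin 16, ∃ a b d e : Bool,
      y = xr (xr (if a then 1 else 0) (if b then 2 else 0)) (xr (if d then 4 else 0) (if e then 8 else 0)) := by
    decide +kernel
  obtain ⟨a, b, d, e, rfl⟩ := hspan y
  have hite : ∀ (t : Bool) (i : Fin 16), c.al i ∈ W → c.al (if t then i else 0) ∈ W := fun t i hi => by
    cases t
    · simp [c.al_zero, one_mem]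
    · exact hi
  rw [← c.al_mul, ← c.al_mul, ← c.al_mul]
  exact W.mul_mem (W.mul_mem (hite a 1 h1) (hite b 2 (hbasis 2 (by decide))))
    (W.mul_mem (hite d 4 (hbasis 4 (by decide))) (hite e 8 (hbasis 8 (by decide))))

/-- A subgroup of order four in coordinates. -/
theorem four_coords {E : Subgroup (G ⧸ c.Z)} (hEA : E ≤ c.A) (h4 : 4 ≤ Nat.card ↥E) :
    ∃ a b : Fin 16, a ≠ 0 ∧ b ≠ 0 ∧ a ≠ b ∧ c.al a ∈ E ∧ c.al b ∈ E := by
  classical
  haveI : Fintype ↥E := Fintype.ofFinite _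
  rw [Nat.card_eq_fintype_card] at h4
  obtain ⟨⟨u, hu⟩, hu1⟩ := Fintype.exists_ne_of_one_lt_card (by omega : 1 < Fintype.card ↥E) 1
  obtain ⟨⟨v, hv⟩, hv1⟩ : ∃ v : ↥E, v ∉ ({1, ⟨u, hu⟩} : Finset ↥E) := by
    by_contra hall
    push Not at hall
    have := Finset.card_le_card (show (Finset.univ : Finset ↥E) ⊆ {1, ⟨u, hu⟩} from fun v _ => hall v)
    rw [Finset.card_univ] at this
    have := this.trans (Finset.card_le_two)
    omega
  simp only [Finset.mem_insert, Finset.mem_singleton, not_or] at hv1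
  obtain ⟨a, rfl⟩ := c.mem_A.1 (hEA hu)
  obtain ⟨b, rfl⟩ := c.mem_A.1 (hEA hv)
  exact ⟨a, b, fun e => hu1 (Subtype.ext (c.al_eq_one.2 e)), fun e => hv1.1 (Subtype.ext (c.al_eq_one.2 e)),
    fun e => hv1.2 (by subst e; rfl), hu, hv⟩

/-- The image of the extraspecial subgroup is normal. -/
theorem A_normal : c.A.Normal := by
  classical
  have hloc := c.localHyp
  by_cases hno : Fus.Gold.movedComps c.A = ∅
  · have h1 := Fus.Gold.local_closure hloc
    rw [hno, sSup_empty, sup_bot_eq] at h1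
    exact ⟨fun a ha g => by
      have := h1 (commutator_mem_commutator (mem_top g) ha)
      rw [commutatorElement_def] at this
      simpa using mul_mem this ha⟩
  exfalso
  obtain ⟨K, hK, hKm⟩ := Set.nonempty_iff_ne_empty.2 hno
  have hKm' : ¬ c.A ≤ centralizer (K : Set (G ⧸ c.Z)) := fun h => hKm (Subgroup.le_centralizer_iff.1 h)
  obtain ⟨E, hE, hEd, hEs, hEt⟩ := Fus.Gold.local_factor hloc hK hKm'
  have hfour := Fus.Gold.local_four hloc hK hKm'
  set B := c.A ⊓ centralizer (K : Set (G ⧸ c.Z)) with hB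
  have hBE : B ⊓ E = ⊥ :=
    le_bot_iff.1 ((le_inf inf_le_right (inf_le_left.trans inf_le_right)).trans hEd.le)
  have hcard : Nat.card ↥B * Nat.card ↥E = 16 := by
    have h1 := Grp.card_sup_mul_card_inf (H := B) (N := E)
      (le_trans (fun x hx => mem_centralizer_iff.2 fun v hv => c.A_comm (hE hv).1 hx.1) (centralizer_le_normalizer _))
    rw [hEs, hBE, Subgroup.card_bot, mul_one, c.card_A] at h1
    exact h1.symm
  rw [c.card_A] at hfour
  have hB1 : 1 ≤ Nat.card ↥B := Nat.card_pos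
  have hE4 : 4 ≤ Nat.card ↥E := by
    rcases Nat.lt_or_ge (Nat.card ↥E) 4 with h | h
    · nlinarith
    · exact h
  -- the transitive group fixes `B`
  have hgB : ∀ g ∈ K, ∀ v ∈ B, g * v * g⁻¹ = v := fun g hg v hv => by
    rw [mem_centralizer_iff.1 hv.2 g hg, mul_inv_cancel_right]
  have hEA : E ≤ c.A := fun v hv => (hE hv).1
  -- no singular vector in `E`
  have hEns : ∀ x, c.al x ∈ E → sg x = false := by
    intro x hx
    by_contra hs
    have hs : sg x = true := by simpa using hs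
    have hxne : c.al x ≠ 1 := fun e => by rw [c.al_eq_one.1 e] at hs; exact absurd hs (by decide +kernel)
    obtain ⟨a, b, ha, hb, hab, haE, hbE⟩ := c.four_coords hEA hE4
    obtain ⟨y, hy0, hyx, hyE⟩ : ∃ y, y ≠ 0 ∧ y ≠ x ∧ c.al y ∈ E := by
      by_cases e : a = x
      · exact ⟨b, hb, fun e' => hab (e.trans e'.symm), hbE⟩
      · exact ⟨a, ha, e, haE⟩
    have hsg : ∀ y, y ≠ 0 → c.al y ∈ E → sg y = true := fun y hy0 hyE => by
      obtain ⟨g, -, -, -, hg⟩ := hEt _ hx _ hyE hxne (fun e => hy0 (c.al_eq_one.1 e))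
      rwa [← c.sg_conj hg]
    have hxy : c.al (xr x y) ∈ E := c.al_mul x y ▸ E.mul_mem hx hyE
    have h3 : xr x y ≠ 0 := fun e => by
      have := c.al_mul x y
      rw [e, c.al_zero, mul_eq_one_iff_eq_inv, inv_eq_of_mul_eq_one_right (c.A_sq (c.al_mem y))] at this
      exact hyx (c.al_inj this).symm
    have := sg_sum x y hs (hsg y hy0 hyE) (Ne.symm hyx)
    rw [hsg _ h3 hxy] at this
    exact Bool.noConfusion this
  by_cases hmove : ∀ n ∈ normalizer (c.A : Set (G ⧸ c.Z)), K.map (MulAut.conj n).toMonoidHom = K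
  · -- an invariant component
    have hBinv : ∀ n ∈ normalizer (c.A : Set (G ⧸ c.Z)), ∀ v ∈ B, n * v * n⁻¹ ∈ B := by
      intro n hn v hv
      refine ⟨(mem_normalizer_iff.1 hn v).1 hv.1, mem_centralizer_iff.2 fun k hk => ?_⟩
      rw [← hmove n hn] at hk
      obtain ⟨k, hk, rfl⟩ := hk
      show n * k * n⁻¹ * (n * v * n⁻¹) = n * v * n⁻¹ * (n * k * n⁻¹)
      calc n * k * n⁻¹ * (n * v * n⁻¹) = n * (k * v) * n⁻¹ := by group
        _ = n * (v * k) * n⁻¹ := by rw [mem_centralizer_iff.1 hv.2 k hk]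
        _ = _ := by group
    by_cases hBb : B = ⊥
    · rw [hBb, bot_sup_eq] at hEs
      have := hEns 1 (hEs.ge (c.al_mem 1))
      exact absurd this (by decide +kernel)
    · exact hKm' ((c.invariant_eq inf_le_left hBb hBinv).trans inf_le_right)
  -- a moved component
  push Not at hmove
  obtain ⟨n, hn, hne⟩ := hmove
  have hJ : Cfsg.IsComponent (K.map (MulAut.conj n).toMonoidHom) := Grp.IsComponent.map_iso (MulAut.conj n) hK
  set En := E.map (MulAut.conj n).toMonoidHom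
  have hEnB : En ≤ B := by
    rintro _ ⟨v, hv, rfl⟩
    exact ⟨(mem_normalizer_iff.1 hn v).1 (hEA hv),
      (Grp.IsComponent.commute hJ hK hne) ⟨v, (hE hv).2, rfl⟩⟩
  have hEncard : Nat.card ↥En = Nat.card ↥E := card_map_of_injective (MulAut.conj n).injective
  have hBn : En = B := Subgroup.eq_of_le_of_card_ge hEnB (by nlinarith)
  have hBns : ∀ x, c.al x ∈ B → sg x = false := by
    intro x hx
    rw [← hBn] at hx
    obtain ⟨v, hv, hve⟩ := hx
    obtain ⟨y, rfl⟩ := c.mem_A.1 (hEA hv)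
    rw [← c.sg_conj hve]
    exact hEns y hv
  obtain ⟨a, b, ha, hb, hab, haE, hbE⟩ := c.four_coords hEA hE4
  obtain ⟨p, q, hp, hq, hpq, hpB, hqB⟩ := c.four_coords (inf_le_left : B ≤ c.A) (show 4 ≤ Nat.card ↥B by rw [← hBn, hEncard]; exact hE4)
  have hne0 : ∀ {u v : Fin 16}, u ≠ v → xr u v ≠ 0 := by decide +kernel
  have habE : c.al (xr a b) ∈ E := c.al_mul a b ▸ E.mul_mem haE hbE
  have hpqB : c.al (xr p q) ∈ B := c.al_mul p q ▸ B.mul_mem hpB hqB
  have hdisj : ∀ {u}, u ≠ 0 → c.al u ∈ E → c.al u ∈ B → False := fun {u} hu h1 h2 =>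
    hu (c.al_eq_one.1 (by
      have : c.al u ∈ B ⊓ E := ⟨h2, h1⟩
      rwa [hBE, mem_bot] at this))
  have hS : ∀ f, c.al f ∈ B → ∀ e e', e ≠ 0 → e' ≠ 0 → c.al e ∈ E → c.al e' ∈ E → sg (xr e f) = sg (xr e' f) := by
    intro f hf e e' he he' heE he'E
    obtain ⟨g, hgK, -, -, hg⟩ := hEt _ heE _ he'E (fun h => he (c.al_eq_one.1 h)) (fun h => he' (c.al_eq_one.1 h))
    refine c.sg_conj (h := g) ?_
    rw [← c.al_mul, ← c.al_mul, ← hg, show g * (c.al e * c.al f) * g⁻¹ = g * c.al e * g⁻¹ * (g * c.al f * g⁻¹) by group,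
      hgB g hgK _ hf]
  have hF : ∀ f ∈ [p, q, xr p q], c.al f ∈ B ∧ f ≠ 0 := by
    intro f hf
    simp only [List.mem_cons, List.not_mem_nil, or_false] at hf
    rcases hf with rfl | rfl | rfl
    exacts [⟨hpB, hp⟩, ⟨hqB, hq⟩, ⟨hpqB, hne0 hpq⟩]
  have hno := no_split a b (hEns a haE) (hEns b hbE) (hEns _ habE) ha hb hab p q (hBns p hpB) (hBns q hqB)
    (hBns _ hpqB) hp hq hpq
    (List.all_eq_true.2 fun f hf => by
      obtain ⟨hfB, hf0⟩ := hF f hf
      simp only [Bool.and_eq_true, bne_iff_ne, ne_eq]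
      refine ⟨⟨fun e => hdisj ha haE (e ▸ hfB), fun e => hdisj hb hbE (e ▸ hfB)⟩,
        fun e => hdisj (hne0 hab) habE (e ▸ hfB)⟩)
    (List.all_eq_true.2 fun f hf => by
      obtain ⟨hfB, -⟩ := hF f hf
      simp only [Bool.and_eq_true, beq_iff_eq]
      exact ⟨hS f hfB a b ha hb haE hbE, hS f hfB b _ hb (hne0 hab) hbE habE⟩)
  -- but `al 1` is a product
  have hfullE : ∀ {E' : Subgroup (G ⧸ c.Z)} {u v : Fin 16}, E' ≤ c.A → Nat.card ↥E' = 4 → u ≠ 0 → v ≠ 0 → u ≠ v →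
      c.al u ∈ E' → c.al v ∈ E' → ∀ w, c.al w ∈ E' → w = 0 ∨ w ∈ [u, v, xr u v] := by
    intro E' u v _ h4 hu hv huv huE hvE w hw
    by_contra hcon
    simp only [List.mem_cons, List.not_mem_nil, or_false, not_or] at hcon
    obtain ⟨hw0, hwu, hwv, hwuv⟩ := hcon
    haveI : Fintype ↥E' := Fintype.ofFinite _
    rw [Nat.card_eq_fintype_card] at h4
    let f : Fin 5 → ↥E' := ![⟨_, c.al_zero ▸ one_mem E'⟩, ⟨_, huE⟩, ⟨_, hvE⟩,
      ⟨_, c.al_mul u v ▸ E'.mul_mem huE hvE⟩, ⟨_, hw⟩]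
    have hg : ∀ i, ((f i : ↥E') : G ⧸ c.Z) = c.al (![0, u, v, xr u v, w] i) := by
      intro i; fin_cases i <;> rfl
    have hinj : Function.Injective f := fun i j h => by
      have h' := c.al_inj ((hg i).symm.trans ((congrArg Subtype.val h).trans (hg j)))
      have huv0 := hne0 huv
      have h1 : xr u v ≠ u := by
        have : ∀ u v : Fin 16, v ≠ 0 → xr u v ≠ u := by decide +kernel
        exact this u v hv
      have h2 : xr u v ≠ v := by
        have : ∀ u v : Fin 16, u ≠ 0 → xr u v ≠ v := by decide +kernel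
        exact this u v hu
      fin_cases i <;> fin_cases j <;> simp at h' ⊢ <;>
        first
          | exact absurd h' hu | exact absurd h' hv | exact absurd h' huv | exact absurd h' huv0
          | exact absurd h' hw0 | exact absurd h' hwu | exact absurd h' hwv | exact absurd h' hwuv
          | exact absurd h' h1 | exact absurd h' h2 | exact absurd h'.symm hu | exact absurd h'.symm hv
          | exact absurd h'.symm huv | exact absurd h'.symm huv0 | exact absurd h'.symm hw0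
          | exact absurd h'.symm hwu | exact absurd h'.symm hwv | exact absurd h'.symm hwuv
          | exact absurd h'.symm h1 | exact absurd h'.symm h2
    have := Fintype.card_le_of_injective f hinj
    simp [h4] at this
  have hB4 : Nat.card ↥B = 4 := by rw [← hBn, hEncard] at hcard ⊢; nlinarith
  have hE4' : Nat.card ↥E = 4 := by rw [← hEncard, hBn, hB4]
  have hmem : c.al 1 ∈ ((B ⊔ E : Subgroup (G ⧸ c.Z)) : Set (G ⧸ c.Z)) := hEs.symm ▸ c.al_mem 1
  rw [coe_mul_of_left_le_normalizer_right B E (le_trans (fun x hx => mem_centralizer_iff.2 fun v hv =>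
    c.A_comm (hE hv).1 hx.1) (centralizer_le_normalizer _))] at hmem
  obtain ⟨vB, hvB, vE, hvE, hv⟩ := hmem
  obtain ⟨f, rfl⟩ := c.mem_A.1 hvB.1
  obtain ⟨e, rfl⟩ := c.mem_A.1 (hEA hvE)
  have hfe : xr f e = 1 := c.al_inj ((c.al_mul f e).symm.trans hv)
  rcases hfullE hEA hE4' ha hb hab haE hbE e hvE with he | he
  · have := hBns f hvB
    have hx : ∀ f : Fin 16, xr f 0 = 1 → sg f = true := by decide +kernel
    rw [hx f (he ▸ hfe)] at this
    exact Bool.noConfusion this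
  rcases hfullE inf_le_left hB4 hp hq hpq hpB hqB f hvB with hf | hf
  · have := hEns e hvE
    have hx : ∀ e : Fin 16, xr 0 e = 1 → sg e = true := by decide +kernel
    rw [hx e (hf ▸ hfe)] at this
    exact Bool.noConfusion this
  have h' := List.all_eq_true.1 (List.all_eq_true.1 hno e he) f hf
  have hc : ∀ e f : Fin 16, xr e f = xr f e := by decide +kernel
  rw [hc e f, hfe] at h'
  simp at h'

theorem comap_A : c.A.comap c.qm = c.Q := by
  rw [A, comap_map_eq, qm, QuotientGroup.ker_mk', sup_eq_left]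
  exact zpowers_le.2 (c.s.mem_sub.2 (by decide +kernel))

theorem Q_normal : c.Q.Normal := by
  rw [← c.comap_A]
  exact c.A_normal.comap _

theorem cent_A : centralizer (c.A : Set (G ⧸ c.Z)) ≤ c.A := by
  haveI := c.A_normal
  haveI : Fact (Nat.Prime 2) := ⟨Nat.prime_two⟩
  set C := centralizer (c.A : Set (G ⧸ c.Z))
  haveI : C.Normal := normal_centralizer
  have hAC : c.A ≤ C := fun a ha => mem_centralizer_iff.2 fun b hb => c.A_comm hb ha
  have hTC : (c.T : Subgroup (G ⧸ c.Z)) ⊓ C = c.A := by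
    refine le_antisymm (fun t ht => ?_) (le_inf c.A_le_T hAC)
    obtain ⟨n, rfl⟩ := c.mem_T.1 ht.1
    rw [c.ψ_mem_A]
    by_contra h
    obtain ⟨q, hq, h1, h2⟩ := cent_base n (by simpa [inQ] using h)
    have hqA : c.ψ q ∈ c.A := c.ψ_mem_A.2 (by simp [inQ, hq])
    have e := mem_centralizer_iff.1 ht.2 _ hqA
    rw [c.ψ_mul, c.ψ_mul, c.ψ_eq] at e
    have h3 : ∀ a b : Fin 128, b = mulM a 16 → a = mulM 16 b := by decide +kernel
    rcases e with e | e
    · exact h1 e.symm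
    · exact h2 (h3 _ _ e)
  haveI : (c.A.subgroupOf C).Normal := inferInstance
  have hodd : ¬ 2 ∣ (c.A.subgroupOf C).index := by
    have := Grp.not_dvd_relIndex_sylow c.T (‹C.Normal›.isSubnormal)
    rwa [← inf_relIndex_right, hTC] at this
  have hA2 : Nat.card ↥(c.A.subgroupOf C) = 2 ^ 4 := by
    rw [Nat.card_congr (subgroupOfEquivOfLe hAC).toEquiv, c.card_A]; norm_num
  obtain ⟨O, hO⟩ := exists_right_complement'_of_coprime (N := c.A.subgroupOf C) (by
    rw [hA2]; exact ((Nat.Prime.coprime_iff_not_dvd Nat.prime_two).2 hodd).pow_left 4)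
  have hOcard : ¬ 2 ∣ Nat.card ↥O := by rwa [← hO.symm.index_eq_card]
  have hmemO : ∀ w : ↥C, ¬ 2 ∣ orderOf w → w ∈ O := by
    intro w hw
    obtain ⟨⟨⟨a, ha⟩, o, ho⟩, rfl⟩ := hO.2 w
    have hca : Commute a o := Subtype.ext (mem_centralizer_iff.1 o.2 _ (mem_subgroupOf.1 ha))
    have ha2 : a * a = 1 := Subtype.ext (c.A_sq (mem_subgroupOf.1 ha))
    obtain ⟨i, hi⟩ := (Nat.odd_iff.2 (Nat.two_dvd_ne_zero.1 hw) : Odd (orderOf (a * o)))
    have h1 := pow_orderOf_eq_one (a * o)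
    rw [hi, hca.mul_pow, pow_succ a, pow_mul, pow_two, ha2, one_pow, one_mul] at h1
    have hmem : a ∈ O := by rw [eq_inv_of_mul_eq_one_left h1]; exact inv_mem (pow_mem ho _)
    show a * o ∈ O
    exact mul_mem hmem ho
  have hOn : (O.map C.subtype).Normal := ⟨by
    rintro _ ⟨o, ho, rfl⟩ g
    refine ⟨⟨g * o * g⁻¹, ‹C.Normal›.conj_mem o o.2 g⟩, hmemO _ fun h => hOcard (h.trans ?_), rfl⟩
    rw [← Subgroup.orderOf_coe]
    show orderOf (g * o * g⁻¹) ∣ _
    rw [show orderOf (g * (o : G ⧸ c.Z) * g⁻¹) = orderOf (o : G ⧸ c.Z) from (MulAut.conj g).orderOf_eq (o : G ⧸ c.Z),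
      Subgroup.orderOf_coe, ← orderOf_mk o ho]
    exact orderOf_dvd_natCard _⟩
  have hbot : O.map C.subtype = ⊥ := le_bot_iff.1 (c.localHyp.core ▸ le_sSup ⟨hOn, by
    rw [card_map_of_injective C.subtype_injective]
    exact ((Nat.Prime.coprime_iff_not_dvd Nat.prime_two).2 hOcard).symm⟩)
  intro x hx
  obtain ⟨⟨⟨a, ha⟩, o, ho⟩, he⟩ := hO.2 ⟨x, hx⟩
  have ho1 : (o : G ⧸ c.Z) = 1 := mem_bot.1 (hbot ▸ mem_map_of_mem C.subtype ho)
  have := congrArg Subtype.val he
  simp only [Subgroup.coe_mul, ho1, mul_one] at this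
  exact this ▸ mem_subgroupOf.1 ha

/-- The action on the five singular vectors, with kernel the extraspecial subgroup and image `A₅`. -/
theorem exists_hom : ∃ π : G →* Equiv.Perm (Fin 5), π.ker = c.Q ∧ π.range = alternatingGroup (Fin 5) ∧
    ∀ g i, c.qm g * c.al (sv i) * (c.qm g)⁻¹ = c.al (sv (π g i)) := by
  haveI := c.A_normal
  have hex : ∀ (g : G) i, ∃ j, c.qm g * c.al (sv i) * (c.qm g)⁻¹ = c.al (sv j) := fun g i => by
    obtain ⟨y, hy⟩ := c.mem_A.1 (c.A_normal.conj_mem _ (c.al_mem (sv i)) (c.qm g))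
    obtain ⟨j, rfl⟩ := sg_sv y (by rw [← c.sg_conj hy, sv_sg])
    exact ⟨j, hy⟩
  choose p hp using hex
  have hu : ∀ {i j}, c.al (sv i) = c.al (sv j) → i = j := fun h => sv_inj (c.al_inj h)
  have h1 : ∀ i, p 1 i = i := fun i => hu (by rw [← hp]; simp)
  have hm : ∀ g h i, p (g * h) i = p g (p h i) := fun g h i => hu (by rw [← hp, ← hp, ← hp, map_mul]; group)
  let π : G →* Equiv.Perm (Fin 5) :=
    { toFun := fun g => ⟨p g, p g⁻¹, fun i => by rw [← hm, inv_mul_cancel, h1], fun i => by rw [← hm, mul_inv_cancel, h1]⟩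
      map_one' := Equiv.ext h1
      map_mul' := fun g h => Equiv.ext (hm g h) }
  have hker : π.ker = c.Q := by
    ext g
    constructor
    · intro hg
      have hall : ∀ i, c.qm g * c.al (sv i) = c.al (sv i) * c.qm g := fun i => by
        have e := hp g i
        rw [show p g i = i from congrArg (fun f : Equiv.Perm (Fin 5) => f i) hg] at e
        exact mul_inv_eq_iff_eq_mul.1 e
      have hC : c.qm g ∈ centralizer (c.A : Set (G ⧸ c.Z)) := mem_centralizer_iff.2 fun a ha => by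
        obtain ⟨y, rfl⟩ := c.mem_A.1 ha
        have hspan : ∀ y : Fin 16, ∃ a b d e : Bool, y = xr (xr (if a then sv 0 else 0) (if b then sv 1 else 0))
            (xr (if d then sv 2 else 0) (if e then sv 3 else 0)) := by decide +kernel
        obtain ⟨a, b, d, e, rfl⟩ := hspan y
        have hite : ∀ (t : Bool) (i : Fin 5), Commute (c.al (if t then sv i else 0)) (c.qm g) := fun t i => by
          cases t
          · simp [c.al_zero]
          · exact (hall i).symm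
        rw [← c.al_mul, ← c.al_mul, ← c.al_mul]
        exact (((hite a 0).mul_left (hite b 1)).mul_left ((hite d 2).mul_left (hite e 3))).eq
      rw [← c.comap_A]
      exact c.cent_A hC
    · intro hg
      refine Equiv.ext fun i => hu ?_
      show c.al (sv (p g i)) = c.al (sv i)
      rw [← hp, c.A_comm (mem_map_of_mem c.qm hg) (c.al_mem _), mul_inv_cancel_right]
  have hπ : ∀ (n : Fin 128) (σ : Equiv.Perm (Fin 5)), (∀ i, conjM n (toM (sv i)) = toM (sv (σ i)) ∨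
      conjM n (toM (sv i)) = mulM (toM (sv (σ i))) 16) → π (c.s.φ n) = σ := fun n σ h => Equiv.ext fun i => hu (by
    show c.al (sv (p _ i)) = _
    rw [← hp]
    show c.qm _ * c.qm _ * (c.qm _)⁻¹ = _
    rw [← map_mul, ← map_inv, ← map_mul, c.s.conj]
    exact c.ψ_eq.2 (h i))
  have ht : π (c.s.φ 32) = Equiv.swap 0 1 * Equiv.swap 2 3 := hπ 32 _ (fun i => by
    have e : ∀ i : Fin 5, (Equiv.swap (0 : Fin 5) 1 * Equiv.swap 2 3 : Equiv.Perm (Fin 5)) i = ![1, 0, 3, 2, 4] i := by decide +kernel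
    rw [e]
    exact perm_32 i)
  have hu' : π (c.s.φ 64) = Equiv.swap 0 2 * Equiv.swap 1 3 := hπ 64 _ (fun i => by
    have e : ∀ i : Fin 5, (Equiv.swap (0 : Fin 5) 2 * Equiv.swap 1 3 : Equiv.Perm (Fin 5)) i = ![2, 3, 0, 1, 4] i := by decide +kernel
    rw [e]
    exact perm_64 i)
  -- transitivity
  haveI : Fact (Nat.Prime 5) := ⟨by norm_num⟩
  obtain ⟨k, hk⟩ := c.fused
  have hk0 : π k 0 = 4 := hu (by
    show c.al (sv (p k 0)) = _
    rw [← hp]
    show c.qm k * c.qm _ * (c.qm k)⁻¹ = c.qm _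
    rw [← map_mul, ← map_inv, ← map_mul]
    exact congrArg c.qm hk)
  have horb : ∀ i : Fin 5, ∃ σ ∈ π.range, σ 0 = i := by
    intro i
    fin_cases i
    · exact ⟨1, one_mem _, rfl⟩
    · exact ⟨_, ⟨_, ht⟩, rfl⟩
    · exact ⟨_, ⟨_, hu'⟩, rfl⟩
    · exact ⟨_, mul_mem ⟨_, ht⟩ ⟨_, hu'⟩, rfl⟩
    · exact ⟨_, ⟨k, rfl⟩, hk0⟩
  have h5 : 5 ∣ Nat.card ↥π.range := by
    have hor : MulAction.orbit ↥π.range (0 : Fin 5) = Set.univ := Set.eq_univ_of_forall fun i => by
      obtain ⟨σ, hσ, e⟩ := horb i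
      exact ⟨⟨σ, hσ⟩, e⟩
    have h := MulAction.index_stabilizer (G := ↥π.range) (0 : Fin 5)
    rw [hor, Set.ncard_univ, Nat.card_eq_fintype_card, Fintype.card_fin] at h
    have hd := (MulAction.stabilizer ↥π.range (0 : Fin 5)).index_dvd_card
    rwa [h] at hd
  obtain ⟨⟨σ, hσ⟩, hσ5⟩ := exists_prime_orderOf_dvd_card' (G := ↥π.range) 5 h5
  rw [Subgroup.orderOf_mk] at hσ5
  obtain ⟨i, τ, h3, h31⟩ := five_three σ (orderOf_dvd_iff_pow_eq_one.1 hσ5.dvd) (fun e => by rw [e, orderOf_one] at hσ5; norm_num at hσ5)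
  have h3d : 3 ∣ Nat.card ↥π.range := by
    set t : Equiv.Perm (Fin 5) := if τ then Equiv.swap 0 1 * Equiv.swap 2 3 else Equiv.swap 0 2 * Equiv.swap 1 3 with htdef
    have htr : t ∈ π.range := by
      cases τ
      exacts [⟨_, hu'⟩, ⟨_, ht⟩]
    have ho : orderOf (⟨σ ^ (i : ℕ) * t, mul_mem (pow_mem hσ (i : ℕ)) htr⟩ : ↥π.range) = 3 := by
      haveI : Fact (Nat.Prime 3) := ⟨Nat.prime_three⟩
      rw [Subgroup.orderOf_mk]
      exact orderOf_eq_prime h3 h31
    exact ho ▸ orderOf_dvd_natCard _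
  -- the order
  have hcard : Nat.card ↥π.range * 32 = 128 * (c.S : Subgroup G).index := by
    have h := π.ker.card_mul_index
    rw [index_ker, hker, show Nat.card ↥c.Q = 32 by rw [Q, c.s.card_sub]; decide +kernel,
      ← (c.S : Subgroup G).card_mul_index, c.s.card] at h
    rw [← h, mul_comm]
  have h120 : Nat.card ↥π.range ∣ 120 := by
    have := π.range.card_subgroup_dvd_card
    rwa [Nat.card_perm, Nat.card_fin] at this
  have h60 : Nat.card ↥π.range = 60 := by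
    have hodd : ¬ 2 ∣ (c.S : Subgroup G).index := by
      haveI : Fact (Nat.Prime 2) := ⟨Nat.prime_two⟩
      exact c.S.not_dvd_index
    have hle := Nat.le_of_dvd (by norm_num) h120
    obtain ⟨d, hd⟩ := (Nat.Coprime.mul_dvd_of_dvd_of_dvd (by norm_num) h3d h5 : 3 * 5 ∣ _)
    have hd8 : d ≤ 8 := by omega
    interval_cases d <;> omega
  refine ⟨π, hker, Equiv.Perm.eq_alternatingGroup_of_index_eq_two ?_, fun g i => hp g i⟩
  have := π.range.card_mul_index
  rw [h60, Nat.card_perm, Nat.card_fin] at this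
  simp [Nat.factorial] at this
  omega

end Ctx

end Cfsg.Agent.Spor.JTwoType
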