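import Cfsg.Agent.Lib.Spor.JTwoType.Shape
import Cfsg.Agent.S0111

/-!
# Fusion of involutions in groups with a Sylow 2-subgroup of Hall-Janko shape
-/

set_option autoImplicit false
set_option linter.unusedSectionVars false
set_option linter.style.haveILetI false

namespace Cfsg.Agent.Spor.JTwoType

open Subgroup

variable {G : Type*} [Group G] [Finite G]

/-- The image of a subgroup under conjugation. -/
abbrev cI (g : G) (B : Subgroup G) : Subgroup G := B.map (MulAut.conj g).toMonoidHom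

theorem mem_cI {g : G} {B : Subgroup G} {x : G} (hx : x ∈ B) : g * x * g⁻¹ ∈ cI g B := ⟨x, hx, rfl⟩

theorem card_cI (g : G) (B : Subgroup G) : Nat.card ↥(cI g B) = Nat.card ↥B :=
  card_map_of_injective (MulAut.conj g).injective

/-- Two 2-subgroups can be aligned inside any subgroup. -/
theorem align (K B D : Subgroup G) (hB : IsPGroup 2 ↥B) (hBK : B ≤ K) (hD : IsPGroup 2 ↥D) (hDK : D ≤ K) :
    ∃ k ∈ K, ∃ P : Subgroup G, IsPGroup 2 ↥P ∧ P ≤ K ∧ D ≤ P ∧ cI k B ≤ P := by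
  haveI : Fact (Nat.Prime 2) := ⟨Nat.prime_two⟩
  obtain ⟨PB, hPB⟩ := (hB.comap_of_injective K.subtype K.subtype_injective).exists_le_sylow
  obtain ⟨PD, hPD⟩ := (hD.comap_of_injective K.subtype K.subtype_injective).exists_le_sylow
  obtain ⟨k, hk⟩ := MulAction.exists_smul_eq ↥K PB PD
  refine ⟨k, k.2, (PD : Subgroup ↥K).map K.subtype, PD.isPGroup'.map _, map_subtype_le _, fun d hd => ?_, ?_⟩
  · exact ⟨⟨d, hDK hd⟩, hPD (show (⟨d, hDK hd⟩ : ↥K) ∈ D.comap K.subtype from hd), rfl⟩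
  · rintro _ ⟨b, hb, rfl⟩
    refine ⟨k * ⟨b, hBK hb⟩ * k⁻¹, ?_, rfl⟩
    rw [← hk, Sylow.coe_subgroup_smul]
    exact smul_mem_pointwise_smul (⟨b, hBK hb⟩ : ↥K) (MulAut.conj k) (PB : Subgroup ↥K)
      (hPB (show (⟨b, hBK hb⟩ : ↥K) ∈ B.comap K.subtype from hb))

/-- A 2-subgroup is conjugate into a given Sylow subgroup. -/
theorem conj_into (S : Sylow 2 G) {P : Subgroup G} (hP : IsPGroup 2 ↥P) :
    ∃ g : G, cI g P ≤ (S : Subgroup G) := by
  obtain ⟨k, -, P', hP', -, hS, hk⟩ := align ⊤ P (S : Subgroup G) hP le_top S.isPGroup' le_top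
  exact ⟨k, (S.3 hP' hS) ▸ hk⟩

namespace Shape

variable {S : Sylow 2 G} (s : Shape (S : Subgroup G))

/-- The centralizer in the Sylow subgroup. -/
def centS (w : Fin 128) : Subgroup G :=
  s.sub (commM w) (by rw [← s.commute, s.one, one_mul, mul_one]) fun n m h1 h2 => by
    rw [← s.commute] at h1 h2 ⊢
    rw [← s.mul]
    calc s.φ w * (s.φ n * s.φ m) = s.φ w * s.φ n * s.φ m := (mul_assoc _ _ _).symm
      _ = s.φ n * (s.φ w * s.φ m) := by rw [h1, mul_assoc]
      _ = _ := by rw [h2, mul_assoc]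

theorem card_centS (w : Fin 128) :
    Nat.card ↥(s.centS w) = (Finset.univ.filter fun n => commM w n = true).card := s.card_sub

theorem le_centS {B : Subgroup G} (hB : B ≤ (S : Subgroup G)) {w : Fin 128}
    (h : ∀ b ∈ B, s.φ w * b = b * s.φ w) : B ≤ s.centS w := by
  intro b hb
  obtain ⟨n, rfl⟩ := s.surj b (hB hb)
  exact s.mem_sub.2 (s.commute.1 (h _ hb))

theorem centS_le_cent (w : Fin 128) : s.centS w ≤ centralizer ({s.φ w} : Set G) := by
  rintro _ ⟨n, hn, rfl⟩
  exact mem_centralizer_singleton_iff.2 (s.commute.2 hn).symm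

theorem centS_pgroup (w : Fin 128) : IsPGroup 2 ↥(s.centS w) := S.isPGroup'.to_le s.sub_le

theorem card_centS_small {w : Fin 128} (h1 : isInv w = true) (h2 : inFour w = false) :
    Nat.card ↥(s.centS w) = 16 := by rw [s.card_centS]; exact invol_card_cent w h1 h2

/-- The subgroup of index two. -/
def subE : Subgroup G :=
  s.sub inE (by decide +kernel) fun n m h1 h2 => by
    rw [(inE_iff _).1, ← s.commute, ← s.mul]
    rw [(inE_iff _).1, ← s.commute] at h1 h2
    calc s.φ n * s.φ m * s.φ 15 = s.φ n * (s.φ m * s.φ 15) := mul_assoc _ _ _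
      _ = s.φ n * s.φ 15 * s.φ m := by rw [h2, ← mul_assoc]
      _ = _ := by rw [h1, mul_assoc]

/-- The elementary abelian subgroup of order sixteen. -/
def subA : Subgroup G :=
  s.sub inA1 (by decide +kernel) fun n m h1 h2 => ((A1_facts n h1).2 m h2).2

theorem centS_eq_subE {w : Fin 128} (hw : w = 15 ∨ w = 31) : s.centS w = s.subE := by
  ext x
  constructor
  · rintro ⟨n, hn, rfl⟩
    refine s.mem_sub.2 ?_
    have h := s.commute.1 (s.commute.2 hn).symm
    rcases hw with rfl | rfl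
    · rw [(inE_iff n).1]; exact h
    · rw [(inE_iff n).2]; exact h
  · rintro ⟨n, hn, rfl⟩
    refine s.mem_sub.2 (s.commute.1 (s.commute.2 ?_).symm)
    rcases hw with rfl | rfl
    · rw [← (inE_iff n).1]; exact hn
    · rw [← (inE_iff n).2]; exact hn

theorem isInv_of_conj {g : G} {n m : Fin 128} (hn : isInv n = true) (h : g * s.φ n * g⁻¹ = s.φ m) :
    isInv m = true := by
  rw [← s.orderOf_two] at hn ⊢
  rw [← h, show g * s.φ n * g⁻¹ = MulAut.conj g (s.φ n) from rfl, (MulAut.conj g).orderOf_eq, hn]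

theorem isInv_four {n : Fin 128} (h : isInv n = true) (h4 : inFour n = true) : n = 16 ∨ n = 15 ∨ n = 31 := by
  revert n; decide +kernel

/-- A subgroup centralising an involution with a big centraliser in the Sylow subgroup. -/
theorem inFour_of_card {B : Subgroup G} (hB : B ≤ (S : Subgroup G)) {w : Fin 128} (hw : isInv w = true)
    (h : ∀ b ∈ B, s.φ w * b = b * s.φ w) (hc : 16 < Nat.card ↥B) : inFour w = true := by
  by_contra hne
  have := Subgroup.card_le_of_le (s.le_centS hB h)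
  rw [s.card_centS_small hw (by simpa using hne)] at this
  omega

theorem cI_centralizes {g x : G} {B : Subgroup G} (hB : ∀ b ∈ B, x * b = b * x) :
    ∀ b ∈ cI g B, g * x * g⁻¹ * b = b * (g * x * g⁻¹) := by
  rintro _ ⟨b, hb, rfl⟩
  show g * x * g⁻¹ * (g * b * g⁻¹) = g * b * g⁻¹ * (g * x * g⁻¹)
  calc _ = g * (x * b) * g⁻¹ := by group
    _ = g * (b * x) * g⁻¹ := by rw [hB b hb]
    _ = _ := by group

theorem centS_comm (w : Fin 128) : ∀ b ∈ s.centS w, s.φ w * b = b * s.φ w := by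
  rintro _ ⟨n, hn, rfl⟩
  exact s.commute.2 hn

theorem fix31 {k : G} (hkz : k * s.φ 16 * k⁻¹ = s.φ 16) {m : Fin 128} (hm : m = 15 ∨ m = 31)
    (hk : k * s.φ 1 * k⁻¹ = s.φ m) : ∃ k : G, k * s.φ 16 * k⁻¹ = s.φ 16 ∧ k * s.φ 1 * k⁻¹ = s.φ 15 := by
  rcases hm with rfl | rfl
  · exact ⟨k, hkz, hk⟩
  · refine ⟨s.φ 1 * k, ?_, ?_⟩
    · rw [show s.φ 1 * k * s.φ 16 * (s.φ 1 * k)⁻¹ = s.φ 1 * (k * s.φ 16 * k⁻¹) * (s.φ 1)⁻¹ by group, hkz,
        s.comm_16, mul_inv_cancel_right]
    · rw [show s.φ 1 * k * s.φ 1 * (s.φ 1 * k)⁻¹ = s.φ 1 * (k * s.φ 1 * k⁻¹) * (s.φ 1)⁻¹ by group, hk, s.conj,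
        cent_one.2.2.2.2.2.2.1]

/-- A conjugate of `z` among `c`, `cz` gives an element moving it to `z` and `z` to one of them. -/
theorem exists_swap {u : Fin 128} (hu : u = 15 ∨ u = 31) {g : G} (hg : g * s.φ 16 * g⁻¹ = s.φ u) :
    ∃ k : G, k * s.φ u * k⁻¹ = s.φ 16 ∧ ∃ v, (v = 15 ∨ v = 31) ∧ k * s.φ 16 * k⁻¹ = s.φ v := by
  set C := centralizer ({s.φ 16} : Set G)
  have hSC : (S : Subgroup G) ≤ C := fun x hx => by
    obtain ⟨n, rfl⟩ := s.surj x hx
    exact mem_centralizer_singleton_iff.2 (s.comm_16 n)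
  have hE : Nat.card ↥(s.centS u) = 64 := by
    rw [s.centS_eq_subE hu, subE, s.card_sub, card_inE]
  have hg' : g⁻¹ * s.φ u * g = s.φ 16 := by rw [← hg]; group
  have hBC : cI g⁻¹ (s.centS u) ≤ C := by
    intro b hb
    refine mem_centralizer_singleton_iff.2 ?_
    have := cI_centralizes (g := g⁻¹) (s.centS_comm u) b hb
    rw [inv_inv, hg'] at this
    exact this.symm
  obtain ⟨h, hh, P, hP, -, hSP, hBP⟩ := align C (cI g⁻¹ (s.centS u)) (S : Subgroup G) ((s.centS_pgroup u).map _) hBC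
    S.isPGroup' hSC
  rw [S.3 hP hSP] at hBP
  have hk1 : h * g⁻¹ * s.φ u * (h * g⁻¹)⁻¹ = s.φ 16 := by
    rw [show h * g⁻¹ * s.φ u * (h * g⁻¹)⁻¹ = h * (g⁻¹ * s.φ u * g) * h⁻¹ by group, hg',
      mem_centralizer_singleton_iff.1 hh, mul_inv_cancel_right]
  set k := h * g⁻¹ with hk
  have hle : cI k (s.centS u) ≤ (S : Subgroup G) := by
    rintro _ ⟨b, hb, rfl⟩
    have h1 := hBP (mem_cI (g := h) (mem_cI (g := g⁻¹) hb))
    simpa [hk, mul_assoc] using h1
  have h16 : s.φ 16 ∈ s.centS u := s.mem_sub.2 (commM_16 u).1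
  obtain ⟨v, hv⟩ := s.surj _ (hle (mem_cI h16))
  have hvi := s.isInv_of_conj cent_one.2.2.2.2.2.2.2.1 hv.symm
  have hcm : ∀ b ∈ s.centS u, s.φ 16 * b = b * s.φ 16 := by
    rintro _ ⟨n, -, rfl⟩; exact (s.comm_16 n).symm
  have h4 : inFour v = true := s.inFour_of_card hle hvi (by rw [hv]; exact cI_centralizes hcm)
    (by rw [card_cI, hE]; norm_num)
  refine ⟨k, hk1, v, ?_, hv.symm⟩
  rcases isInv_four hvi h4 with rfl | h' | h'
  · exfalso
    have he := hk1.trans hv
    have : s.φ u = s.φ 16 := mul_left_cancel (mul_right_cancel he)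
    rcases hu with rfl | rfl <;> exact absurd (s.inj this) (by decide)
  · exact Or.inl h'
  · exact Or.inr h'

/-- Without a normal subgroup of index two some element centralising `z` moves `a0` to `c`. -/
theorem exists_fusion (h2 : ∀ H : Subgroup G, H.Normal → H.index ≠ 2) :
    ∃ k : G, k * s.φ 16 * k⁻¹ = s.φ 16 ∧ k * s.φ 1 * k⁻¹ = s.φ 15 := by
  obtain ⟨h1c, h6, h1i, h1E, h1f, -, -, h16i, -, -⟩ := cent_one
  have hidx : s.subE.relIndex (S : Subgroup G) = 2 := by
    have h := (s.subE.subgroupOf (S : Subgroup G)).card_mul_index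
    rw [Nat.card_congr (subgroupOfEquivOfLe (show s.subE ≤ (S : Subgroup G) from s.sub_le)).toEquiv, subE,
      s.card_sub, card_inE, s.card] at h
    unfold Subgroup.relIndex
    rw [subE]; omega
  rcases S0111.result S s.subE s.sub_le hidx (s.φ 1) (s.orderOf_two.2 h1i) (s.mem 1)
    (fun h => by rw [s.mem_sub.1 h] at h1E; exact Bool.noConfusion h1E) with ⟨M, hM, hMi, -⟩ | ⟨g, hg⟩
  · exact absurd hMi (h2 M hM)
  obtain ⟨y, hyE, hy⟩ := hg
  by_cases hz : ∃ g : G, g * s.φ 1 * g⁻¹ = s.φ 16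
  · -- a conjugate of `a0` is `z`
    obtain ⟨g, hg⟩ := hz
    set C := centralizer ({s.φ 16} : Set G)
    have hSC : (S : Subgroup G) ≤ C := fun x hx => by
      obtain ⟨n, rfl⟩ := s.surj x hx
      exact mem_centralizer_singleton_iff.2 (s.comm_16 n)
    have hBC : cI g (s.centS 1) ≤ C := fun b hb => mem_centralizer_singleton_iff.2 (by
      have := cI_centralizes (g := g) (s.centS_comm 1) b hb
      rw [hg] at this
      exact this.symm)
    obtain ⟨h, hh, P, hP, -, hSP, hBP⟩ := align C (cI g (s.centS 1)) (S : Subgroup G) ((s.centS_pgroup 1).map _) hBC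
      S.isPGroup' hSC
    rw [S.3 hP hSP] at hBP
    have hg1 : h * g * s.φ 1 * (h * g)⁻¹ = s.φ 16 := by
      rw [show h * g * s.φ 1 * (h * g)⁻¹ = h * (g * s.φ 1 * g⁻¹) * h⁻¹ by group, hg,
        mem_centralizer_singleton_iff.1 hh, mul_inv_cancel_right]
    set g' := h * g with hg'
    have h6S : g' * s.φ 6 * g'⁻¹ ∈ (S : Subgroup G) := by
      have := hBP (mem_cI (g := h) (mem_cI (g := g) (s.mem_sub.2 h1c : s.φ 6 ∈ s.centS 1)))
      simpa [hg', mul_assoc] using this
    obtain ⟨q, hq⟩ := s.surj _ h6S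
    have hu : g' * s.φ 16 * g'⁻¹ = s.φ (mulM q q) := by
      rw [← s.mul, hq, ← h6, ← s.mul]; group
    have hui := s.isInv_of_conj h16i hu
    have hu4 := sq_invol q (by have := hui; rw [isInv, Bool.and_eq_true, beq_iff_eq] at this; exact this.2)
    have hu' : mulM q q = 15 ∨ mulM q q = 31 := by
      refine (isInv_four hui hu4).resolve_left fun e => ?_
      rw [e] at hu
      exact absurd (s.inj (mul_left_cancel (mul_right_cancel (hu.trans hg1.symm)))) (by decide)
    obtain ⟨k, hk, v, hv, hkv⟩ := s.exists_swap hu' hu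
    refine s.fix31 (k := k * g') (m := v) ?_ hv ?_
    · rw [show k * g' * s.φ 16 * (k * g')⁻¹ = k * (g' * s.φ 16 * g'⁻¹) * k⁻¹ by group, hu, hk]
    · rw [show k * g' * s.φ 1 * (k * g')⁻¹ = k * (g' * s.φ 1 * g'⁻¹) * k⁻¹ by group, hg1, hkv]
  push Not at hz
  by_cases hc : ∃ (g : G) (m : Fin 128), (m = 15 ∨ m = 31) ∧ g * s.φ 1 * g⁻¹ = s.φ m
  · -- a conjugate of `a0` is `c` or `cz`
    obtain ⟨g, m, hm, hg⟩ := hc
    have hD : Nat.card ↥(s.centS m) = 64 := by rw [s.centS_eq_subE hm, subE, s.card_sub, card_inE]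
    obtain ⟨h, hh, P, hP, hPC, hDP, hBP⟩ := align (centralizer ({s.φ m} : Set G)) (cI g (s.centS 1)) (s.centS m)
      ((s.centS_pgroup 1).map _) (fun b hb => mem_centralizer_singleton_iff.2 (by
        have := cI_centralizes (g := g) (s.centS_comm 1) b hb
        rw [hg] at this
        exact this.symm)) (s.centS_pgroup m) (s.centS_le_cent m)
    obtain ⟨g', hg'⟩ := conj_into S hP
    have hmS : s.φ m ∈ P := hDP (s.mem_sub.2 (s.commute.1 rfl))
    obtain ⟨m', hm'⟩ := s.surj _ (hg' (mem_cI hmS))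
    have hcent : ∀ b ∈ cI g' P, s.φ m' * b = b * s.φ m' := by
      rw [hm']
      exact cI_centralizes fun b hb => (mem_centralizer_singleton_iff.1 (hPC hb)).symm
    have hP64 := Subgroup.card_le_of_le hDP
    have hm'i : isInv m' = true := by
      refine s.isInv_of_conj h1i (g := g' * g) ?_
      rw [hm', ← hg]; group
    have hm'4 := s.inFour_of_card hg' hm'i hcent (by rw [card_cI]; omega)
    have hm'' : m' = 15 ∨ m' = 31 := (isInv_four hm'i hm'4).resolve_left fun e => hz (g' * g) (by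
      rw [show g' * g * s.φ 1 * (g' * g)⁻¹ = g' * (g * s.φ 1 * g⁻¹) * g'⁻¹ by group, hg, ← hm', e])
    have hle := Subgroup.card_le_of_le (s.le_centS hg' hcent)
    rw [card_cI, s.centS_eq_subE hm'', subE, s.card_sub, card_inE] at hle
    have hPD : s.centS m = P := Subgroup.eq_of_le_of_card_ge hDP (by omega)
    rw [← hPD] at hBP
    have hg1 : h * g * s.φ 1 * (h * g)⁻¹ = s.φ m := by
      rw [show h * g * s.φ 1 * (h * g)⁻¹ = h * (g * s.φ 1 * g⁻¹) * h⁻¹ by group, hg,
        mem_centralizer_singleton_iff.1 hh, mul_inv_cancel_right]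
    set g1 := h * g with hg1'
    have h6S : g1 * s.φ 6 * g1⁻¹ ∈ (S : Subgroup G) := by
      have := s.sub_le (hBP (mem_cI (g := h) (mem_cI (g := g) (s.mem_sub.2 h1c : s.φ 6 ∈ s.centS 1))))
      simpa [hg1', mul_assoc] using this
    obtain ⟨q, hq⟩ := s.surj _ h6S
    have hu : g1 * s.φ 16 * g1⁻¹ = s.φ (mulM q q) := by
      rw [← s.mul, hq, ← h6, ← s.mul]; group
    have hui := s.isInv_of_conj h16i hu
    have hu4 := sq_invol q (by have := hui; rw [isInv, Bool.and_eq_true, beq_iff_eq] at this; exact this.2)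
    rcases isInv_four hui hu4 with e | e
    · exact s.fix31 (k := g1) (by rw [hu, e]) hm hg1
    exfalso
    have hne : mulM q q ≠ m := fun e' => by
      rw [e', ← hg1] at hu
      exact absurd (s.inj (mul_left_cancel (mul_right_cancel hu))) (by decide)
    have hsw : conjM 1 (mulM q q) = m := by
      rcases e with e | e <;> rcases hm with rfl | rfl <;> rw [e] at hne ⊢ <;>
        first | exact absurd rfl hne | exact cent_one.2.2.2.2.2.1 | exact cent_one.2.2.2.2.2.2.1
    refine hz (g1⁻¹ * (s.φ 1)⁻¹ * g1) ?_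
    calc g1⁻¹ * (s.φ 1)⁻¹ * g1 * s.φ 1 * (g1⁻¹ * (s.φ 1)⁻¹ * g1)⁻¹
        = g1⁻¹ * (s.φ 1)⁻¹ * (g1 * s.φ 1 * g1⁻¹) * s.φ 1 * g1 := by group
      _ = g1⁻¹ * ((s.φ 1)⁻¹ * (s.φ 1 * s.φ (mulM q q) * (s.φ 1)⁻¹) * s.φ 1) * g1 := by
        rw [hg1, s.conj, hsw]; group
      _ = g1⁻¹ * s.φ (mulM q q) * g1 := by group
      _ = s.φ 16 := by rw [← hu]; group
  -- otherwise everything is fully centralised
  push Not at hc
  exfalso
  have hX : ∀ (g : G) (m : Fin 128), g * s.φ 1 * g⁻¹ = s.φ m → isInv m = true ∧ inFour m = false := by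
    intro g m hgm
    have hmi := s.isInv_of_conj h1i hgm
    refine ⟨hmi, by_contra fun h => ?_⟩
    rcases isInv_four hmi (by simpa using h) with rfl | e
    · exact hz g hgm
    · exact hc g m e hgm
  obtain ⟨hyi, hyf⟩ := hX g y hy.symm
  have hyh := (invol_E y hyi hyE).resolve_left (by simp [hyf])
  have hyg : g⁻¹ * s.φ y * g = s.φ 1 := by rw [hy]; group
  obtain ⟨h, hh, P, hP, hPC, hDP, hBP⟩ := align (centralizer ({s.φ 1} : Set G)) (cI g⁻¹ (s.centS y)) (s.centS 1)
    ((s.centS_pgroup y).map _) (fun b hb => mem_centralizer_singleton_iff.2 (by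
      have := cI_centralizes (g := g⁻¹) (s.centS_comm y) b hb
      rw [inv_inv, hyg] at this
      exact this.symm)) (s.centS_pgroup 1) (s.centS_le_cent 1)
  obtain ⟨g', hg'⟩ := conj_into S hP
  have h1P : s.φ 1 ∈ P := hDP (s.mem_sub.2 (s.commute.1 rfl))
  obtain ⟨m', hm'⟩ := s.surj _ (hg' (mem_cI h1P))
  obtain ⟨hm'i, hm'f⟩ := hX g' m' hm'.symm
  have hcent : ∀ b ∈ cI g' P, s.φ m' * b = b * s.φ m' := by
    rw [hm']
    exact cI_centralizes fun b hb => (mem_centralizer_singleton_iff.1 (hPC hb)).symm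
  have hle := Subgroup.card_le_of_le (s.le_centS hg' hcent)
  rw [card_cI, s.card_centS_small hm'i hm'f] at hle
  have h16 := s.card_centS_small h1i h1f
  have hPD : s.centS 1 = P := Subgroup.eq_of_le_of_card_ge hDP (by omega)
  rw [← hPD] at hBP
  have heq : cI h (cI g⁻¹ (s.centS y)) = s.centS 1 := Subgroup.eq_of_le_of_card_ge hBP (by
    rw [card_cI, card_cI, h16, s.card_centS_small hyi hyf])
  have hall : ∀ x ∈ s.centS y, x * x = 1 := by
    rintro _ ⟨n, hn, rfl⟩
    rw [s.sq]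
    obtain ⟨-, -, hcase⟩ := invol_outer y hyi hyh
    by_cases hA : inA1 y = true
    · rw [if_pos hA] at hcase
      exact (A1_facts n (by rw [← hcase n]; exact hn)).1
    · rw [if_neg hA] at hcase
      have hfact : ∀ y n : Fin 128, isInv y = true → inA1 (conjM 1 y) = true → inFour y = false →
          commM y n = true → mulM n n = 0 := by decide +kernel
      exact hfact y n hyi (by simpa using hcase) hyf hn
  have h6m : s.φ 6 ∈ s.centS 1 := s.mem_sub.2 h1c
  rw [← heq] at h6m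
  obtain ⟨_, ⟨x, hx, rfl⟩, hx6⟩ := h6m
  have e6 : s.φ 6 * s.φ 6 = 1 := by
    rw [← hx6, ← map_mul, ← map_mul, hall x hx, map_one, map_one]
  rw [s.sq, h6] at e6
  exact absurd e6 (by decide)

end Shape

end Cfsg.Agent.Spor.JTwoType
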