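import Cfsg.Agent.Lib.Spor.JTwoType.SigFacts

/-!
# Automorphisms of odd order of the alternating group of degree five fixing a four group
-/

set_option autoImplicit false
set_option maxRecDepth 100000
set_option maxHeartbeats 4000000
set_option synthInstance.maxSize 4000

namespace Cfsg.Agent.Spor.JTwoType

theorem alt_normalise : ∀ a b : Alt5, a * a = 1 → a ≠ 1 → b * b = 1 → b ≠ 1 → a * b = b * a → a ≠ b →
    ∃ σ : Equiv.Perm (Fin 5), σ * (a : Equiv.Perm (Fin 5)) * σ⁻¹ = fourA 1 ∧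
      σ * (b : Equiv.Perm (Fin 5)) * σ⁻¹ = fourA 2 := by
  decide +kernel

/-- A fixed element of order three in the point stabiliser. -/
def betaA : Equiv.Perm (Fin 5) := Equiv.swap 0 1 * Equiv.swap 1 2

theorem betaA_facts : betaA ^ 3 = 1 ∧ betaA ≠ 1 ∧ Equiv.Perm.sign betaA = 1 ∧
    (∀ i, Equiv.Perm.sign (fourA i) = 1) := by
  decide +kernel

theorem alt_coset : ∀ y : Alt5, (y : Equiv.Perm (Fin 5)) ^ 3 = 1 →
    (y : Equiv.Perm (Fin 5)) * fourA 1 * (y : Equiv.Perm (Fin 5))⁻¹ = betaA * fourA 1 * betaA⁻¹ →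
    (y : Equiv.Perm (Fin 5)) * fourA 2 * (y : Equiv.Perm (Fin 5))⁻¹ = betaA * fourA 2 * betaA⁻¹ →
    ∃ i, (y : Equiv.Perm (Fin 5)) = fourA i * betaA := by
  decide +kernel

theorem alt_conj_four : ∃ j k : Fin 4, betaA * fourA 1 * betaA⁻¹ = fourA j ∧
    betaA * fourA 2 * betaA⁻¹ = fourA k := by
  decide +kernel

theorem alt_signature : ∀ s t : Alt5, s * s = 1 → t * t = 1 →
    (∀ (i : Fin 4) (k : Fin 3),
      (((s : Equiv.Perm (Fin 5)) * (fourA i * betaA ^ (k : ℕ))) ^ 2 = 1 ↔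
        ((t : Equiv.Perm (Fin 5)) * (fourA i * betaA ^ (k : ℕ))) ^ 2 = 1) ∧
      (((s : Equiv.Perm (Fin 5)) * (fourA i * betaA ^ (k : ℕ))) ^ 3 = 1 ↔
        ((t : Equiv.Perm (Fin 5)) * (fourA i * betaA ^ (k : ℕ))) ^ 3 = 1)) → s = t := by
  decide +kernel

theorem alt_invol_gen : ∀ g : Alt5, ∃ s : Alt5, s * s = 1 ∧ s * g * (s * g) = 1 := by decide +kernel

theorem alt_four_sq : ∀ i j : Fin 4, fourA i * fourA j = fourA j * fourA i ∧ (fourA i * betaA = betaA → i = 0) := by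
  decide +kernel

/-- The four group as even permutations. -/
def fA (i : Fin 4) : Alt5 := ⟨fourA i, Equiv.Perm.mem_alternatingGroup.2 (betaA_facts.2.2.2 i)⟩

/-- The element of order three as an even permutation. -/
def bA : Alt5 := ⟨betaA, Equiv.Perm.mem_alternatingGroup.2 betaA_facts.2.2.1⟩

theorem fA_facts : fA 0 = 1 ∧ fA 1 * fA 2 = fA 3 ∧ (∀ i, fA i * fA i = 1) := by decide +kernel

theorem fixed_std (ψ : Alt5 ≃* Alt5) {n : ℕ} (hn : Odd n) (hψ : ∀ x, ψ^[n] x = x) (h1 : ψ (fA 1) = fA 1)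
    (h2 : ψ (fA 2) = fA 2) : ∀ x, ψ x = x := by
  have hf : ∀ i, ψ (fA i) = fA i := by
    intro i
    fin_cases i
    · show ψ (fA 0) = fA 0
      rw [fA_facts.1, map_one]
    · exact h1
    · exact h2
    · show ψ (fA 3) = fA 3
      rw [← fA_facts.2.1, map_mul, h1, h2]
  obtain ⟨j, k, hj, hk⟩ := alt_conj_four
  have hj' : bA * fA 1 * bA⁻¹ = fA j := Subtype.ext hj
  have hk' : bA * fA 2 * bA⁻¹ = fA k := Subtype.ext hk
  have e1 : ψ bA * fA 1 * (ψ bA)⁻¹ = bA * fA 1 * bA⁻¹ := by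
    conv_lhs => rw [← h1, ← map_inv, ← map_mul, ← map_mul, hj', hf, ← hj']
  have e2 : ψ bA * fA 2 * (ψ bA)⁻¹ = bA * fA 2 * bA⁻¹ := by
    conv_lhs => rw [← h2, ← map_inv, ← map_mul, ← map_mul, hk', hf, ← hk']
  have e3 : ψ bA ^ 3 = 1 := by
    rw [← map_pow, show bA ^ 3 = 1 from Subtype.ext betaA_facts.1, map_one]
  obtain ⟨i, hi⟩ := alt_coset (ψ bA) (congrArg Subtype.val e3) (congrArg Subtype.val e1) (congrArg Subtype.val e2)
  have hi' : ψ bA = fA i * bA := Subtype.ext hi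
  have hit : ∀ m : ℕ, ψ^[m] bA = fA i ^ m * bA := by
    intro m
    induction m with
    | zero => simp
    | succ m ih =>
      rw [Function.iterate_succ_apply', ih, map_mul, map_pow, hf, hi', ← mul_assoc, ← pow_succ]
  have hi0 : i = 0 := by
    obtain ⟨m, rfl⟩ := hn
    have h := (hit (2 * m + 1)).symm.trans (hψ bA)
    rw [pow_succ, pow_mul, pow_two, fA_facts.2.2, one_pow, one_mul] at h
    exact (alt_four_sq i i).2 (congrArg Subtype.val h)
  rw [hi0, fA_facts.1, one_mul] at hi'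
  have hinv : ∀ s : Alt5, s * s = 1 → ψ s = s := by
    intro s hs
    refine (alt_signature s (ψ s) hs (by rw [← map_mul, hs, map_one]) fun i k => ?_).symm
    have hh : ψ (fA i * bA ^ (k : ℕ)) = fA i * bA ^ (k : ℕ) := by rw [map_mul, hf, map_pow, hi']
    have key : ∀ m : ℕ, (s * (fA i * bA ^ (k : ℕ))) ^ m = 1 ↔ (ψ s * (fA i * bA ^ (k : ℕ))) ^ m = 1 := by
      intro m
      conv_rhs => rw [← hh, ← map_mul, ← map_pow]
      exact (map_eq_one_iff ψ ψ.injective).symm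
    constructor
    · simpa [Subtype.ext_iff, fA, bA] using key 2
    · simpa [Subtype.ext_iff, fA, bA] using key 3
  intro g
  obtain ⟨s, hs, ht⟩ := alt_invol_gen g
  calc ψ g = ψ (s * (s * g)) := by rw [← mul_assoc, hs, one_mul]
    _ = s * (s * g) := by rw [map_mul, hinv s hs, hinv _ ht]
    _ = g := by rw [← mul_assoc, hs, one_mul]

/-- An automorphism of odd order fixing a four group is trivial. -/
theorem fixed_of_four (ψ : Alt5 ≃* Alt5) {n : ℕ} (hn : Odd n) (hψ : ∀ x, ψ^[n] x = x) {a b : Alt5}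
    (ha : a * a = 1) (ha1 : a ≠ 1) (hb : b * b = 1) (hb1 : b ≠ 1) (hab : a * b = b * a) (hne : a ≠ b)
    (hψa : ψ a = a) (hψb : ψ b = b) : ∀ x, ψ x = x := by
  obtain ⟨σ, hσa, hσb⟩ := alt_normalise a b ha ha1 hb hb1 hab hne
  set c : Alt5 ≃* Alt5 := MulAut.conjNormal σ
  have hca : c a = fA 1 := Subtype.ext hσa
  have hcb : c b = fA 2 := Subtype.ext hσb
  set φ : Alt5 ≃* Alt5 := (c.symm.trans ψ).trans c with hφ
  have happ : ∀ x, φ x = c (ψ (c.symm x)) := fun _ => rfl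
  have hit : ∀ (m : ℕ) x, φ^[m] x = c (ψ^[m] (c.symm x)) := by
    intro m
    induction m with
    | zero => intro x; simp
    | succ m ih =>
      intro x
      rw [Function.iterate_succ_apply', Function.iterate_succ_apply', ih, happ, c.symm_apply_apply]
  have h := fixed_std φ hn (fun x => by rw [hit, hψ, c.apply_symm_apply])
    (by rw [happ, ← hca, c.symm_apply_apply, hψa]) (by rw [happ, ← hcb, c.symm_apply_apply, hψb])
  intro x
  have h' := h (c x)
  rw [happ, c.symm_apply_apply] at h'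
  exact c.injective h'

end Cfsg.Agent.Spor.JTwoType
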