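import Cfsg.Agent.Lib.Spor.JTwoType.Closure
import Cfsg.Agent.S1658
import Cfsg.Agent.S1665

/-!
# Identification once the odd core is trivial
-/

set_option autoImplicit false
set_option linter.unusedSectionVars false
set_option linter.style.haveILetI false
set_option maxRecDepth 100000
set_option synthInstance.maxSize 4000

namespace Cfsg.Agent.Spor.JTwoType

open Subgroup
open scoped commutatorElement

universe u

theorem q_facts : (∀ n : Fin 128, inQ n = true → (∀ m : Fin 128, inQ m = true → commM n m = true) → n = 0 ∨ n = 16) ∧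
    (∀ n m : Fin 128, inQ n = true → inQ m = true →
      mulM (mulM (mulM n m) (invM n)) (invM m) = 0 ∨ mulM (mulM (mulM n m) (invM n)) (invM m) = 16) ∧
    (∀ n : Fin 128, inQ n = true → mulM n n = 0 ∨ mulM n n = 16) ∧
    mulM (mulM (mulM 1 2) (invM 1)) (invM 2) = 16 ∧
    (Finset.univ.filter fun n : Fin 128 => inQ n = true).card = 32 := by
  decide +kernel

/-- A set of commuting involutions in the extraspecial group has at most four elements. -/
theorem card_le_four {ι : Type u} [Finite ι] (ν : ι → Fin 128) (hinj : Function.Injective ν)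
    (h : ∀ x y, inQ (ν x) = true ∧ mulM (ν x) (ν x) = 0 ∧ commM (ν x) (ν y) = true) : Nat.card ι ≤ 4 := by
  by_cases hex : ∃ x, ν x ≠ 0 ∧ ν x ≠ 16
  · obtain ⟨x, hx0, hx16⟩ := hex
    have hmem : ∀ y, ν y ∈ ({0, 16, ν x, mulM (ν x) 16} : Finset (Fin 128)) := fun y => by
      rcases q_inv_comm (ν x) (ν y) (h x y).1 (h y x).1 (h x y).2.1 (h y x).2.1 (h x y).2.2 with
        e | e | e | e | e | e <;> simp [e] at hx0 hx16 ⊢
    refine (Nat.card_le_card_of_injective (fun y => (⟨ν y, hmem y⟩ : ({0, 16, ν x, mulM (ν x) 16} : Finset (Fin 128))))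
      fun a b e => hinj (congrArg Subtype.val e)).trans ?_
    rw [Nat.card_eq_fintype_card, Fintype.card_coe]
    exact Finset.card_le_four
  · push Not at hex
    have hmem : ∀ y, ν y ∈ ({0, 16} : Finset (Fin 128)) := fun y => by
      by_cases e : ν y = 0
      · simp [e]
      · simp [hex y e]
    refine (Nat.card_le_card_of_injective (fun y => (⟨ν y, hmem y⟩ : ({0, 16} : Finset (Fin 128))))
      fun a b e => hinj (congrArg Subtype.val e)).trans ?_
    rw [Nat.card_eq_fintype_card, Fintype.card_coe]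
    exact Finset.card_le_two.trans (by norm_num)

variable {G : Type u} [Group G] [Finite G]

namespace Setting

variable (d : Setting G)

theorem mem_ker_iff (h0 : θ d.z = ⊥) (x : ↥d.C) :
    x ∈ d.pi.ker ↔ ∃ n, inQ n = true ∧ (x : G) = d.s.φ n := by
  rw [MonoidHom.mem_ker, d.pi_ker]
  constructor
  · rintro ⟨o, ho, n, hn, e⟩
    rw [h0, mem_bot] at ho
    exact ⟨n, hn, by rw [e, ho, one_mul]⟩
  · rintro ⟨n, hn, e⟩
    exact ⟨1, one_mem _, n, hn, by rw [e, one_mul]⟩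

/-- The hypotheses of the uniqueness theorems. -/
theorem kernel_spec (h0 : θ d.z = ⊥) : Cfsg.IsExtraspecial 2 ↥d.pi.ker ∧ Nat.card ↥d.pi.ker = 32 ∧
    (∀ E : Subgroup ↥d.pi.ker, Cfsg.IsElementaryAbelian 2 E → Nat.card E ≤ 2 ^ 2) ∧
    centralizer (d.pi.ker : Set ↥d.C) ≤ d.pi.ker ∧ Nonempty (↥d.C ⧸ d.pi.ker ≃* alternatingGroup (Fin 5)) := by
  haveI : Fact (Nat.Prime 2) := ⟨Nat.prime_two⟩
  obtain ⟨hcen, hcomm, hsq, h12, hcard32⟩ := q_facts
  let mk : ∀ n : Fin 128, inQ n = true → ↥d.pi.ker := fun n hn =>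
    ⟨⟨d.s.φ n, d.φ_mem_C n⟩, (d.mem_ker_iff h0 _).2 ⟨n, hn, rfl⟩⟩
  have hval : ∀ n hn, (((mk n hn : ↥d.pi.ker) : ↥d.C) : G) = d.s.φ n := fun _ _ => rfl
  have hext : ∀ x y : ↥d.pi.ker, ((x : ↥d.C) : G) = ((y : ↥d.C) : G) → x = y :=
    fun x y e => Subtype.ext (Subtype.ext e)
  choose ν hνQ hν using fun x : ↥d.pi.ker => (d.mem_ker_iff h0 _).1 x.2
  have hνinj : Function.Injective ν := fun x y e => hext x y (by rw [hν, hν, e])
  have hνmk : ∀ n hn, ν (mk n hn) = n := fun n hn => d.s.inj ((hν (mk n hn)).symm.trans (hval n hn))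
  have hνmul : ∀ x y, ν (x * y) = mulM (ν x) (ν y) := fun x y => d.s.inj (by
    rw [← d.s.mul, ← hν, ← hν, ← hν]; rfl)
  have hν1 : ν 1 = 0 := d.s.inj (by rw [← hν, d.s.one]; rfl)
  have hνinv : ∀ x, ν x⁻¹ = invM (ν x) := fun x => d.s.inj (by rw [← d.s.inv, ← hν, ← hν]; rfl)
  have hcard : Nat.card ↥d.pi.ker = 32 := by
    rw [← hcard32, ← Fintype.card_coe, ← Nat.card_eq_fintype_card]
    refine Nat.card_eq_of_bijective (fun x => (⟨ν x, Finset.mem_filter.2 ⟨Finset.mem_univ _, hνQ x⟩⟩ :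
      {n // n ∈ Finset.univ.filter fun n : Fin 128 => inQ n = true})) ⟨fun x y e => hνinj (congrArg Subtype.val e),
      fun n => ⟨mk n.1 (Finset.mem_filter.1 n.2).2, Subtype.ext (hνmk n.1 (Finset.mem_filter.1 n.2).2)⟩⟩
  have hQ16 : inQ 16 = true := by decide +kernel
  set Z := mk 16 hQ16
  have hcenter : ∀ x, x ∈ center ↥d.pi.ker ↔ x = 1 ∨ x = Z := by
    intro x
    constructor
    · intro hx
      refine (hcen (ν x) (hνQ x) fun m hm => ?_).imp (fun e => hνinj (e.trans hν1.symm))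
        fun e => hνinj (e.trans (hνmk 16 hQ16).symm)
      rw [← d.s.commute, ← hν, ← hval m hm]
      exact congrArg (fun u : ↥d.pi.ker => ((u : ↥d.C) : G)) (mem_center_iff.1 hx (mk m hm)).symm
    · rintro (rfl | rfl)
      · exact one_mem _
      · refine mem_center_iff.2 fun y => hext _ _ ?_
        show ((y : ↥d.C) : G) * d.s.φ 16 = d.s.φ 16 * ((y : ↥d.C) : G)
        exact mem_centralizer_singleton_iff.1 (y : ↥d.C).2
  have hcomm_le : commutator ↥d.pi.ker ≤ center ↥d.pi.ker := by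
    rw [_root_.commutator_def, commutator_le]
    intro x _ y _
    rw [hcenter]
    refine (hcomm (ν x) (ν y) (hνQ x) (hνQ y)).imp (fun e => hνinj ?_) (fun e => hνinj ?_) <;>
      rw [commutatorElement_def, hνmul, hνmul, hνmul, hνinv, hνinv, e]
    · exact hν1.symm
    · exact (hνmk 16 hQ16).symm
  have hpg : IsPGroup 2 ↥d.pi.ker := IsPGroup.of_card (n := 5) (by rw [hcard]; norm_num)
  have hZc : Z ∈ commutator ↥d.pi.ker := by
    have hq1 : inQ 1 = true ∧ inQ 2 = true := by decide +kernel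
    have e : Z = ⁅mk 1 hq1.1, mk 2 hq1.2⁆ := hνinj (by
      rw [commutatorElement_def, hνmul, hνmul, hνmul, hνinv, hνinv, hνmk 16 hQ16, hνmk 1 hq1.1, hνmk 2 hq1.2, h12])
    rw [e]
    exact commutator_mem_commutator (mem_top _) (mem_top _)
  have hcle : center ↥d.pi.ker ≤ commutator ↥d.pi.ker := fun x hx => by
    rcases (hcenter x).1 hx with rfl | rfl
    exacts [one_mem _, hZc]
  have hfr : frattini ↥d.pi.ker = center ↥d.pi.ker := le_antisymm
    (Grp.frattini_le_of_elementary Nat.prime_two hcomm_le fun x => (hcenter _).2 (by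
      refine (hsq (ν x) (hνQ x)).imp (fun e => hνinj ?_) (fun e => hνinj ?_) <;> rw [pow_two, hνmul, e]
      · exact hν1.symm
      · exact (hνmk 16 hQ16).symm))
    (hcle.trans (Grp.pGroup_commutator_le_frattini hpg))
  refine ⟨⟨⟨hpg, hfr, le_antisymm hcomm_le hcle⟩, ?_⟩, hcard, fun E hE => ?_, fun x hx => ?_, ?_⟩
  · have hset : (center ↥d.pi.ker : Set ↥d.pi.ker) = {1, Z} := Set.ext fun x => by simp [hcenter]
    rw [show Nat.card ↥(center ↥d.pi.ker) = (center ↥d.pi.ker : Set ↥d.pi.ker).ncard from Nat.card_coe_set_eq _, hset]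
    refine Set.ncard_pair fun e => ?_
    have := congrArg ν e
    rw [hν1, hνmk 16 hQ16] at this
    exact absurd this (by decide)
  · refine card_le_four (fun x : ↥E => ν (x : ↥d.pi.ker)) (fun a b e => Subtype.ext (hνinj e)) fun x y =>
      ⟨hνQ _, ?_, ?_⟩
    · rw [← hνmul, ← pow_two, hE.2 _ x.2, hν1]
    · rw [← d.s.commute, d.s.mul, d.s.mul, ← hνmul, ← hνmul]
      refine congrArg d.s.φ (congrArg ν ?_)
      haveI := hE.1
      exact congrArg Subtype.val (mul_comm' x y)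
  · refine MonoidHom.mem_ker.2 (Equiv.ext fun i => sv_inj ?_)
    obtain ⟨o, ho, m, hm, e⟩ := d.pi_spec x i
    have hc : (⟨d.s.φ (toM (sv i)), d.φ_mem_C _⟩ : ↥d.C) * x = x * ⟨d.s.φ (toM (sv i)), d.φ_mem_C _⟩ :=
      mem_centralizer_iff.1 hx _ ((d.mem_ker_iff h0 _).2 ⟨_, (toM_Q _).1, rfl⟩)
    have hc' : d.s.φ (toM (sv i)) * (x : G) = (x : G) * d.s.φ (toM (sv i)) := congrArg Subtype.val hc
    rw [← hc', mul_inv_cancel_right] at e
    obtain ⟨e1, -⟩ := d.unique_code ho e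
    refine (toM_inj _ _ ?_).symm
    rw [Equiv.Perm.one_apply, e1]
    exact hm
  · exact ⟨(QuotientGroup.quotientKerEquivRange d.pi).trans (MulEquiv.subgroupCongr d.pi_range)⟩

/-- Every involution is conjugate to one of the Sylow subgroup of known type. -/
theorem conj_types {x : G} (hx : orderOf x = 2) : IsConj x d.z ∨ ∃ n, inA1 n = true ∧ inFour n = false ∧ IsConj x (d.s.φ n) := by
  obtain ⟨g, hg⟩ := conj_into d.S (Invol.isPGroup_zpowers (n := 1) (by rw [hx, pow_one]))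
  obtain ⟨n, hn⟩ := d.s.surj _ (hg (mem_cI (mem_zpowers x)))
  have hxn : IsConj x (d.s.φ n) := _root_.isConj_iff.2 ⟨g, hn.symm⟩
  have hni : isInv n = true := d.s.orderOf_two.1 (by
    rw [hn]
    show orderOf (MulAut.conj g x) = 2
    rw [(MulAut.conj g).orderOf_eq, hx])
  rcases inv_classify n hni with e | e | e | ⟨r, hr⟩ | ⟨h1, h4⟩ | ⟨h1, h4⟩
  · rw [e] at hxn; exact Or.inl hxn
  · rw [e] at hxn; exact Or.inl (hxn.trans d.z_conj_c.symm)
  · rw [e] at hxn; exact Or.inl (hxn.trans (d.z_conj_c.trans d.c_cz).symm)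
  · exact Or.inl (hxn.trans (d.z_conj_one.trans (_root_.isConj_iff.2 ⟨d.s.φ r, by rw [d.s.conj, hr]⟩)).symm)
  · exact Or.inr ⟨n, h1, h4, hxn⟩
  · exact Or.inr ⟨_, h1, h4, hxn.trans (_root_.isConj_iff.2 ⟨d.s.φ 1, d.s.conj 1 n⟩)⟩

/-- One class of involutions: the third Janko group. -/
theorem isoJ3 (h0 : θ d.z = ⊥) (hI : ∀ n, inA1 n = true → n ≠ 0 → IsConj d.z (d.s.φ n)) : Cfsg.Spor.IsoJ3 G := by
  haveI := d.simple
  obtain ⟨h1, h2, h3, h4, ⟨e⟩⟩ := d.kernel_spec h0
  refine S1658.result d.z (d.s.orderOf_two.2 cent_one.2.2.2.2.2.2.2.1) d.pi.ker h1 h2 h3 h4 e fun x y hx hy => ?_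
  have h : ∀ x : G, orderOf x = 2 → IsConj x d.z := fun x hx => by
    rcases d.conj_types hx with h | ⟨n, hn, hn4, h⟩
    · exact h
    · exact h.trans (hI n hn fun e' => by rw [e', inFour_closed.1] at hn4; exact Bool.noConfusion hn4).symm
  exact (h x hx).trans (h y hy).symm

/-- Two classes of involutions: the Hall-Janko group. -/
theorem isoJ2 (h0 : θ d.z = ⊥) (hII : ∀ n, inA1 n = true → inFour n = false → ¬ IsConj d.z (d.s.φ n)) :
    Cfsg.Spor.IsoJ2 G := by
  haveI := d.simple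
  obtain ⟨h1, h2, h3, h4, ⟨e⟩⟩ := d.kernel_spec h0
  have h32 : inA1 32 = true ∧ inFour 32 = false ∧ isInv 32 = true := by decide +kernel
  refine S1665.result d.z (d.s.orderOf_two.2 cent_one.2.2.2.2.2.2.2.1) d.pi.ker h1 h2 h3 h4 e
    ⟨d.z, d.s.φ 32, d.s.orderOf_two.2 cent_one.2.2.2.2.2.2.2.1, d.s.orderOf_two.2 h32.2.2, hII 32 h32.1 h32.2.1,
      fun x hx => ?_⟩
  rcases d.conj_types hx with h | ⟨n, hn, hn4, h⟩
  · exact Or.inl h
  · obtain ⟨g, -, -, -, -, hg⟩ := d.outer_orbit hn hn4 h32.1 h32.2.1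
    exact Or.inr (h.trans (_root_.isConj_iff.2 ⟨g, hg⟩))

/-- The third Janko group when all involutions of the elementary subgroup are fused. -/
theorem isoJ3_of_all (hI : ∀ n, inA1 n = true → n ≠ 0 → IsConj d.z (d.s.φ n)) : Cfsg.Spor.IsoJ3 G :=
  d.isoJ3 (θ_z_eq_bot (d.bal_of_all hI)) hI

end Setting

end Cfsg.Agent.Spor.JTwoType
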