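import Cfsg.Agent.Lib.Spor.JTwoType.CentR
import Cfsg.Agent.Lib.Spor.JTwoType.Identify

/-!
# Balance with two classes of involutions, and the identification
-/

set_option autoImplicit false
set_option linter.unusedSectionVars false
set_option linter.style.haveILetI false
set_option maxRecDepth 100000

namespace Cfsg.Agent.Spor.JTwoType

open Subgroup

universe u

variable {G : Type u} [Group G] [Finite G]

namespace Setting

variable (d : Setting G)

/-- Balance when no outer involution is conjugate to `z`. -/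
theorem bal_of_none (hII : ∀ n, inA1 n = true → inFour n = false → ¬ IsConj d.z (d.s.φ n)) : d.Bal := by
  intro a ha _ b hb hb1
  by_cases hbV : b ∈ d.subV
  · exact d.bal_V ha hbV hb1
  obtain ⟨r, hr, rfl⟩ := hb
  have hr4 : inFour r = false := by
    by_contra h
    exact hbV (d.φ_mem_V (by simpa using h))
  have hrA : d.s.φ r ∈ d.s.subA := d.s.mem_sub.2 hr
  have key : ∀ v ∈ d.subV, v ≠ 1 → θ v ⊓ centralizer ({d.s.φ r} : Set G) ≤ θ (d.s.φ r) := by
    intro v hv hv1 x hx
    obtain ⟨g, hgz, -, hgr⟩ := d.V_conj hr hr4 hv hv1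
    have hgr' : Commute g (d.s.φ r) := hgr
    have h1 : g⁻¹ * x * g ∈ θ d.z := by
      have := θ_conj (g := g⁻¹) hx.1
      rw [← hgz, show g⁻¹ * (g * d.z * g⁻¹) * g⁻¹⁻¹ = d.z by group, inv_inv] at this
      exact this
    have h2 : Commute (g⁻¹ * x * g) (d.s.φ r) :=
      (hgr'.inv_left.mul_left (mem_centralizer_singleton_iff.1 hx.2)).mul_left hgr'
    have h3 := θ_conj (g := g) (d.key_z hII hr hr4 ⟨h1, mem_centralizer_singleton_iff.2 h2.eq⟩)
    rw [hgr, mul_inv_cancel_right] at h3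
    simpa [mul_assoc] using h3
  haveI : Fact (Nat.Prime 2) := ⟨Nat.prime_two⟩
  set U := θ a ⊓ centralizer ({d.s.φ r} : Set G)
  have hUo : Odd (Nat.card ↥U) := (θ_odd a).of_dvd_nat (card_dvd_of_le inf_le_left)
  have hVU : d.subV ≤ normalizer (U : Set G) := fun v hv => mem_normalizer_fintype fun y hy => by
    have hvA := d.subV_le_subA hv
    have hc : Commute v (d.s.φ r) := d.s.comm_subA hvA hrA
    exact ⟨θ_normal (d.s.comm_subA hvA ha) hy.1, mem_centralizer_singleton_iff.2
      ((hc.mul_left (mem_centralizer_singleton_iff.1 hy.2)).mul_left hc.inv_left).eq⟩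
  haveI := commute_of_sq (B := d.subV) fun x hx => d.V_sq hx
  have hVc : Nat.card ↥d.subV = 4 := d.s.card_sub.trans card_four
  rw [← Grp.generated_by_centralizers d.subV U (not_cyclic_four (fun x hx => d.V_sq hx) hVc.ge) hVU (by
    rw [hVc, show (4 : ℕ) = 2 ^ 2 from rfl]
    exact Nat.Coprime.pow_left 2 hUo.coprime_two_left)]
  exact iSup₂_le fun v hv x hx => key v hv.1 hv.2 ⟨d.bal_V ha hv.1 hv.2 ⟨hx.1.1, hx.2⟩, hx.1.2⟩

/-- The two Janko groups. -/
theorem isoJ2_or_isoJ3 (d : Setting G) : Cfsg.Spor.IsoJ2 G ∨ Cfsg.Spor.IsoJ3 G := by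
  rcases d.dichotomy with h | h
  · exact Or.inr (d.isoJ3_of_all h)
  · exact Or.inl (d.isoJ2 (θ_z_eq_bot (d.bal_of_none h)) h)

end Setting

end Cfsg.Agent.Spor.JTwoType
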