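import Cfsg.Agent.Lib.Spor.JTwoType.AltFive
import Cfsg.Agent.Lib.Invol.GW.Dihedral.ThreeDoneFinal
import Cfsg.Agent.Lib.Invol.GW.Klein.LinearPSL
import Cfsg.Agent.Lib.Invol.GW.Consumers.HallNumbers
import Cfsg.Agent.Lib.Fus.SmallSimple
import Cfsg.Agent.Lib.Grp.Coprime

/-!
# A core-free group with a four group as Sylow 2-subgroup

If for every odd prime two involution centralizers are covered, up to conjugation, by one group of that prime,
then no element of odd order centralises an involution.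
-/

set_option autoImplicit false
set_option linter.unusedSectionVars false
set_option linter.style.haveILetI false
set_option maxRecDepth 100000
set_option synthInstance.maxSize 4000

namespace Cfsg.Agent.Spor.JTwoType

open Subgroup Invol

universe u

theorem alt4_centralizer : ∀ s x : alternatingGroup (Fin 4), s * s = 1 → s ≠ 1 → x * s = s * x → x * x = 1 := by
  decide +kernel

theorem alt5_centralizer : ∀ s x : Alt5, s * s = 1 → s ≠ 1 → x * s = s * x → x * x = 1 := by
  decide +kernel

/-- An element of odd order with trivial square is trivial. -/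
theorem eq_one_of_odd_sq {M : Type*} [Group M] {c : M} (hc : Odd (orderOf c)) (h : c * c = 1) : c = 1 := by
  have h1 : orderOf c ∣ 2 := orderOf_dvd_of_pow_eq_one (by rw [pow_two, h])
  exact orderOf_eq_one_iff.1 (Nat.eq_one_of_dvd_coprimes (Nat.coprime_two_right.2 hc) dvd_rfl h1)

/-- In a cyclic group two elements of the same prime order generate the same subgroup. -/
theorem mem_zpowers_of_cyclic {M : Type*} [Group M] [Finite M] [IsCyclic M] {l : ℕ} (hl : l.Prime) {x y : M}
    (hx : orderOf x = l) (hy : y ^ l = 1) : y ∈ zpowers x := by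
  classical
  haveI := Fintype.ofFinite M
  have h1 : Finset.univ.filter (fun a : M => a ∈ zpowers x) = Finset.univ.filter fun a : M => a ^ l = 1 := by
    refine Finset.eq_of_subset_of_card_le (fun a ha => ?_) ?_
    · simp only [Finset.mem_filter, Finset.mem_univ, true_and] at ha ⊢
      obtain ⟨i, rfl⟩ := mem_zpowers_iff.1 ha
      rw [← zpow_natCast, ← zpow_mul, mul_comm, zpow_mul, zpow_natCast, ← hx, pow_orderOf_eq_one, one_zpow]
    · refine (IsCyclic.card_pow_eq_one_le (α := M) hl.pos).trans ?_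
      rw [← Fintype.card_subtype, ← Nat.card_eq_fintype_card]
      exact ((Nat.card_zpowers x).trans hx).ge
  have h2 : y ∈ Finset.univ.filter fun a : M => a ^ l = 1 := by simp [hy]
  rw [← h1] at h2
  exact (Finset.mem_filter.1 h2).2

/-- The index of a torus is prime to the odd primes dividing its order. -/
theorem torus_cards {F : Type*} [Field F] [Fintype F] (hodd : Odd (Fintype.card F)) (h5 : 5 ≤ Fintype.card F)
    {m : ℕ} (h1 : Fintype.card F % 4 = 1 → 2 * m + 1 = Fintype.card F)
    (h3 : Fintype.card F % 4 = 3 → 2 * m = Fintype.card F + 1) :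
    (∃ r, Nat.card (Matrix.ProjectiveSpecialLinearGroup (Fin 2) F) = m * r ∧
      ∀ l, l.Prime → l ≠ 2 → l ∣ m → ¬ l ∣ r) ∧
    (m = 2 → Nat.card (Matrix.ProjectiveSpecialLinearGroup (Fin 2) F) = 60) ∧ Even m := by
  have hc := GW.Klein.PSL.card_mul hodd
  obtain ⟨k, hk⟩ := hodd
  rcases (show Fintype.card F % 4 = 1 ∨ Fintype.card F % 4 = 3 by omega) with h | h
  · have hm := h1 h
    rw [← hm, Nat.add_sub_cancel] at hc
    refine ⟨⟨(2 * m + 1) * (2 * m + 1 + 1), ?_, fun l hl hl2 hlm hlr => ?_⟩, fun e => ?_, ?_⟩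
    · refine Nat.eq_of_mul_eq_mul_left two_pos (hc.trans ?_)
      ring
    · rcases hl.dvd_mul.1 hlr with h' | h'
      · have := (Nat.dvd_add_right (dvd_mul_of_dvd_right hlm 2)).1 h'
        exact hl.ne_one (Nat.dvd_one.1 this)
      · have := (Nat.dvd_add_right (dvd_mul_of_dvd_right hlm 2)).1 (show l ∣ 2 * m + 2 by
          rwa [show 2 * m + 2 = 2 * m + 1 + 1 by omega])
        exact hl2 ((Nat.prime_dvd_prime_iff_eq hl Nat.prime_two).1 this)
    · subst e; omega
    · exact Nat.even_iff.2 (by omega)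
  · have hm := h3 h
    rw [← hm] at hc
    refine ⟨⟨Fintype.card F * (Fintype.card F - 1), ?_, fun l hl hl2 hlm hlr => ?_⟩, fun e => ?_, ?_⟩
    · refine Nat.eq_of_mul_eq_mul_left two_pos (hc.trans ?_)
      ring
    · have h2m : l ∣ 2 * m := dvd_mul_of_dvd_right hlm 2
      rw [hm] at h2m
      rcases hl.dvd_mul.1 hlr with h' | h'
      · exact hl.ne_one (Nat.dvd_one.1 ((Nat.dvd_add_right h').1 h2m))
      · have := (Nat.dvd_add_right h').1 (show l ∣ Fintype.card F - 1 + 2 by
          rwa [show Fintype.card F - 1 + 2 = Fintype.card F + 1 by omega])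
        exact hl2 ((Nat.prime_dvd_prime_iff_eq hl Nat.prime_two).1 this)
    · subst e; omega
    · exact Nat.even_iff.2 (by omega)

/-- Where two centralizers are covered by one group for each odd prime, centralizers of involutions are 2-groups. -/
theorem quot_core {X : Type u} [Group X] [Finite X] (hO : Cfsg.oddCore X = ⊥) (T : Sylow 2 X)
    (h4 : Nat.card ↥(T : Subgroup X) = 4) (hsq : ∀ x ∈ (T : Subgroup X), x * x = 1)
    (hcov : ∀ l : ℕ, l.Prime → l ≠ 2 → ∃ s ∈ (T : Subgroup X), ∃ t ∈ (T : Subgroup X), s ≠ 1 ∧ t ≠ 1 ∧ s ≠ t ∧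
      ∃ L : Subgroup X, IsPGroup l ↥L ∧ ∀ v, v = s ∨ v = t → ∀ c, orderOf c = l → c * v = v * c →
        ∃ g, g * v = v * g ∧ g * c * g⁻¹ ∈ L)
    {s : X} (hs : s ∈ (T : Subgroup X)) (hs1 : s ≠ 1) {c : X} (hc : Odd (orderOf c)) (hcs : c * s = s * c) :
    c = 1 := by
  classical
  haveI : Fact (Nat.Prime 2) := ⟨Nat.prime_two⟩
  haveI : IsKleinFour ↥(T : Subgroup X) := ⟨h4, by
    haveI : Nontrivial ↥(T : Subgroup X) := Finite.one_lt_card_iff_nontrivial.1 (by omega)
    refine (Monoid.exponent_eq_prime_iff Nat.prime_two).2 fun g hg => orderOf_eq_prime ?_ hg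
    exact Subtype.ext (by rw [Subgroup.coe_pow, pow_two]; exact hsq g g.2)⟩
  obtain ⟨e⟩ := GW.HallNumbers.dihedral_of_klein (T := ↥(T : Subgroup X))
  have IH : GW.Induction.KnownBelow.{u} (Nat.card X + 1) :=
    GW.Induction.knownBelow GW.Klein.kleinDone (GW.Dihedral.dihedralDone_of GW.Dihedral.factsDone
      GW.Dihedral.threeDone GW.Dihedral.goodDone_holds GW.Dihedral.caseDone) _
  have eT : ↥(T : Subgroup X) ≃* DihedralGroup (2 ^ 1) := e
  rcases GW.Induction.core_cases hO T le_rfl eT (Nat.lt_succ_self _) IH with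
    h2 | ⟨Q, N, hQn, hQ, hQ6, hN, hQN, hN12, hNc, ⟨f⟩⟩ | ⟨N, hNn, hNs, hNa, hNc, hPSL⟩
  · obtain ⟨k, hk⟩ := IsPGroup.iff_orderOf.1 h2 c
    rw [hk] at hc
    rcases k with _ | k
    · exact orderOf_eq_one_iff.1 (hk.trans (pow_zero 2))
    · exact absurd hc (Nat.not_odd_iff_even.2 ((even_iff_two_dvd).2 (dvd_pow_self 2 (Nat.succ_ne_zero k))))
  · haveI := hQ
    haveI := hQn
    have hQT : Q = (T : Subgroup X) := Subgroup.eq_of_le_of_card_ge
      ((IsPGroup.of_card (n := 2) (G := Q) IsKleinFour.card_four).le_sylow_of_normal T)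
      (by rw [h4, IsKleinFour.card_four])
    have hX : Nat.card X ≤ 12 := by
      rw [← Q.card_mul_index, IsKleinFour.card_four]
      have h1 : ¬ 2 ∣ Q.index := hQT ▸ T.not_dvd_index
      have h2 := Nat.le_of_dvd (by norm_num) hQ6
      interval_cases Q.index <;> omega
    have hNtop : N = ⊤ := Subgroup.eq_top_of_le_card N (by omega)
    let g : X ≃* alternatingGroup (Fin 4) :=
      (Subgroup.topEquiv.symm.trans (MulEquiv.subgroupCongr hNtop.symm)).trans f
    refine eq_one_of_odd_sq hc (g.injective ?_)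
    rw [map_mul, map_one]
    exact alt4_centralizer (g s) (g c) (by rw [← map_mul, hsq s hs, map_one])
      (fun h => hs1 (g.injective (h.trans (map_one g).symm))) (by rw [← map_mul, hcs, map_mul])
  -- the linear case
  haveI := hNn
  haveI := hNs
  have hidx : Odd N.index := GW.Induction.index_odd_of_simple T h4 N hNa
  have hTN : ∀ x ∈ (T : Subgroup X), x ∈ N := by
    intro x hx
    have h1 : orderOf (QuotientGroup.mk' N x) ∣ N.index := by
      rw [Subgroup.index]; exact orderOf_dvd_natCard _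
    have h2 : orderOf (QuotientGroup.mk' N x) ∣ 2 :=
      orderOf_dvd_of_pow_eq_one (by rw [← map_pow, pow_two, hsq x hx, map_one])
    exact (QuotientGroup.eq_one_iff x).1
      (orderOf_eq_one_iff.1 (Nat.eq_one_of_dvd_coprimes (Nat.coprime_two_right.2 hidx) h1 h2))
  rcases hPSL with ⟨Fd, hF, hFf, hFo, hF3, ⟨f⟩⟩ | hf7
  swap
  · exfalso
    obtain ⟨f⟩ := hf7
    have h8 : 8 ∣ Nat.card X := by
      refine dvd_trans ?_ (Subgroup.card_subgroup_dvd_card N)
      rw [Nat.card_congr f.toEquiv, nat_card_alternatingGroup]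
      simp only [Nat.card_eq_fintype_card, Fintype.card_fin]
      decide
    rw [← (T : Subgroup X).card_mul_index, h4] at h8
    exact T.not_dvd_index (Nat.dvd_of_mul_dvd_mul_left (show 0 < 4 by norm_num) (by simpa using h8))
  have h5 : 5 ≤ Fintype.card Fd := by
    obtain ⟨k, hk⟩ := hFo
    omega
  have hord : ∀ v : ↥N, (v : X) ∈ (T : Subgroup X) → (v : X) ≠ 1 → orderOf (f v) = 2 := fun v hv hv1 => by
    rw [MulEquiv.orderOf_eq, ← Subgroup.orderOf_coe]
    exact orderOf_eq_prime (by rw [pow_two]; exact hsq _ hv) hv1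
  set sN : ↥N := ⟨s, hTN s hs⟩
  -- no element of odd prime order of `N` centralises `s`
  have hstep : ∀ x : ↥N, (orderOf x).Prime → orderOf x ≠ 2 → (x : X) * s ≠ s * x := by
    intro x hp hp2 hxs
    obtain ⟨u, hu, w, hw, hu1, hw1, huw, L, hL, hLcov⟩ := hcov _ hp hp2
    haveI : Fact (orderOf x).Prime := ⟨hp⟩
    have hget : ∀ v, v = u ∨ v = w → ∃ y : ↥N, orderOf y = orderOf x ∧ (y : X) * v = v * y ∧ (y : X) ∈ L := by
      intro v hv
      have hvT : v ∈ (T : Subgroup X) := by rcases hv with rfl | rfl <;> assumption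
      have hv1 : v ≠ 1 := by rcases hv with rfl | rfl <;> assumption
      obtain ⟨g, hg⟩ := _root_.isConj_iff.1
        (Fus.PSLTwo.involutions_conj (Nat.odd_iff.1 hFo) (hord sN hs hs1) (hord ⟨v, hTN v hvT⟩ hvT hv1))
      set g' : ↥N := f.symm g
      have hgv : (g' : X) * s * (g' : X)⁻¹ = v := by
        have h1 : f (g' * sN * g'⁻¹) = f ⟨v, hTN v hvT⟩ := by
          rw [map_mul, map_mul, map_inv, f.apply_symm_apply, hg]
        exact congrArg Subtype.val (f.injective h1)
      have hord' : orderOf ((g' : X) * x * (g' : X)⁻¹) = orderOf x := by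
        rw [show (g' : X) * x * (g' : X)⁻¹ = MulAut.conj (g' : X) x from rfl, (MulAut.conj (g' : X)).orderOf_eq,
          Subgroup.orderOf_coe]
      obtain ⟨k, hkv, hkL⟩ := hLcov v hv _ hord' (by
        rw [← hgv]
        calc (g' : X) * x * (g' : X)⁻¹ * (g' * s * (g' : X)⁻¹) = g' * (x * s) * (g' : X)⁻¹ := by group
          _ = g' * (s * x) * (g' : X)⁻¹ := by rw [hxs]
          _ = _ := by group)
      have hmem : k * ((g' : X) * x * (g' : X)⁻¹) * k⁻¹ ∈ N :=
        hNn.conj_mem _ (hNn.conj_mem _ x.2 _) k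
      refine ⟨⟨_, hmem⟩, ?_, ?_, hkL⟩
      · rw [Subgroup.orderOf_mk,
          show k * ((g' : X) * x * (g' : X)⁻¹) * k⁻¹ = MulAut.conj k ((g' : X) * x * (g' : X)⁻¹) from rfl,
          (MulAut.conj k).orderOf_eq, hord']
      · have hkv' : Commute k v := hkv
        have hxv : Commute ((g' : X) * x * (g' : X)⁻¹) v := by
          rw [← hgv]
          exact (show Commute (x : X) s from hxs).map (MulAut.conj (g' : X)).toMonoidHom
        exact ((hkv'.mul_left hxv).mul_left hkv'.inv_left).eq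
    obtain ⟨yu, hyu, hyuu, hyuL⟩ := hget u (Or.inl rfl)
    obtain ⟨yw, hyw, hyww, hywL⟩ := hget w (Or.inr rfl)
    set uN : ↥N := ⟨u, hTN u hu⟩
    set wN : ↥N := ⟨w, hTN w hw⟩
    obtain ⟨Tor, hcyc, hTc, hTmem, hTinv, hT1, hT3⟩ := GW.Klein.PSL.exists_torus hFo (hord uN hu hu1)
    have hodd : ∀ y : ↥N, orderOf y = orderOf x → Odd (orderOf (f y)) := fun y hy => by
      rw [MulEquiv.orderOf_eq, hy]; exact hp.odd_of_ne_two hp2
    have hyT : f yu ∈ Tor := hTmem _ (hodd yu hyu)
      ((show Commute yu uN from Subtype.ext hyuu).map f.toMonoidHom)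
    have hdvd : orderOf x ∣ Nat.card ↥Tor := by
      rw [← hyu, ← MulEquiv.orderOf_eq f]
      exact Subgroup.orderOf_dvd_natCard _ hyT
    obtain ⟨⟨r, hr, hrl⟩, -, -⟩ := torus_cards hFo h5 hT1 hT3
    set L1 := (L.subgroupOf N).map f.toMonoidHom
    have hL1 : IsPGroup (orderOf x) ↥L1 := (hL.comap_of_injective _ N.subtype_injective).map _
    obtain ⟨R, hR⟩ := hL1.exists_le_sylow
    obtain ⟨R0⟩ : Nonempty (Sylow (orderOf x) ↥Tor) := Sylow.nonempty
    obtain ⟨R1, hR1⟩ := (R0.isPGroup'.map Tor.subtype).exists_le_sylow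
    have hR1e : (R0 : Subgroup ↥Tor).map Tor.subtype = R1 := by
      refine Subgroup.eq_of_le_of_card_ge hR1 (le_of_eq ?_)
      rw [card_map_of_injective Tor.subtype_injective, R1.card_eq_multiplicity, R0.card_eq_multiplicity, hr,
        Nat.factorization_mul Nat.card_pos.ne' (fun e => by
          rw [e, mul_zero] at hr; exact Nat.card_pos.ne' hr), Finsupp.add_apply,
        Nat.factorization_eq_zero_of_not_dvd (hrl _ hp hp2 hdvd), add_zero]
    haveI := hcyc
    haveI : IsCyclic ↥(R1 : Subgroup (Matrix.ProjectiveSpecialLinearGroup (Fin 2) Fd)) :=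
      isCyclic_of_le (hR1e ▸ map_subtype_le (R0 : Subgroup ↥Tor))
    haveI : IsCyclic ↥(R : Subgroup (Matrix.ProjectiveSpecialLinearGroup (Fin 2) Fd)) :=
      isCyclic_of_surjective (R1.equiv R).toMonoidHom (R1.equiv R).surjective
    have hmemR : ∀ y : ↥N, (y : X) ∈ L → f y ∈ (R : Subgroup _) := fun y hy =>
      hR ⟨y, mem_subgroupOf.2 hy, rfl⟩
    have hzp : (⟨f yw, hmemR yw hywL⟩ : ↥(R : Subgroup _)) ∈ zpowers ⟨f yu, hmemR yu hyuL⟩ := by
      refine mem_zpowers_of_cyclic hp ?_ ?_
      · rw [Subgroup.orderOf_mk, MulEquiv.orderOf_eq, hyu]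
      · refine Subtype.ext ?_
        rw [Subgroup.coe_pow, OneMemClass.coe_one]
        show f yw ^ orderOf x = 1
        rw [← hyw, ← MulEquiv.orderOf_eq f, pow_orderOf_eq_one]
    have hywT : f yw ∈ Tor := by
      obtain ⟨i, hi⟩ := mem_zpowers_iff.1 hzp
      have := congrArg Subtype.val hi
      rw [Subgroup.coe_zpow] at this
      rw [show f yw = f yu ^ i from this.symm]
      exact zpow_mem hyT i
    have hinv := hTinv (f wN) (hord wN hw hw1)
      ((show Commute wN uN from Subtype.ext (congrArg Subtype.val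
        ((IsKleinFour.isMulCommutative (G := ↥(T : Subgroup X))).is_comm.comm ⟨w, hw⟩ ⟨u, hu⟩) :)).map f.toMonoidHom)
      (fun h => huw (congrArg Subtype.val (f.injective h)).symm) _ hywT
    have hcomm : f yw * f wN = f wN * f yw := by
      rw [← map_mul, ← map_mul]; exact congrArg f (Subtype.ext hyww)
    rw [← hcomm] at hinv
    have hyy : f yw * f yw = 1 := by
      have h : f yw = (f yw)⁻¹ := by simpa using hinv
      calc f yw * f yw = f yw * (f yw)⁻¹ := by rw [← h]
        _ = 1 := mul_inv_cancel _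
    have := eq_one_of_odd_sq (hodd yw hyw) hyy
    rw [← orderOf_eq_one_iff, MulEquiv.orderOf_eq, hyw] at this
    exact hp.ne_one this
  obtain ⟨Tor, hcyc, hTc, hTmem, hTinv, hT1, hT3⟩ := GW.Klein.PSL.exists_torus hFo (hord sN hs hs1)
  obtain ⟨⟨r, hr, hrl⟩, h60, hev⟩ := torus_cards hFo h5 hT1 hT3
  have htor : Nat.card ↥Tor = 2 := by
    obtain ⟨k, hk⟩ : ∃ k, Nat.card ↥Tor = 2 ^ k := by
      refine ⟨_, Nat.eq_prime_pow_of_unique_prime_dvd Nat.card_pos.ne' fun {l} hl hlt => ?_⟩
      by_contra hl2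
      haveI : Fact l.Prime := ⟨hl⟩
      obtain ⟨y, hy⟩ := exists_prime_orderOf_dvd_card' l hlt
      rw [← Subgroup.orderOf_coe] at hy
      refine hstep (f.symm y) (by rw [MulEquiv.orderOf_eq, hy]; exact hl) (by rw [MulEquiv.orderOf_eq, hy]; exact hl2) ?_
      have h1 := (hTc y y.2).map f.symm.toMonoidHom
      simp only [MulEquiv.coe_toMonoidHom, f.symm_apply_apply] at h1
      exact congrArg Subtype.val h1.eq
    have h2le : 1 ≤ k := by
      by_contra h
      rw [show k = 0 by omega, pow_zero] at hk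
      rw [hk] at hev
      exact absurd hev (by decide)
    by_contra hne
    have hk2 : 2 ≤ k := by
      by_contra h
      rw [show k = 1 by omega, pow_one] at hk
      exact hne hk
    have h4' : ∀ (hq : 2 * Nat.card ↥Tor + 1 = Fintype.card Fd ∨ 2 * Nat.card ↥Tor = Fintype.card Fd + 1),
        8 ∣ Nat.card X := by
      intro hq
      refine dvd_trans ?_ (Subgroup.card_subgroup_dvd_card N)
      rw [Nat.card_congr f.toEquiv]
      have hc' := GW.Klein.PSL.card_mul hFo
      obtain ⟨j, hj⟩ : 4 ∣ Nat.card ↥Tor := hk ▸ (pow_dvd_pow 2 hk2)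
      have h16 : 16 ∣ 2 * Nat.card (Matrix.ProjectiveSpecialLinearGroup (Fin 2) Fd) := by
        rw [hc']
        rcases hq with hq | hq
        · rw [← hq, Nat.add_sub_cancel, hj]
          exact ⟨(2 * (4 * j) + 1) * (j * (4 * j + 1)), by ring⟩
        · rw [← hq, hj]
          obtain ⟨t, ht⟩ : ∃ t, Fintype.card Fd - 1 = 2 * t := ⟨4 * j - 1, by omega⟩
          rw [ht]
          exact ⟨Fintype.card Fd * (t * j), by ring⟩
      omega
    have h8 := h4' (by
      rcases (show Fintype.card Fd % 4 = 1 ∨ Fintype.card Fd % 4 = 3 by have := Nat.odd_iff.1 hFo; omega) with h | h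
      exacts [Or.inl (hT1 h), Or.inr (hT3 h)])
    rw [← (T : Subgroup X).card_mul_index, h4] at h8
    exact T.not_dvd_index (Nat.dvd_of_mul_dvd_mul_left (show 0 < 4 by norm_num) (by simpa using h8))
  have hN60 : Nat.card ↥N = 60 := by rw [Nat.card_congr f.toEquiv, h60 htor]
  obtain ⟨eN⟩ := Fus.alternating_five_of_card (G := ↥N) hN60
  -- the centraliser of `s` in `N` is the four group
  have hcent : ∀ y : X, y ∈ N → y * s = s * y → y ∈ (T : Subgroup X) := by
    have hC : IsPGroup 2 ↥(N ⊓ centralizer ({s} : Set X)) := fun y => ⟨1, by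
      refine Subtype.ext ?_
      rw [pow_one, Subgroup.coe_pow, pow_two, OneMemClass.coe_one]
      have h1 : eN ⟨(y : X), y.2.1⟩ * eN ⟨(y : X), y.2.1⟩ = 1 := alt5_centralizer (eN sN) _
        (by rw [← map_mul, show sN * sN = 1 from Subtype.ext (hsq s hs), map_one])
        (fun h => hs1 (congrArg Subtype.val (eN.injective (h.trans (map_one eN).symm)) :))
        (by rw [← map_mul, ← map_mul]
            exact congrArg eN (Subtype.ext (mem_centralizer_singleton_iff.1 y.2.2)))
      rw [← map_mul, ← map_one eN] at h1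
      exact congrArg Subtype.val (eN.injective h1)⟩
    intro y hy hys
    have hle : (T : Subgroup X) ≤ N ⊓ centralizer ({s} : Set X) := fun x hx => ⟨hTN x hx,
      mem_centralizer_singleton_iff.2 (congrArg Subtype.val
        ((IsKleinFour.isMulCommutative (G := ↥(T : Subgroup X))).is_comm.comm ⟨x, hx⟩ ⟨s, hs⟩) :)⟩
    rw [← T.3 hC hle]
    exact ⟨hy, mem_centralizer_singleton_iff.2 hys⟩
  -- an element of odd order centralising `s` centralises `T`
  have hfix : ∀ x ∈ (T : Subgroup X), c * x = x * c := by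
    intro x hx
    by_contra hne
    have hxs : x * s = s * x := congrArg Subtype.val
      ((IsKleinFour.isMulCommutative (G := ↥(T : Subgroup X))).is_comm.comm ⟨x, hx⟩ ⟨s, hs⟩)
    have hcx : c * x * c⁻¹ ∈ (T : Subgroup X) := hcent _ (hNn.conj_mem _ (hTN x hx) c)
      ((((show Commute c s from hcs).mul_left hxs).mul_left (show Commute c s from hcs).inv_left).eq)
    have hne' : c * x * c⁻¹ ≠ x := fun h => hne (mul_inv_eq_iff_eq_mul.1 h)
    have hx1 : x ≠ 1 := fun e => hne (by rw [e, mul_one, one_mul])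
    have hxs' : x ≠ s := fun e => hne (e ▸ hcs)
    have h5 : c * x * c⁻¹ = x * s := by
      have := IsKleinFour.eq_mul_of_ne_all (x := (⟨x, hx⟩ : ↥(T : Subgroup X))) (y := ⟨s, hs⟩)
        (z := ⟨_, hcx⟩) (fun e => hx1 (congrArg Subtype.val e)) (fun e => hs1 (congrArg Subtype.val e))
        (fun e => hxs' (congrArg Subtype.val e)) (fun e => hx1 (conj_eq_one_iff.1 (congrArg Subtype.val e)))
        (fun e => hne' (congrArg Subtype.val e)) (fun e => hxs' (by
          have e' : c * x * c⁻¹ = s := congrArg Subtype.val e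
          have : c * s * c⁻¹ = s := by rw [hcs, mul_inv_cancel_right]
          exact mul_left_cancel (mul_right_cancel (e'.trans this.symm))))
      exact congrArg Subtype.val this
    have h6 : c * c * x * (c * c)⁻¹ = x := by
      rw [show c * c * x * (c * c)⁻¹ = c * (c * x * c⁻¹) * c⁻¹ by group, h5,
        show c * (x * s) * c⁻¹ = c * x * c⁻¹ * (c * s * c⁻¹) by group, h5, hcs, mul_inv_cancel_right, mul_assoc,
        hsq s hs, mul_one]
    obtain ⟨k, hk⟩ := hc
    have h7 : Commute ((c * c) ^ (k + 1)) x := (show Commute (c * c) x from mul_inv_eq_iff_eq_mul.1 h6).pow_left _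
    rw [← pow_two, ← pow_mul, show 2 * (k + 1) = orderOf c + 1 by omega, pow_succ, pow_orderOf_eq_one, one_mul] at h7
    exact hne h7.eq
  obtain ⟨t, ht, ht1, hts⟩ : ∃ t ∈ (T : Subgroup X), t ≠ 1 ∧ t ≠ s := by
    obtain ⟨u, hu, w, hw, hu1, hw1, huw, -⟩ := hcov 3 Nat.prime_three (by decide)
    by_cases h : u = s
    · exact ⟨w, hw, hw1, fun e => huw (h.trans e.symm)⟩
    · exact ⟨u, hu, hu1, h⟩
  set tN : ↥N := ⟨t, hTN t ht⟩
  set cj : ↥N ≃* ↥N := MulAut.conjNormal c
  have hcj : ∀ x : ↥N, ((cj x : ↥N) : X) = c * x * c⁻¹ := fun _ => rfl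
  set ψ : Alt5 ≃* Alt5 := (eN.symm.trans cj).trans eN
  have hψ : ∀ x, ψ x = eN (cj (eN.symm x)) := fun _ => rfl
  have hit : ∀ (m : ℕ) x, ((eN.symm (ψ^[m] x) : ↥N) : X) = c ^ m * (eN.symm x : ↥N) * (c ^ m)⁻¹ := by
    intro m
    induction m with
    | zero => intro x; simp
    | succ m ih =>
      intro x
      rw [Function.iterate_succ_apply', hψ, eN.symm_apply_apply, hcj, ih, pow_succ']
      group
  have hid := fixed_of_four ψ hc (fun x => eN.symm.injective (Subtype.ext (by
      rw [hit, pow_orderOf_eq_one, one_mul, inv_one, mul_one])))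
    (a := eN sN) (b := eN tN) (by rw [← map_mul, show sN * sN = 1 from Subtype.ext (hsq s hs), map_one])
    (fun h => hs1 (congrArg Subtype.val (eN.injective (h.trans (map_one eN).symm)) :))
    (by rw [← map_mul, show tN * tN = 1 from Subtype.ext (hsq t ht), map_one])
    (fun h => ht1 (congrArg Subtype.val (eN.injective (h.trans (map_one eN).symm)) :))
    (by rw [← map_mul, ← map_mul]
        exact congrArg eN (Subtype.ext (congrArg Subtype.val
          ((IsKleinFour.isMulCommutative (G := ↥(T : Subgroup X))).is_comm.comm ⟨s, hs⟩ ⟨t, ht⟩) :)))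
    (fun h => hts (congrArg Subtype.val (eN.injective h)).symm)
    (by rw [hψ, eN.symm_apply_apply]
        exact congrArg eN (Subtype.ext (by rw [hcj]; exact mul_inv_eq_iff_eq_mul.2 hcs)))
    (by rw [hψ, eN.symm_apply_apply]
        exact congrArg eN (Subtype.ext (by rw [hcj]; exact mul_inv_eq_iff_eq_mul.2 (hfix t ht))))
  refine hNc c fun y hy => ?_
  have := congrArg (fun x => ((eN.symm x : ↥N) : X)) (hid (eN ⟨y, hy⟩))
  simp only [hψ, eN.symm_apply_apply, hcj] at this
  exact mul_inv_eq_iff_eq_mul.1 this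

end Cfsg.Agent.Spor.JTwoType
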