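import Cfsg.Agent.Lib.Spor.JTwoType.Transit
import Cfsg.Agent.Lib.Spor.JTwoType.CentQuot
import Cfsg.Agent.Lib.Transfer.Fusion

/-!
# The centralizer of an outer involution

Transfer gives a normal subgroup with the central four group as Sylow 2-subgroup; modulo its core it has no
element of odd order centralising an involution, so the signalizer at `z` meets the centralizer inside the core.
-/

set_option autoImplicit false
set_option linter.unusedSectionVars false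
set_option linter.style.haveILetI false
set_option maxRecDepth 100000
set_option synthInstance.maxSize 4000

namespace Cfsg.Agent.Spor.JTwoType

open Subgroup
open scoped Pointwise commutatorElement

universe u

theorem coset_code : ∀ r : Fin 128, inA1 r = true → ∀ p : Fin 128, inA1 p = true → ∀ m : Fin 128, inA1 m = true →
    mulM (mulM p r) (mulM m r) = mulM p m ∧
    (inFour r = false → inFour p = false → inFour (mulM p r) = false → inFour m = false → inFour (mulM m r) = false →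
      inFour (mulM p m) = false → inFour (mulM (mulM p m) r) = true) := by
  decide +kernel

variable {G : Type u} [Group G] [Finite G]

/-- A preimage of prime order can be taken of prime power order. -/
theorem lift_primary {M N : Type*} [Group M] [Finite M] [Group N] (f : M →* N) {g : M} {l : ℕ} (hl : l.Prime)
    (h : orderOf (f g) = l) : ∃ k : ℕ, (∃ a, orderOf (g ^ k) = l ^ a) ∧ f (g ^ k) = f g := by
  haveI : Fact l.Prime := ⟨hl⟩
  obtain ⟨a, m, hm, ham⟩ := Nat.exists_eq_pow_mul_and_not_dvd (orderOf_pos g).ne' l hl.ne_one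
  obtain ⟨j, -, hj⟩ := Nat.exists_mul_mod_eq_one_of_coprime
    ((hl.coprime_iff_not_dvd.2 hm).symm) hl.one_lt
  refine ⟨m * j, ?_, ?_⟩
  · have h1 : (g ^ (m * j)) ^ l ^ a = 1 := by
      rw [← pow_mul, show m * j * l ^ a = orderOf g * j by rw [ham]; ring, pow_mul, pow_orderOf_eq_one, one_pow]
    obtain ⟨b, -, hb⟩ := (Nat.dvd_prime_pow hl).1 (orderOf_dvd_of_pow_eq_one h1)
    exact ⟨b, hb⟩
  · rw [map_pow, ← pow_mod_orderOf, h, hj, pow_one]

/-- A preimage of odd order. -/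
theorem lift_odd {M N : Type*} [Group M] [Finite M] [Group N] (f : M →* N) {g : M} (h : Odd (orderOf (f g))) :
    ∃ k : ℕ, Odd (orderOf (g ^ k)) ∧ f (g ^ k) = f g := by
  haveI : Fact (Nat.Prime 2) := ⟨Nat.prime_two⟩
  obtain ⟨a, m, hm, ham⟩ := Nat.exists_eq_pow_mul_and_not_dvd (orderOf_pos g).ne' 2 (by norm_num)
  by_cases h1 : orderOf (f g) = 1
  · exact ⟨0, by rw [pow_zero, orderOf_one]; exact odd_one, by
      rw [pow_zero, map_one, orderOf_eq_one_iff.1 h1]⟩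
  obtain ⟨j, -, hj⟩ := Nat.exists_mul_mod_eq_one_of_coprime
    ((Nat.coprime_two_left.2 h).pow_left a) (show 1 < orderOf (f g) by
      rcases h with ⟨i, hi⟩; omega)
  refine ⟨2 ^ a * j, ?_, ?_⟩
  · have h2 : orderOf (g ^ (2 ^ a * j)) ∣ m := orderOf_dvd_of_pow_eq_one (by
      rw [← pow_mul, show 2 ^ a * j * m = orderOf g * j by rw [ham]; ring, pow_mul, pow_orderOf_eq_one, one_pow])
    exact (Nat.odd_iff.2 (by omega : m % 2 = 1)).of_dvd_nat h2
  · rw [map_pow, ← pow_mod_orderOf, hj, pow_one]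

namespace Setting

variable (d : Setting G)

section Two

variable (hII : ∀ n, inA1 n = true → inFour n = false → ¬ IsConj d.z (d.s.φ n))
include hII

/-- The normalizer of the elementary subgroup in the centralizer of an outer involution fixes it modulo `V`. -/
theorem fixed_mod {r : Fin 128} (hr : inA1 r = true) (hr4 : inFour r = false) {n : G}
    (hnA : n ∈ normalizer (d.s.subA : Set G)) (hnr : n * d.s.φ r = d.s.φ r * n) {j : ℕ} (hj : Odd j)
    (hjA : n ^ j ∈ d.s.subA) {x : G} (hx : x ∈ d.s.subA) : x⁻¹ * (n * x * n⁻¹) ∈ d.subV := by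
  have hnV := d.NA_le_NV hII hnA
  obtain ⟨p, hp, rfl⟩ := hx
  obtain ⟨m, hm, hme⟩ := (mem_normalizer_iff.1 hnA _).1 (d.s.mem_sub.2 hp : d.s.φ p ∈ d.s.subA)
  rw [← hme, inv_eq_of_mul_eq_one_right (d.s.sq_subA (d.s.mem_sub.2 hp)), d.s.mul]
  refine d.s.mem_sub.2 ?_
  by_contra hpm
  have hcl := inFour_closed.2.1
  have hmulr : n * d.s.φ (mulM p r) * n⁻¹ = d.s.φ (mulM m r) := by
    rw [← d.s.mul, ← d.s.mul, hme, show n * (d.s.φ p * d.s.φ r) * n⁻¹ = n * d.s.φ p * n⁻¹ * (n * d.s.φ r * n⁻¹) by group,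
      hnr, mul_inv_cancel_right]
  have hiff : ∀ a b : Fin 128, n * d.s.φ a * n⁻¹ = d.s.φ b → (inFour a = true ↔ inFour b = true) := fun a b e => by
    refine ⟨fun h => d.s.mem_sub.1 (e ▸ (mem_normalizer_iff.1 hnV _).1 (d.φ_mem_V h) : d.s.φ b ∈ d.subV),
      fun h => d.s.mem_sub.1 ((mem_normalizer_iff.1 hnV _).2 (by rw [e]; exact d.φ_mem_V h) : d.s.φ a ∈ d.subV)⟩
  have hp4 : inFour p = false := by
    by_contra h
    rw [Bool.not_eq_false] at h
    exact hpm (hcl p m h ((hiff p m hme.symm).1 h))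
  have hpr : inFour (mulM p r) = false := by
    by_contra h
    rw [Bool.not_eq_false] at h
    have h2 := hcl _ _ h ((hiff _ _ hmulr).1 h)
    rw [(coset_code r hr p hp m hm).1] at h2
    exact hpm h2
  have hm4 : inFour m = false := by
    by_contra h
    rw [Bool.not_eq_false] at h
    rw [(hiff p m hme.symm).2 h] at hp4
    exact Bool.noConfusion hp4
  have hmr : inFour (mulM m r) = false := by
    by_contra h
    rw [Bool.not_eq_false] at h
    rw [(hiff _ _ hmulr).2 h] at hpr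
    exact Bool.noConfusion hpr
  have hw : d.s.φ (mulM (mulM p m) r) ∈ d.subV :=
    d.φ_mem_V ((coset_code r hr p hp m hm).2 hr4 hp4 hpr hm4 hmr (by simpa using hpm))
  set w := d.s.φ (mulM (mulM p m) r) with hwdef
  have hA : ∀ {a b : G}, a ∈ d.s.subA → b ∈ d.s.subA → a * b = b * a := fun ha hb => d.s.comm_subA ha hb
  have hrA : d.s.φ r ∈ d.s.subA := d.s.mem_sub.2 hr
  have hpA : d.s.φ p ∈ d.s.subA := d.s.mem_sub.2 hp
  have hmA : d.s.φ m ∈ d.s.subA := d.s.mem_sub.2 hm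
  have hnx : n * d.s.φ p * n⁻¹ = d.s.φ p * d.s.φ r * w := by
    have hwe : w = d.s.φ p * d.s.φ m * d.s.φ r := by rw [hwdef, d.s.mul, d.s.mul]
    rw [← hme, hwe, show d.s.φ p * d.s.φ r * (d.s.φ p * d.s.φ m * d.s.φ r) =
      d.s.φ p * (d.s.φ r * (d.s.φ p * d.s.φ m)) * d.s.φ r by group, hA hrA (mul_mem hpA hmA),
      show d.s.φ p * (d.s.φ p * d.s.φ m * d.s.φ r) * d.s.φ r =
        d.s.φ p * d.s.φ p * d.s.φ m * (d.s.φ r * d.s.φ r) by group,
      d.s.sq_subA hpA, d.s.sq_subA hrA, one_mul, mul_one]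
  have hit : ∀ k : ℕ, ∃ v ∈ d.subV, n ^ k * d.s.φ p * (n ^ k)⁻¹ = d.s.φ p * d.s.φ r ^ k * v := by
    intro k
    induction k with
    | zero => exact ⟨1, one_mem _, by simp⟩
    | succ k ih =>
      obtain ⟨v, hv, hve⟩ := ih
      have hfix : n * d.s.φ r ^ k * n⁻¹ = d.s.φ r ^ k := by
        rw [((show Commute n (d.s.φ r) from hnr).pow_right k).eq, mul_inv_cancel_right]
      refine ⟨w * (n * v * n⁻¹), mul_mem hw ((mem_normalizer_iff.1 hnV v).1 hv), ?_⟩
      calc n ^ (k + 1) * d.s.φ p * (n ^ (k + 1))⁻¹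
          = n * (n ^ k * d.s.φ p * (n ^ k)⁻¹) * n⁻¹ := by rw [pow_succ']; group
        _ = n * d.s.φ p * n⁻¹ * (n * d.s.φ r ^ k * n⁻¹) * (n * v * n⁻¹) := by rw [hve]; group
        _ = d.s.φ p * d.s.φ r * (w * d.s.φ r ^ k) * (n * v * n⁻¹) := by rw [hnx, hfix]; group
        _ = _ := by rw [hA (d.subV_le_subA hw) (pow_mem hrA k), pow_succ']; group
  obtain ⟨v, hv, hve⟩ := hit j
  obtain ⟨i, rfl⟩ := hj
  rw [hA hjA hpA, mul_inv_cancel_right, pow_succ, pow_mul, pow_two, d.s.sq_subA hrA, one_pow, one_mul,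
    mul_assoc, left_eq_mul, mul_eq_one_iff_eq_inv] at hve
  have : d.s.φ r ∈ d.subV := hve ▸ inv_mem hv
  rw [d.s.mem_sub.1 this] at hr4
  exact Bool.noConfusion hr4

/-- A normal subgroup of the centralizer with the four group as Sylow subgroup. -/
theorem exists_section {r : Fin 128} (hr : inA1 r = true) (hr4 : inFour r = false) :
    ∃ (K : Subgroup G) (P : Sylow 2 ↥K), K ≤ centralizer ({d.s.φ r} : Set G) ∧ d.subV ≤ K ∧
      (P : Subgroup ↥K) = d.subV.subgroupOf K ∧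
      (∀ x : G, x * d.s.φ r = d.s.φ r * x → Odd (orderOf x) → x ∈ K) ∧ OG K ≤ θ (d.s.φ r) := by
  haveI : Fact (Nat.Prime 2) := ⟨Nat.prime_two⟩
  set H := centralizer ({d.s.φ r} : Set G) with hH
  have hAH : d.s.subA ≤ H := fun a ha => mem_centralizer_singleton_iff.2 (d.s.comm_subA ha (d.s.mem_sub.2 hr))
  obtain ⟨PA, hPA⟩ := ((d.S.isPGroup'.to_le (d.subA_le_subE.trans d.subE_le_S)).comap_of_injective H.subtype
    H.subtype_injective).exists_le_sylow
  have hPAe : (PA : Subgroup ↥H) = d.s.subA.subgroupOf H := by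
    have h1 := d.A_max hII hr hr4 (PA.isPGroup'.map H.subtype) (map_subtype_le _)
      (fun a ha => ⟨⟨a, hAH ha⟩, hPA (mem_comap.2 ha), rfl⟩)
    rw [h1]
    exact (comap_map_eq_self_of_injective H.subtype_injective _).symm
  set W := commutator ↥H ⊔ d.subV.subgroupOf H
  haveI hWn : W.Normal := ⟨fun w hw g => by
    have h1 : g * w * g⁻¹ * w⁻¹ ∈ W := mem_sup_left (by
      rw [show g * w * g⁻¹ * w⁻¹ = ⁅g, w⁆ from (commutatorElement_def g w).symm]
      exact commutator_mem_commutator (mem_top g) (mem_top w))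
    simpa using mul_mem h1 hw⟩
  set K0 := (Cfsg.pPrimeCore 2 (↥H ⧸ W)).comap (QuotientGroup.mk' W)
  haveI hcn : (Cfsg.pPrimeCore 2 (↥H ⧸ W)).Normal := Grp.pPrimeCore_isNormal
  haveI hK0n : K0.Normal := hcn.comap _
  have hodd : ∀ x : ↥H, Odd (orderOf x) → x ∈ K0 := by
    intro x hx
    have hn : (zpowers (QuotientGroup.mk' W x)).Normal := ⟨fun w hw g => by
      obtain ⟨a, rfl⟩ := QuotientGroup.mk'_surjective W g
      obtain ⟨b, rfl⟩ := QuotientGroup.mk'_surjective W w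
      have h1 : QuotientGroup.mk' W (a * b * a⁻¹ * b⁻¹) = 1 := (QuotientGroup.eq_one_iff _).2 (mem_sup_left (by
        rw [show a * b * a⁻¹ * b⁻¹ = ⁅a, b⁆ from (commutatorElement_def a b).symm]
        exact commutator_mem_commutator (mem_top a) (mem_top b)))
      rw [map_mul, map_mul, map_mul, map_inv, map_inv, mul_inv_eq_one] at h1
      rwa [h1]⟩
    have hc : (Nat.card ↥(zpowers (QuotientGroup.mk' W x))).Coprime 2 := by
      rw [Nat.card_zpowers]
      exact Nat.coprime_two_right.2 (hx.of_dvd_nat (orderOf_map_dvd _ x))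
    exact Grp.le_pPrimeCore hn hc (mem_zpowers _)
  have hVK0 : d.subV.subgroupOf H ≤ K0 := fun x hx => by
    show QuotientGroup.mk' W x ∈ Cfsg.pPrimeCore 2 (↥H ⧸ W)
    rw [QuotientGroup.mk'_apply, (QuotientGroup.eq_one_iff x).2 (mem_sup_right hx)]
    exact one_mem _
  have hfus : ∀ x ∈ (PA : Subgroup ↥H), ∀ u : ↥H, u * x * u⁻¹ ∈ (PA : Subgroup ↥H) →
      x⁻¹ * (u * x * u⁻¹) ∈ d.subV.subgroupOf H := by
    intro x hx u hu
    have hab : IsMulCommutative ↥(PA : Subgroup ↥H) := ⟨⟨fun a b => Subtype.ext (Subtype.ext (by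
      have ha : (a : ↥H) ∈ d.s.subA.subgroupOf H := hPAe ▸ a.2
      have hb : (b : ↥H) ∈ d.s.subA.subgroupOf H := hPAe ▸ b.2
      exact d.s.comm_subA (mem_subgroupOf.1 ha) (mem_subgroupOf.1 hb)))⟩⟩
    obtain ⟨n, hn, hne⟩ := Transfer.exists_normalizer_conj_of_abelian PA hab hx hu
    rw [← hne]
    refine mem_subgroupOf.2 ?_
    show (x : G)⁻¹ * ((n : G) * x * (n : G)⁻¹) ∈ d.subV
    haveI : ((PA : Subgroup ↥H).subgroupOf (normalizer ((PA : Subgroup ↥H) : Set ↥H))).Normal :=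
      normal_subgroupOf_of_le_normalizer le_rfl
    have hidx : Odd ((PA : Subgroup ↥H).subgroupOf (normalizer ((PA : Subgroup ↥H) : Set ↥H))).index :=
      Nat.not_even_iff_odd.1 fun he => PA.not_dvd_index
        ((even_iff_two_dvd.1 he).trans ⟨_, (relIndex_mul_index le_normalizer).symm⟩)
    have hpow := Subgroup.pow_index_mem
      ((PA : Subgroup ↥H).subgroupOf (normalizer ((PA : Subgroup ↥H) : Set ↥H))) ⟨n, hn⟩
    refine d.fixed_mod hII hr hr4 (n := n) ?_ (mem_centralizer_singleton_iff.1 n.2) hidx ?_ ?_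
    · refine mem_normalizer_fintype fun a ha => ?_
      have h1 := (mem_normalizer_iff.1 hn ⟨a, hAH ha⟩).1 (hPAe ▸ mem_subgroupOf.2 ha)
      rw [hPAe] at h1
      exact mem_subgroupOf.1 h1
    · exact mem_subgroupOf.1 (hPAe.le (mem_subgroupOf.1 hpow))
    · rw [hPAe] at hx; exact mem_subgroupOf.1 hx
  have hint : ∀ x ∈ (PA : Subgroup ↥H), x ∈ K0 → x ∈ d.subV.subgroupOf H := by
    intro x hxP hxK
    have hxW : x ∈ W := by
      refine (QuotientGroup.eq_one_iff (N := W) x).1 ?_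
      exact two_odd_eq_one (PA.isPGroup'.map (QuotientGroup.mk' W))
        (Nat.Coprime.odd_of_right Grp.pPrimeCore_coprime) ⟨x, hxP, rfl⟩ hxK
    have hxW' : x ∈ ((commutator ↥H : Set ↥H) * (d.subV.subgroupOf H : Set ↥H)) := by
      rw [← normal_mul]
      exact hxW
    obtain ⟨a, ha, b, hb, hab⟩ := hxW'
    have hbP : b ∈ (PA : Subgroup ↥H) := by
      rw [hPAe]; exact mem_subgroupOf.2 (d.subV_le_subA (mem_subgroupOf.1 hb))
    have haP : a ∈ (PA : Subgroup ↥H) := by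
      rw [eq_mul_inv_of_mul_eq hab]; exact mul_mem hxP (inv_mem hbP)
    have := Transfer.commutator_inf_sylow_le PA hfus ⟨ha, haP⟩
    exact hab ▸ mul_mem this hb
  set K := K0.map H.subtype
  have hVK : d.subV ≤ K := fun v hv => ⟨⟨v, hAH (d.subV_le_subA hv)⟩, hVK0 (mem_subgroupOf.2 hv), rfl⟩
  obtain ⟨P, hP⟩ := ((d.S.isPGroup'.to_le (d.subV_le_subE.trans d.subE_le_S)).comap_of_injective K.subtype
    K.subtype_injective).exists_le_sylow
  have hPe : (P : Subgroup ↥K) = d.subV.subgroupOf K := by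
    refine (eq_of_le_of_card_ge hP ?_).symm
    set Q := (P : Subgroup ↥K).map K.subtype
    have hQH : Q ≤ H := (map_subtype_le _).trans (map_subtype_le _)
    have hAle : d.s.subA ≤ H := hAH
    obtain ⟨h, hh, hhQ⟩ := d.into_A hII hr hr4 (X := H) le_rfl hAH (P.isPGroup'.map K.subtype) hQH
    have hle : cI h Q ≤ d.subV := by
      rintro _ ⟨y, hy, rfl⟩
      obtain ⟨y0, hy0, rfl⟩ := (map_subtype_le _ hy : y ∈ K)
      refine mem_subgroupOf.1 (hint ((⟨h, hh⟩ : ↥H) * y0 * (⟨h, hh⟩ : ↥H)⁻¹) ?_ (hK0n.conj_mem _ hy0 _))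
      rw [hPAe]
      exact mem_subgroupOf.2 (hhQ (mem_cI hy))
    show Nat.card ↥(P : Subgroup ↥K) ≤ Nat.card ↥(d.subV.subgroupOf K)
    rw [Nat.card_congr (subgroupOfEquivOfLe hVK).toEquiv, ← card_map_of_injective K.subtype_injective, ← card_cI h]
    exact card_le_of_le hle
  refine ⟨K, P, map_subtype_le _, hVK, hPe, fun x hxr hxo => ?_, fun x hx => ?_⟩
  · exact ⟨⟨x, mem_centralizer_singleton_iff.2 hxr⟩, hodd _ (by rw [Subgroup.orderOf_mk]; exact hxo), rfl⟩
  · refine le_OG (H := H) ((OG_le K).trans (map_subtype_le _)) (OG_odd K) (fun g hg y hy => ?_) hx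
    -- the core of a normal subgroup is invariant
    have hKn : ∀ w ∈ K, g * w * g⁻¹ ∈ K := by
      rintro _ ⟨w, hw, rfl⟩
      exact ⟨⟨g, hg⟩ * w * ⟨g, hg⟩⁻¹, hK0n.conj_mem w hw _, rfl⟩
    have hKn' : ∀ w ∈ K, g⁻¹ * w * g ∈ K := by
      rintro _ ⟨w, hw, rfl⟩
      exact ⟨⟨g, hg⟩⁻¹ * w * ⟨g, hg⟩, by simpa using hK0n.conj_mem w hw (⟨g, hg⟩ : ↥H)⁻¹, rfl⟩
    refine le_OG (M := cI g (OG K)) ?_ (by rw [card_cI]; exact OG_odd K) ?_ (mem_cI hy)
    · rintro _ ⟨w, hw, rfl⟩; exact hKn w (OG_le K hw)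
    · intro k hk w hw
      rw [mem_cI_iff] at hw ⊢
      rw [show g⁻¹ * (k * w * k⁻¹) * g = g⁻¹ * k * g * (g⁻¹ * w * g) * (g⁻¹ * k * g)⁻¹ by group]
      exact OG_conj (hKn' k hk) hw

/-- The signalizer at `z` meets the centralizer of an outer involution inside its core. -/
theorem key_z {r : Fin 128} (hr : inA1 r = true) (hr4 : inFour r = false) :
    θ d.z ⊓ centralizer ({d.s.φ r} : Set G) ≤ θ (d.s.φ r) := by
  haveI : Fact (Nat.Prime 2) := ⟨Nat.prime_two⟩
  obtain ⟨K, P, hKC, hVK, hP, hodd, hOK⟩ := d.exists_section hII hr hr4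
  haveI : (Cfsg.oddCore ↥K).Normal := Grp.pPrimeCore_isNormal
  set q := QuotientGroup.mk' (Cfsg.oddCore ↥K)
  set T : Sylow 2 (↥K ⧸ Cfsg.oddCore ↥K) := P.mapSurjective (QuotientGroup.mk'_surjective _)
  have hT : (T : Subgroup (↥K ⧸ Cfsg.oddCore ↥K)) = (d.subV.subgroupOf K).map q := by rw [Sylow.coe_mapSurjective, hP]
  have hinj : ∀ v w : ↥K, (v : G) ∈ d.subV → (w : G) ∈ d.subV → q v = q w → v = w := by
    intro v w hv hw e
    refine mul_inv_eq_one.1 (Subtype.ext ?_)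
    exact two_odd_eq_one d.S.isPGroup' (OG_odd K) (mul_mem (d.subE_le_S (d.subV_le_subE hv))
      (inv_mem (d.subE_le_S (d.subV_le_subE hw)))) (mem_OG.2 ((QuotientGroup.eq_one_iff (N := Cfsg.oddCore ↥K) (v * w⁻¹)).1
        (show q (v * w⁻¹) = 1 by rw [map_mul, map_inv, e, mul_inv_cancel])))
  set zK : ↥K := ⟨d.z, hVK d.z_mem_V⟩
  have hmemT : ∀ v : ↥K, (v : G) ∈ d.subV → q v ∈ (T : Subgroup (↥K ⧸ Cfsg.oddCore ↥K)) := fun v hv => by
    rw [hT]; exact ⟨v, mem_subgroupOf.2 hv, rfl⟩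
  have hne : ∀ v : ↥K, (v : G) ∈ d.subV → (v : G) ≠ 1 → q v ≠ 1 := fun v hv hv1 e => hv1 (congrArg Subtype.val
    (hinj v 1 hv (by rw [OneMemClass.coe_one]; exact one_mem _) (by rw [e, map_one])) :)
  have h4 : Nat.card ↥(T : Subgroup (↥K ⧸ Cfsg.oddCore ↥K)) = 4 := by
    have hV4 : Nat.card ↥d.subV = 4 := d.s.card_sub.trans card_four
    rw [← hV4]
    refine (Nat.card_eq_of_bijective (fun v : ↥d.subV => (⟨q ⟨v, hVK v.2⟩, hmemT _ v.2⟩ : ↥(T : Subgroup (↥K ⧸ Cfsg.oddCore ↥K))))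
      ⟨fun v w e => Subtype.ext (congrArg Subtype.val (hinj _ _ v.2 w.2 (congrArg Subtype.val e)) :), ?_⟩).symm
    rintro ⟨y, hy⟩
    rw [hT] at hy
    obtain ⟨v, hv, rfl⟩ := hy
    exact ⟨⟨v, mem_subgroupOf.1 hv⟩, rfl⟩
  have hsq : ∀ y ∈ (T : Subgroup (↥K ⧸ Cfsg.oddCore ↥K)), y * y = 1 := by
    intro y hy
    rw [hT] at hy
    obtain ⟨v, hv, rfl⟩ := hy
    rw [← map_mul, show v * v = 1 from Subtype.ext (d.V_sq (mem_subgroupOf.1 hv)), map_one]
  -- odd elements centralising an involution come from the signalizer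
  have hlift : ∀ (v : ↥K), (v : G) ∈ d.subV → (v : G) ≠ 1 → ∀ c, Odd (orderOf c) → c * q v = q v * c →
      ∃ g : ↥K, (g : G) ∈ θ (v : G) ∧ q g = c := by
    intro v hv hv1 c hc hcv
    obtain ⟨g0, rfl⟩ := QuotientGroup.mk'_surjective _ c
    have hv2 : v * v = 1 := Subtype.ext (d.V_sq hv)
    have ho : g0⁻¹ * v * g0 * v ∈ Cfsg.oddCore ↥K := by
      refine (QuotientGroup.eq_one_iff _).1 ?_
      show q (g0⁻¹ * v * g0 * v) = 1
      rw [map_mul, map_mul, map_mul, map_inv, mul_assoc _ (q v) (q g0), ← hcv, ← mul_assoc, inv_mul_cancel, one_mul,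
        ← map_mul, hv2, map_one]
    obtain ⟨u, hu, hgu⟩ := exists_mul_comm hv2
      ((Nat.Coprime.odd_of_right Grp.pPrimeCore_coprime).of_dvd_nat (Subgroup.orderOf_dvd_natCard _ ho))
    have hqu : q (g0 * u) = q g0 := by
      rw [map_mul, show q u = 1 from (QuotientGroup.eq_one_iff u).2 (zpowers_le.2 ho hu), mul_one]
    obtain ⟨k, hko, hke⟩ := lift_odd q (g := g0 * u) (by rw [hqu]; exact hc)
    refine ⟨(g0 * u) ^ k, d.mem_θ_odd hr hr4 hv hv1 (by rw [Subgroup.orderOf_coe]; exact hko) ?_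
      (mem_centralizer_singleton_iff.1 (hKC ((g0 * u) ^ k).2)), hke.trans hqu⟩
    exact congrArg Subtype.val ((show Commute (g0 * u) v from hgu).pow_left k).eq
  intro x hx
  have hxo := odd_of_mem_θ hx.1
  set xK : ↥K := ⟨x, hodd x (mem_centralizer_singleton_iff.1 hx.2) hxo⟩
  refine hOK (mem_OG.2 ((QuotientGroup.eq_one_iff (N := Cfsg.oddCore ↥K) xK).1 ?_) : (xK : G) ∈ _)
  refine quot_core Grp.pPrimeCore_quotient_eq_bot T h4 hsq (fun l hl hl2 => ?_)
    (hmemT zK d.z_mem_V) (hne zK d.z_mem_V d.z_ne_one) ?_ ?_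
  · haveI : Fact l.Prime := ⟨hl⟩
    obtain ⟨u, hu, w, hw, hu1, hw1, huw, X, hX, hAX, hSu, hSw⟩ := d.exists_good hII (l := l) hl2
    refine ⟨_, hmemT ⟨u, hVK hu⟩ hu, _, hmemT ⟨w, hVK hw⟩ hw, hne _ hu hu1, hne _ hw hw1,
      fun e => huw (congrArg Subtype.val (hinj _ _ hu hw e) :),
      ((X ⊓ centralizer ({d.s.φ r} : Set G)).subgroupOf K).map q,
      ((hX.to_le inf_le_left).comap_of_injective _ K.subtype_injective).map _, ?_⟩
    intro v hv c hc hcv
    obtain ⟨v', hv', hv'V, hv'1, hSv, rfl⟩ : ∃ (v' : G) (h : v' ∈ K), v' ∈ d.subV ∧ v' ≠ 1 ∧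
        Grp.IsSylowIn l (X ⊓ θ v') (θ v') ∧ v = q ⟨v', h⟩ := by
      rcases hv with e | e
      · exact ⟨u, hVK hu, hu, hu1, hSu, e⟩
      · exact ⟨w, hVK hw, hw, hw1, hSw, e⟩
    obtain ⟨g, hgθ, hge⟩ := hlift ⟨v', hv'⟩ hv'V hv'1 c (hc ▸ hl.odd_of_ne_two hl2) hcv
    obtain ⟨k, ⟨a, ha⟩, hke⟩ := lift_primary q (g := g) hl (by rw [hge]; exact hc)
    set y : G := ((g ^ k : ↥K) : G)
    have hyθ : y ∈ θ v' := by
      show ((g ^ k : ↥K) : G) ∈ θ v'
      rw [Subgroup.coe_pow]; exact pow_mem hgθ k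
    have hyl : IsPGroup l ↥(zpowers y) := IsPGroup.of_card (n := a) (by
      rw [Nat.card_zpowers, Subgroup.orderOf_coe, ha])
    set R := zpowers (d.s.φ r)
    have hR2 : IsPGroup 2 ↥R := Invol.isPGroup_zpowers (n := 1) (by
      rw [pow_one]
      exact d.s.orderOf_two.2 (A_code r hr fun e => by rw [e, inFour_closed.1] at hr4; exact Bool.noConfusion hr4))
    have hcop : (Nat.card ↥R).Coprime (Nat.card ↥(θ v')) := by
      obtain ⟨i, hi⟩ := IsPGroup.iff_card.1 hR2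
      rw [hi]
      exact Nat.Coprime.pow_left i (θ_odd v').coprime_two_left
    have hrA : d.s.φ r ∈ d.s.subA := d.s.mem_sub.2 hr
    have hRθ : R ≤ normalizer (θ v' : Set G) :=
      zpowers_le.2 (d.E_le_Nθ hv'V (d.subA_le_subE hrA))
    have hyr : Commute y (d.s.φ r) := mem_centralizer_singleton_iff.1 (hKC (g ^ k).2)
    have hRy : R ≤ normalizer ((zpowers y : Subgroup G) : Set G) := zpowers_le.2 (mem_normalizer_fintype fun b hb => by
      obtain ⟨i, rfl⟩ := mem_zpowers_iff.1 hb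
      rw [← (hyr.zpow_left i).eq, mul_inv_cancel_right]
      exact zpow_mem (mem_zpowers y) i)
    have hsol : Group.IsSolvable ↥R ∨ Group.IsSolvable ↥(θ v') := Or.inr (Invol.Bender.solvable_of_odd (θ_odd v'))
    obtain ⟨Y0, hY0, hRY0, hyY0⟩ := Grp.exists_invariant_sylow_ge R (θ v') hRθ hcop hsol
      (zpowers_le.2 hyθ) hyl hRy
    have hRX : R ≤ normalizer ((X ⊓ θ v' : Subgroup G) : Set G) := zpowers_le.2 (mem_normalizer_fintype fun b hb =>
      ⟨(mem_normalizer_iff.1 (hAX hrA) b).1 hb.1, θ_normal (d.s.comm_subA hrA (d.subV_le_subA hv'V)) hb.2⟩)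
    obtain ⟨e, ⟨heθ, heR⟩, hee⟩ := Grp.invariant_sylow_conj R (θ v') hRθ hcop hsol hY0 hSv hRY0 hRX
    rw [cI_eq_smul] at hee
    have her : Commute e (d.s.φ r) := (mem_centralizer_iff.1 heR _ (mem_zpowers _)).symm
    set eK : ↥K := ⟨e, hodd e her.eq (odd_of_mem_θ heθ)⟩
    refine ⟨q eK, ?_, ?_⟩
    · rw [← map_mul, ← map_mul]
      exact congrArg q (Subtype.ext (comm_of_mem_θ heθ))
    · refine ⟨eK * g ^ k * eK⁻¹, mem_subgroupOf.2 ⟨?_, ?_⟩, ?_⟩
      · have := mem_cI (g := e) (hyY0 (mem_zpowers y))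
        rw [hee] at this
        exact this.1
      · exact mem_centralizer_singleton_iff.2 ((her.mul_left hyr).mul_left her.inv_left).eq
      · rw [map_mul, map_mul, map_inv, hke, hge]
  · exact hxo.of_dvd_nat ((orderOf_map_dvd q xK).trans (by rw [Subgroup.orderOf_mk]))
  · show q xK * q zK = q zK * q xK
    rw [← map_mul, ← map_mul]
    exact congrArg q (Subtype.ext (comm_of_mem_θ hx.1))

end Two

end Setting

end Cfsg.Agent.Spor.JTwoType
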