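import Cfsg.Agent.Lib.Spor.JTwoType.Classes
import Cfsg.Agent.Lib.Local.CoreConsumers.Main
import Cfsg.Agent.Lib.Invol.Core2.ClassCentral
import Cfsg.Agent.S0217

/-!
# A balanced signalizer on the elementary subgroup is trivial
-/

set_option autoImplicit false
set_option linter.unusedSectionVars false
set_option linter.style.haveILetI false
set_option maxRecDepth 100000

namespace Cfsg.Agent.Spor.JTwoType

open Subgroup

universe u

/-- The four group through `z` and `a0`. -/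
def inFourOne (n : Fin 128) : Bool := n == 0 || n == 16 || n == 1 || n == 17

theorem inFourOne_closed : inFourOne 0 = true ∧
    (∀ n m, inFourOne n = true → inFourOne m = true → inFourOne (mulM n m) = true) ∧
    (Finset.univ.filter fun n : Fin 128 => inFourOne n = true).card = 4 ∧
    ∀ n, inFourOne n = true → mulM n n = 0 := by
  decide +kernel

theorem inFour_closed : inFour 0 = true ∧
    (∀ n m, inFour n = true → inFour m = true → inFour (mulM n m) = true) ∧
    ∀ n, inFour n = true → mulM n n = 0 := by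
  decide +kernel

theorem third_coset : ∀ r : Fin 128, inA1 r = true → inFour r = false →
    ∃ b : Fin 128, inA1 b = true ∧ inFour b = false ∧ inA1 (mulM r b) = true ∧ inFour (mulM r b) = false := by
  decide +kernel

theorem seventeen : inFour 17 = false ∧ isInv 17 = true ∧ mulM 1 16 = 17 ∧ inFour 16 = true ∧ inFour 15 = true ∧
    inFour 31 = true := by decide +kernel

variable {G : Type u} [Group G] [Finite G]

/-- A group generated by two commuting involutions is noncyclic. -/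
theorem not_cyclic_four {B : Subgroup G} (hsq : ∀ x ∈ B, x * x = 1) (h4 : 4 ≤ Nat.card ↥B) : ¬ IsCyclic ↥B := by
  intro hc
  obtain ⟨b, hb⟩ := hc.exists_ofOrder_eq_natCard
  have : orderOf b ≤ 2 := Nat.le_of_dvd two_pos (orderOf_dvd_of_pow_eq_one (Subtype.ext (by
    rw [Subgroup.coe_pow, pow_two, hsq _ b.2]; rfl)))
  omega

theorem commute_of_sq {B : Subgroup G} (hsq : ∀ x ∈ B, x * x = 1) : IsMulCommutative ↥B :=
  ⟨⟨fun a b => Subtype.ext (by
    calc (a : G) * b = ((a : G) * b)⁻¹ := eq_inv_of_mul_eq_one_left (hsq _ (mul_mem a.2 b.2))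
      _ = (b : G)⁻¹ * (a : G)⁻¹ := mul_inv_rev _ _
      _ = _ := by rw [inv_eq_of_mul_eq_one_right (hsq _ b.2), inv_eq_of_mul_eq_one_right (hsq _ a.2)]; rfl)⟩⟩

namespace Setting

variable (d : Setting G)

/-- Balance on the elementary subgroup. -/
def Bal : Prop :=
  ∀ a ∈ d.s.subA, a ≠ 1 → ∀ b ∈ d.s.subA, b ≠ 1 → θ a ⊓ centralizer ({b} : Set G) ≤ θ b

/-- The closure of the signalizer. -/
def W : Subgroup G := ⨆ a : {a : G // a ∈ d.s.subA ∧ a ≠ 1}, θ (a : G)

/-- Its normalizer. -/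
def M : Subgroup G := normalizer (d.W : Set G)

/-- The central four group. -/
def subV : Subgroup G := d.s.sub inFour inFour_closed.1 inFour_closed.2.1

theorem subV_le_subA : d.subV ≤ d.s.subA := by
  rintro _ ⟨n, hn, rfl⟩
  exact d.s.mem_sub.2 (inA1_prime n hn).2

theorem ne_one_φ {n : Fin 128} (hn : n ≠ 0) : d.s.φ n ≠ 1 := fun e => hn (d.s.eq_one.1 e)

theorem θ_le_W {a : G} (ha : a ∈ d.s.subA) (ha1 : a ≠ 1) : θ a ≤ d.W :=
  le_iSup (fun a : {a : G // a ∈ d.s.subA ∧ a ≠ 1} => θ (a : G)) ⟨a, ha, ha1⟩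

theorem map_W_le {g : G} (hg : ∀ a ∈ d.s.subA, a ≠ 1 → g * a * g⁻¹ ∈ d.s.subA) : cI g d.W ≤ d.W := by
  rw [cI, map_le_iff_le_comap, W]
  refine iSup_le fun a x hx => ?_
  exact d.θ_le_W (hg _ a.2.1 a.2.2) (fun e => a.2.2 (conj_eq_one_iff.1 e)) (θ_conj hx)

theorem NA_le {g : G} (hg : g ∈ normalizer (d.s.subA : Set G)) : g ∈ d.M :=
  mem_normalizer_of_cI (d.map_W_le fun a ha _ => (mem_normalizer_iff.1 hg a).1 ha)

section Balanced

variable {d}
variable (hbal : d.Bal)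
include hbal

theorem W_spec : Odd (Nat.card ↥d.W) ∧
    ∀ a ∈ d.s.subA, a ≠ 1 → d.W ⊓ centralizer ({a} : Set G) = θ a := by
  haveI : Fact (Nat.Prime 2) := ⟨Nat.prime_two⟩
  have h := S0217.result (p := 2) d.s.subA (fun a ha b hb => d.s.comm_subA ha hb)
    (fun a ha => by rw [pow_two, d.s.sq_subA ha]) (by rw [d.s.card_subA]; norm_num)
    (fun g => θ g) (fun a _ _ => θ_le a)
    (fun a _ _ h' => (Nat.not_even_iff_odd.2 (θ_odd a)) (even_iff_two_dvd.2 h'))
    (fun a ha _ b hb x hx => θ_normal (d.s.comm_subA hb ha) hx)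
    (fun a _ _ => Invol.Bender.solvable_of_odd (θ_odd a)) hbal
  refine ⟨?_, fun a ha ha1 => h.2 a ha ha1⟩
  rw [W, ← Nat.not_even_iff_odd, even_iff_two_dvd]
  exact h.1

theorem W_inf {a : G} (ha : a ∈ d.s.subA) (ha1 : a ≠ 1) : d.W ⊓ centralizer ({a} : Set G) = θ a :=
  (W_spec hbal).2 a ha ha1

theorem W_gen (B : Subgroup G) (hB : B ≤ d.M) (hB2 : IsPGroup 2 ↥B) (hsq : ∀ x ∈ B, x * x = 1)
    (h4 : 4 ≤ Nat.card ↥B) : (⨆ a ∈ {a : G | a ∈ B ∧ a ≠ 1}, d.W ⊓ centralizer ({a} : Set G)) = d.W := by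
  haveI := commute_of_sq hsq
  haveI : Fact (Nat.Prime 2) := ⟨Nat.prime_two⟩
  obtain ⟨i, hi⟩ := IsPGroup.iff_card.1 hB2
  exact Grp.generated_by_centralizers B d.W (not_cyclic_four hsq h4) hB
    (hi ▸ Nat.Coprime.pow_left i (W_spec hbal).1.coprime_two_left)

theorem subA_le_M : d.s.subA ≤ d.M := fun _ ha => d.NA_le (le_normalizer ha)

/-- The normalizer of the central four group lies in `M`. -/
theorem NV_le {g : G} (hg : cI g d.subV ≤ d.subV) : g ∈ d.M := by
  refine mem_normalizer_of_cI ?_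
  have hgen := W_gen hbal d.subV (d.subV_le_subA.trans (subA_le_M hbal)) (d.S.isPGroup'.to_le d.s.sub_le)
    (fun x hx => d.s.sq_subA (d.subV_le_subA hx)) (by rw [subV, d.s.card_sub, card_four])
  nth_rewrite 1 [← hgen]
  rw [cI, map_le_iff_le_comap]
  refine iSup₂_le fun v hv x hx => ?_
  rw [W_inf hbal (d.subV_le_subA hv.1) hv.2] at hx
  exact d.θ_le_W (d.subV_le_subA (hg (mem_cI hv.1))) (fun e => hv.2 (conj_eq_one_iff.1 e)) (θ_conj hx)

theorem S_le_M : (d.S : Subgroup G) ≤ d.M := by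
  intro x hx
  obtain ⟨n, rfl⟩ := d.s.surj x hx
  refine NV_le hbal ?_
  rintro _ ⟨_, ⟨m, hm, rfl⟩, rfl⟩
  show d.s.φ n * d.s.φ m * (d.s.φ n)⁻¹ ∈ _
  rw [d.s.conj]
  exact d.s.mem_sub.2 (four_conj m hm n)

theorem θ_z_le : θ d.z ≤ d.M :=
  (d.θ_le_W (d.subV_le_subA (d.s.mem_sub.2 seventeen.2.2.2.1)) (d.ne_one_φ (by decide))).trans le_normalizer

theorem inf_one_le {n : Fin 128} (hn : n = 1 ∨ n = 17) :
    d.W ⊓ centralizer ({d.s.φ n} : Set G) ≤ θ (d.s.φ n) := by
  obtain ⟨k, hk16, hk1⟩ := d.s.exists_fusion d.no_two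
  have hfacts : isInv n = true ∧ inFour n = false ∧ IsConj d.z (d.s.φ n) := by
    rcases hn with rfl | rfl
    · exact ⟨cent_one.2.2.1, cent_one.2.2.2.2.1, d.z_conj_one⟩
    · refine ⟨seventeen.2.1, seventeen.1, (d.z_conj_c.trans d.c_cz).trans (_root_.isConj_iff.2 ⟨k, ?_⟩ : IsConj (d.s.φ 17) (d.s.φ 31)).symm⟩
      rw [← seventeen.2.2.1, ← d.s.mul, ← pair_codes.2.2.1, ← d.s.mul (n := 15), ← hk1]
      conv_rhs => rw [← hk16]
      group
  obtain ⟨h1, h4, hz⟩ := hfacts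
  refine d.odd_le_θ hz inf_le_right ((W_spec hbal).1.of_dvd_nat (card_dvd_of_le inf_le_left)) (d.s.centS_pgroup n)
    (d.s.centS_le_cent n) ?_ (Or.inr ?_)
  · intro b hb
    refine mem_normalizer_fintype fun x hx => ⟨(mem_normalizer_iff.1 (S_le_M hbal (d.s.sub_le hb)) x).1 hx.1,
      mem_centralizer_singleton_iff.2 ?_⟩
    have hbn := d.s.centS_comm n b hb
    have hxn := mem_centralizer_singleton_iff.1 hx.2
    have hb' : Commute (d.s.φ n) b := hbn
    exact ((hb'.symm.mul_left hxn).mul_left hb'.symm.inv_left).eq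
  · rw [d.s.card_centS_small h1 h4]
    set F := Finset.univ.filter fun m : Fin 128 => (commM n m && (mulM m m == 0 || mulM m m == n)) = true
    have hF : F.card = 4 := by
      rcases hn with rfl | rfl
      exacts [one_small.1, one_small.2.1]
    calc 4 * {x : G | x ∈ d.s.centS n ∧ (x * x = 1 ∨ x * x = d.s.φ n)}.ncard ≤ 4 * (d.s.φ '' ↑F).ncard := by
          refine Nat.mul_le_mul_left 4 (Set.ncard_le_ncard ?_ (Set.toFinite _))
          rintro x ⟨⟨m, hm, rfl⟩, hsq⟩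
          refine ⟨m, ?_, rfl⟩
          rw [Finset.mem_coe, Finset.mem_filter, Bool.and_eq_true, Bool.or_eq_true, beq_iff_eq, beq_iff_eq]
          refine ⟨Finset.mem_univ _, hm, ?_⟩
          rw [d.s.mul, d.s.inj.eq_iff, d.s.eq_one] at hsq
          exact hsq
      _ = 16 := by rw [Set.ncard_image_of_injective _ d.s.inj, Set.ncard_coe_finset, hF]

/-- The centralizer of the central involution lies in `M`. -/
theorem C_le_M : d.C ≤ d.M := by
  obtain ⟨k, hk16, hk1⟩ := d.s.exists_fusion d.no_two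
  have hkC : k ∈ d.C := mem_centralizer_singleton_iff.2 (mul_inv_eq_iff_eq_mul.1 hk16)
  have hkM : k ∈ d.M := by
    refine mem_normalizer_of_cI ?_
    set B := d.s.sub inFourOne inFourOne_closed.1 inFourOne_closed.2.1
    have hgen := W_gen hbal B (d.s.sub_le.trans (S_le_M hbal)) (d.S.isPGroup'.to_le d.s.sub_le)
      (by rintro _ ⟨n, hn, rfl⟩; exact d.s.sq.2 (inFourOne_closed.2.2.2 n hn))
      (by rw [d.s.card_sub, inFourOne_closed.2.2.1])
    nth_rewrite 1 [← hgen]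
    rw [cI, map_le_iff_le_comap]
    refine iSup₂_le fun v hv x hx => ?_
    obtain ⟨⟨n, hn, rfl⟩, hn1⟩ := hv
    have hV : ∀ m, inFour m = true → m ≠ 0 → θ (d.s.φ m) ≤ d.W := fun m hm hm0 =>
      d.θ_le_W (d.subV_le_subA (d.s.mem_sub.2 hm)) (d.ne_one_φ hm0)
    have hn' : n = 0 ∨ n = 16 ∨ n = 1 ∨ n = 17 := by simpa [inFourOne, or_assoc] using hn
    show k * x * k⁻¹ ∈ d.W
    rcases hn' with rfl | rfl | rfl | rfl
    · exact absurd d.s.one hn1
    · rw [W_inf hbal (d.subV_le_subA (d.s.mem_sub.2 seventeen.2.2.2.1)) hn1] at hx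
      have := θ_conj (g := k) hx
      rw [hk16] at this
      exact hV 16 seventeen.2.2.2.1 (by decide) this
    · have := θ_conj (g := k) (inf_one_le hbal (Or.inl rfl) hx)
      rw [hk1] at this
      exact hV 15 seventeen.2.2.2.2.1 (by decide) this
    · have := θ_conj (g := k) (inf_one_le hbal (Or.inr rfl) hx)
      rw [show k * d.s.φ 17 * k⁻¹ = d.s.φ 31 by
        rw [← seventeen.2.2.1, ← d.s.mul, ← pair_codes.2.2.1, ← d.s.mul (n := 15), ← hk1]
        conv_rhs => rw [← hk16]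
        group] at this
      exact hV 31 seventeen.2.2.2.2.2 (by decide) this
  refine d.C_le_of (θ_z_le hbal) (S_le_M hbal) (g := ⟨k, hkC⟩) hkM ?_
  intro h4
  obtain ⟨o, ho, m, hm, e⟩ := d.pi_spec ⟨k, hkC⟩ 0
  rw [show toM (sv 0) = (1 : Fin 128) from rfl, show ((⟨k, hkC⟩ : ↥d.C) : G) = k from rfl, hk1] at e
  obtain ⟨e1, -⟩ := d.unique_code ho e
  have key : ∀ j : Fin 5, (toM (sv j) = 15 ∨ mulM (toM (sv j)) 16 = 15) → j = 4 := by decide +kernel
  have h0 := key _ (hm.imp (fun h => h.symm.trans e1.symm) fun h => h.symm.trans e1.symm)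
  exact absurd ((d.pi ⟨k, hkC⟩).injective (h0.trans h4.symm)) (by decide)

/-- Every conjugate of `z` in the Sylow subgroup is one inside `M`. -/
theorem exists_M_conj {n : Fin 128} (hn : isInv n = true) (hz : IsConj d.z (d.s.φ n)) :
    ∃ m ∈ d.M, m * d.z * m⁻¹ = d.s.φ n := by
  have hS := S_le_M hbal
  obtain ⟨α, hα1, hα2, -, hαA⟩ := d.exists_alpha
  have hαM := d.NA_le hαA
  obtain ⟨k, hk16, hk1⟩ := d.s.exists_fusion d.no_two
  have hkM : k ∈ d.M := C_le_M hbal (mem_centralizer_singleton_iff.2 (mul_inv_eq_iff_eq_mul.1 hk16))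
  have houter : ∀ p, inA1 p = true → IsConj d.z (d.s.φ p) → ∃ m ∈ d.M, m * d.z * m⁻¹ = d.s.φ p := by
    intro p hp h
    obtain ⟨g, hg, hge⟩ := d.to_z hp h
    exact ⟨g⁻¹, inv_mem (d.NA_le hg), by rw [← hge]; group⟩
  rcases inv_classify n hn with e | e | e | ⟨r, hr⟩ | ⟨h1, -⟩ | ⟨h1, -⟩
  · exact ⟨1, one_mem _, by rw [e]; group⟩
  · exact e ▸ ⟨α, hαM, hα1⟩
  · refine e ▸ ⟨α * α, mul_mem hαM hαM, ?_⟩
    rw [show α * α * d.z * (α * α)⁻¹ = α * (α * d.z * α⁻¹) * α⁻¹ by group, hα1, hα2]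
  · refine ⟨d.s.φ r * k⁻¹ * α, mul_mem (mul_mem (hS (d.s.mem r)) (inv_mem hkM)) hαM, ?_⟩
    rw [show d.s.φ r * k⁻¹ * α * d.z * (d.s.φ r * k⁻¹ * α)⁻¹ =
      d.s.φ r * (k⁻¹ * (α * d.z * α⁻¹) * k) * (d.s.φ r)⁻¹ by group, hα1, ← hk1, ← hr, ← d.s.conj]
    group
  · exact houter n h1 hz
  · obtain ⟨m, hm, hme⟩ := houter _ h1 (hz.trans (_root_.isConj_iff.2 ⟨d.s.φ 1, d.s.conj 1 n⟩))
    refine ⟨(d.s.φ 1)⁻¹ * m, mul_mem (inv_mem (hS (d.s.mem 1))) hm, ?_⟩
    rw [show (d.s.φ 1)⁻¹ * m * d.z * ((d.s.φ 1)⁻¹ * m)⁻¹ = (d.s.φ 1)⁻¹ * (m * d.z * m⁻¹) * d.s.φ 1 by group, hme,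
      ← d.s.conj]
    group

theorem exists_into_M {R : Subgroup G} (hR : IsPGroup 2 ↥R) (hRM : R ≤ d.M) :
    ∃ m ∈ d.M, cI m R ≤ (d.S : Subgroup G) := by
  obtain ⟨m, hm, P, hP, -, hSP, hRP⟩ := align d.M R (d.S : Subgroup G) hR hRM d.S.isPGroup' (S_le_M hbal)
  exact ⟨m, hm, (d.S.3 hP hSP) ▸ hRP⟩

/-- A conjugate of `z` in `M` determines the conjugating element modulo `M`. -/
theorem mem_M_of_conj {g : G} (hg : g * d.z * g⁻¹ ∈ d.M) : g ∈ d.M := by
  have h2 : orderOf (g * d.z * g⁻¹) = 2 := by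
    rw [show g * d.z * g⁻¹ = MulAut.conj g d.z from rfl, (MulAut.conj g).orderOf_eq]
    exact d.s.orderOf_two.2 cent_one.2.2.2.2.2.2.2.1
  obtain ⟨m, hm, hmR⟩ := exists_into_M hbal (Invol.isPGroup_zpowers (n := 1) (by rw [h2, pow_one]))
    (zpowers_le.2 hg)
  obtain ⟨n, hn⟩ := d.s.surj _ (hmR (mem_cI (mem_zpowers _)))
  have e : (m * g) * d.z * (m * g)⁻¹ = d.s.φ n := by rw [hn]; group
  obtain ⟨m', hm', hme⟩ := exists_M_conj hbal (d.s.isInv_of_conj cent_one.2.2.2.2.2.2.2.1 e)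
    (_root_.isConj_iff.2 ⟨_, e⟩)
  have hC : m'⁻¹ * m * g ∈ d.C := mem_centralizer_singleton_iff.2 (mul_inv_eq_iff_eq_mul.1 (by
    calc m'⁻¹ * m * g * d.z * (m'⁻¹ * m * g)⁻¹ = m'⁻¹ * (m * g * d.z * (m * g)⁻¹) * m' := by group
      _ = m'⁻¹ * (m' * d.z * m'⁻¹) * m' := by rw [e, hme]
      _ = _ := by group))
  have := mul_mem (mul_mem (inv_mem hm) hm') (C_le_M hbal hC)
  simpa [mul_assoc] using this

/-- The centraliser of a conjugate of `z` in `M` lies in `M`. -/
theorem cent_le_M {y : G} (hy : y ∈ d.M) (hz : IsConj d.z y) : centralizer ({y} : Set G) ≤ d.M := by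
  obtain ⟨g, rfl⟩ := _root_.isConj_iff.1 hz
  have hgM := mem_M_of_conj hbal hy
  intro c hc
  have h1 := mem_centralizer_singleton_iff.1 hc
  have hC : g⁻¹ * c * g ∈ d.C := mem_centralizer_singleton_iff.2 (by
    calc g⁻¹ * c * g * d.z = g⁻¹ * (c * (g * d.z * g⁻¹)) * g := by group
      _ = g⁻¹ * (g * d.z * g⁻¹ * c) * g := by rw [h1]
      _ = _ := by group)
  have := mul_mem (mul_mem hgM (C_le_M hbal hC)) (inv_mem hgM)
  simpa [mul_assoc] using this

/-- The centraliser of a four group of the elementary subgroup lies in `M`. -/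
theorem cent_pair_le {a b x : G} (ha : a ∈ d.s.subA) (hb : b ∈ d.s.subA) (ha1 : a ≠ 1) (hb1 : b ≠ 1) (hab : a ≠ b)
    (hxa : x * a = a * x) (hxb : x * b = b * x) : x ∈ d.M := by
  set B := Subgroup.closure ({a, b} : Set G)
  have hBA : B ≤ d.s.subA := (closure_le _).2 (by rintro _ (rfl | rfl) <;> assumption)
  have haB : a ∈ B := subset_closure (Or.inl rfl)
  have hbB : b ∈ B := subset_closure (Or.inr rfl)
  have hsq : ∀ y ∈ B, y * y = 1 := fun y hy => d.s.sq_subA (hBA hy)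
  have hab1 : a * b ≠ 1 := fun e => hab (by
    rw [eq_inv_of_mul_eq_one_left e, inv_eq_of_mul_eq_one_right (hsq b hbB)])
  have h4 : 4 ≤ Nat.card ↥B := by
    have hsub : ({1, a, b, a * b} : Set G) ⊆ B := by
      rintro _ (rfl | rfl | rfl | rfl)
      exacts [one_mem _, haB, hbB, mul_mem haB hbB]
    have h := Set.ncard_le_ncard hsub (Set.toFinite _)
    rw [Set.ncard_insert_of_notMem, Set.ncard_insert_of_notMem, Set.ncard_insert_of_notMem, Set.ncard_singleton] at h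
    · rwa [← Nat.card_coe_set_eq] at h
    · simp only [Set.mem_singleton_iff]
      exact fun e => ha1 (mul_eq_right.1 e.symm)
    · simp only [Set.mem_insert_iff, Set.mem_singleton_iff]
      rintro (e | e)
      exacts [hab e, hb1 (mul_eq_left.1 e.symm)]
    · simp only [Set.mem_insert_iff, Set.mem_singleton_iff]
      rintro (e | e | e)
      exacts [ha1 e.symm, hb1 e.symm, hab1 e.symm]
  have hxB : ∀ y ∈ B, x * y = y * x := fun y hy => by
    have : B ≤ centralizer ({x} : Set G) := (closure_le _).2 (by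
      rintro _ (rfl | rfl) <;> exact mem_centralizer_singleton_iff.2 (by first | exact hxa.symm | exact hxb.symm))
    exact (mem_centralizer_singleton_iff.1 (this hy)).symm
  refine mem_normalizer_of_cI ?_
  nth_rewrite 1 [← W_gen hbal B (hBA.trans (subA_le_M hbal)) (d.S.isPGroup'.to_le (hBA.trans d.s.sub_le)) hsq h4]
  rw [cI, map_le_iff_le_comap]
  refine iSup₂_le fun v hv y hy => ?_
  rw [W_inf hbal (hBA hv.1) hv.2] at hy
  exact d.θ_le_W (hBA hv.1) hv.2 (θ_normal (hxB v hv.1) hy)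

section NoOuter

variable (hII : ∀ n, inA1 n = true → inFour n = false → ¬ IsConj d.z (d.s.φ n))
include hII

omit hbal in
/-- The elementary subgroup is a maximal 2-subgroup centralising an outer involution. -/
theorem A_max {r : Fin 128} (hr : inA1 r = true) (hr4 : inFour r = false) {P : Subgroup G}
    (hP : IsPGroup 2 ↥P) (hPC : P ≤ centralizer ({d.s.φ r} : Set G)) (hAP : d.s.subA ≤ P) : d.s.subA = P := by
  obtain ⟨g, hg⟩ := conj_into d.S hP
  obtain ⟨n, hn⟩ := d.s.surj _ (hg (mem_cI (hAP (d.s.mem_sub.2 hr))))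
  have hr0 : r ≠ 0 := fun e => by rw [e, inFour_closed.1] at hr4; exact Bool.noConfusion hr4
  have hni : isInv n = true := d.s.isInv_of_conj (A_code r hr hr0) hn.symm
  have hn4 : inFour n = false := by
    by_contra h
    refine hII r hr hr4 ((d.z_conj_four (by simpa using h) fun e => ?_).trans
      (_root_.isConj_iff.2 ⟨g, hn.symm⟩ : IsConj (d.s.φ r) (d.s.φ n)).symm)
    rw [e] at hni
    revert hni
    decide +kernel
  refine Subgroup.eq_of_le_of_card_ge hAP ?_
  rw [d.s.card_subA, ← d.s.card_centS_small hni hn4, ← card_cI g P]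
  refine Subgroup.card_le_of_le (d.s.le_centS hg ?_)
  rw [hn]
  exact Shape.cI_centralizes fun b hb => (mem_centralizer_singleton_iff.1 (hPC hb)).symm

omit hbal in
/-- A 2-subgroup is conjugate into the elementary subgroup. -/
theorem into_A {r : Fin 128} (hr : inA1 r = true) (hr4 : inFour r = false) {X T : Subgroup G}
    (hX : X ≤ centralizer ({d.s.φ r} : Set G)) (hAX : d.s.subA ≤ X) (hT : IsPGroup 2 ↥T) (hTX : T ≤ X) :
    ∃ h ∈ X, cI h T ≤ d.s.subA := by
  obtain ⟨h, hh, P, hP, hPX, hAP, hTP⟩ := align X T d.s.subA hT hTX (d.S.isPGroup'.to_le d.s.sub_le) hAX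
  exact ⟨h, hh, (A_max hII hr hr4 hP (hPX.trans hX) hAP) ▸ hTP⟩

/-- The centraliser of an outer involution lies in `M`. -/
theorem cent_outer_le {r : Fin 128} (hr : inA1 r = true) (hr4 : inFour r = false) :
    centralizer ({d.s.φ r} : Set G) ≤ d.M := by
  intro g hg
  by_contra hgM
  obtain ⟨b, hb, hb4, hrb, hrb4⟩ := third_coset r hr hr4
  set rr := d.s.φ r
  set bb := d.s.φ b
  set y := g * d.z * g⁻¹
  have hrA : rr ∈ d.s.subA := d.s.mem_sub.2 hr
  have hbA : bb ∈ d.s.subA := d.s.mem_sub.2 hb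
  have hzA : d.z ∈ d.s.subA := d.subV_le_subA (d.s.mem_sub.2 seventeen.2.2.2.1)
  have hAC : d.s.subA ≤ centralizer ({rr} : Set G) := fun x hx =>
    mem_centralizer_singleton_iff.2 (d.s.comm_subA hx hrA)
  have hyC : y ∈ centralizer ({rr} : Set G) := mul_mem (mul_mem hg (hAC hzA)) (inv_mem hg)
  have hyr : y * rr = rr * y := mem_centralizer_singleton_iff.1 hyC
  have hyM : y ∉ d.M := fun h => hgM (mem_M_of_conj hbal h)
  have hzy : IsConj d.z y := _root_.isConj_iff.2 ⟨g, rfl⟩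
  have hz2 : d.z * d.z = 1 := d.s.sq_subA hzA
  have hy2 : y * y = 1 := by
    rw [show y * y = g * (d.z * d.z) * g⁻¹ by simp only [y]; group, hz2, mul_one, mul_inv_cancel]
  have hb2 : bb * bb = 1 := d.s.sq_subA hbA
  set q := bb * y with hq
  have hbq : bb * q = y := by rw [hq, ← mul_assoc, hb2, one_mul]
  have hbqb : ∀ j : ℕ, bb * q ^ j = (q ^ j)⁻¹ * bb := by
    intro j
    induction j with
    | zero => simp
    | succ j ih =>
      have h1 : bb * q = q⁻¹ * bb := by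
        rw [hbq, hq, mul_inv_rev, inv_eq_of_mul_eq_one_right hb2, inv_eq_of_mul_eq_one_right hy2, mul_assoc, hb2, mul_one]
      calc bb * q ^ (j + 1) = bb * q ^ j * q := by rw [pow_succ]; group
        _ = (q ^ j)⁻¹ * (bb * q) := by rw [ih]; group
        _ = (q ^ j)⁻¹ * (q⁻¹ * bb) := by rw [h1]
        _ = (q ^ (j + 1))⁻¹ * bb := by rw [pow_succ']; group
  have hconjpow : ∀ k : ℕ, IsConj (bb * q) (bb * q ^ (2 * k + 1)) := fun k => _root_.isConj_iff.2 ⟨(q ^ k)⁻¹, by
    rw [inv_inv]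
    calc (q ^ k)⁻¹ * (bb * q) * q ^ k = (q ^ k)⁻¹ * bb * (q * q ^ k) := by group
      _ = bb * q ^ k * (q * q ^ k) := by rw [hbqb]
      _ = bb * q ^ (2 * k + 1) := by rw [mul_assoc, ← pow_succ', ← pow_add]; congr 2; ring⟩
  have hqC : q ∈ centralizer ({rr} : Set G) := mul_mem (hAC hbA) hyC
  obtain ⟨m, hm⟩ : Even (orderOf q) := by
    by_contra hne
    obtain ⟨k, hk'⟩ := Nat.not_even_iff_odd.1 hne
    refine hII b hb hb4 (hzy.trans ?_)
    have h1 := hconjpow k
    rwa [hbq, ← hk', pow_orderOf_eq_one, mul_one] at h1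
  have hm0 : 0 < m := by have := orderOf_pos q; omega
  set c := q ^ m with hc
  have hc2 : c * c = 1 := by rw [hc, ← pow_add, ← hm, pow_orderOf_eq_one]
  have hc1 : c ≠ 1 := fun e => by
    have := Nat.le_of_dvd hm0 (orderOf_dvd_of_pow_eq_one e); omega
  have hcb : c * bb = bb * c := by rw [hc, hbqb m, ← hc, inv_eq_of_mul_eq_one_right hc2]
  have hcy : c * y = y * c := by
    rw [← hbq, ← mul_assoc, hcb, mul_assoc, mul_assoc, hc, ← pow_succ', ← pow_succ]
  have hcC : c ∈ centralizer ({rr} : Set G) := pow_mem hqC m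
  have hr0 : rr ≠ 1 := d.ne_one_φ fun e => by rw [e, inFour_closed.1] at hr4; exact Bool.noConfusion hr4
  have hb0 : bb ≠ 1 := d.ne_one_φ fun e => by rw [e, inFour_closed.1] at hb4; exact Bool.noConfusion hb4
  have hrb0 : rr ≠ bb := fun e => by
    rw [← d.s.inj e, (A1_facts r hr).1, inFour_closed.1] at hrb4; exact Bool.noConfusion hrb4
  have hcM : c ∈ d.M := cent_pair_le hbal hrA hbA hr0 hb0 hrb0 (mem_centralizer_singleton_iff.1 hcC) hcb
  by_cases hceq : c = rr
  · rcases Nat.even_or_odd m with ⟨k, hk'⟩ | ⟨k, hk'⟩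
    · set w := q ^ k
      have hw2 : w * w = rr := by rw [← hceq, hc, hk', pow_add]
      have hw4 : w ^ 2 ^ 2 = 1 := by
        rw [show (2 : ℕ) ^ 2 = 2 * 2 from rfl, pow_mul, pow_two, pow_two, hw2]
        exact d.s.sq_subA hrA
      haveI : Fact (Nat.Prime 2) := ⟨Nat.prime_two⟩
      obtain ⟨i, -, hi⟩ := (Nat.dvd_prime_pow Nat.prime_two).1 (orderOf_dvd_of_pow_eq_one hw4)
      obtain ⟨h, hh, hh'⟩ := into_A hII hr hr4 (X := centralizer ({rr} : Set G)) le_rfl hAC
        (Invol.isPGroup_zpowers hi) (zpowers_le.2 (pow_mem hqC k))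
      have h1 : h * w * h⁻¹ * (h * w * h⁻¹) = 1 := d.s.sq_subA (hh' (mem_cI (mem_zpowers w)))
      rw [show h * w * h⁻¹ * (h * w * h⁻¹) = h * (w * w) * h⁻¹ by group, hw2, conj_eq_one_iff] at h1
      exact hr0 h1
    · refine hII _ hrb hrb4 (hzy.trans ?_)
      have h1 := hconjpow k
      rw [hbq, ← hk', ← hc, hceq, d.s.comm_subA hbA hrA, d.s.mul] at h1
      exact h1
  obtain ⟨h, hh, hh'⟩ := into_A hII hr hr4 (X := centralizer ({rr} : Set G) ⊓ d.M) inf_le_left
    (le_inf hAC (subA_le_M hbal))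
    (Invol.isPGroup_zpowers (n := 1) (by rw [pow_one]; exact orderOf_eq_prime (by rw [pow_two, hc2]) hc1))
    (zpowers_le.2 ⟨hcC, hcM⟩)
  have hnA : h * c * h⁻¹ ∈ d.s.subA := hh' (mem_cI (mem_zpowers c))
  have hhr : h * rr * h⁻¹ = rr := by rw [mem_centralizer_singleton_iff.1 hh.1, mul_inv_cancel_right]
  have hy'r : h * y * h⁻¹ * rr = rr * (h * y * h⁻¹) := by
    conv_lhs => rw [← hhr]
    conv_rhs => rw [← hhr]
    calc _ = h * (y * rr) * h⁻¹ := by group
      _ = h * (rr * y) * h⁻¹ := by rw [hyr]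
      _ = _ := by group
  have hy'c : h * y * h⁻¹ * (h * c * h⁻¹) = h * c * h⁻¹ * (h * y * h⁻¹) := by
    calc _ = h * (y * c) * h⁻¹ := by group
      _ = h * (c * y) * h⁻¹ := by rw [hcy]
      _ = _ := by group
  have := cent_pair_le hbal hrA hnA hr0 (fun e => hc1 (conj_eq_one_iff.1 e))
    (fun e => hceq (by
      rw [← hhr] at e
      exact (mul_left_cancel (mul_right_cancel e)).symm)) hy'r hy'c
  have hhM : h ∈ d.M := hh.2
  exact hyM (by simpa [mul_assoc] using mul_mem (mul_mem (inv_mem hhM) this) hhM)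

end NoOuter

theorem M_eq_top : d.M = ⊤ := by
  by_contra htop
  haveI : Fact (Nat.Prime 2) := ⟨Nat.prime_two⟩
  have hS := S_le_M hbal
  have hN : normalizer ((d.S : Subgroup G) : Set G) ≤ d.M := fun g hg => by
    refine C_le_M hbal (mem_centralizer_singleton_iff.2 (mul_inv_eq_iff_eq_mul.1 ?_))
    obtain ⟨n, hn⟩ := d.s.surj _ ((mem_normalizer_iff.1 hg _).1 (d.s.mem 16))
    rcases d.s.central (n := n) (fun m => by
      obtain ⟨p, hp⟩ := d.s.surj _ ((mem_normalizer_iff''.1 hg _).1 (d.s.mem m))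
      rw [hn, show d.s.φ m = g * d.s.φ p * g⁻¹ by rw [hp]; group]
      calc g * d.s.φ 16 * g⁻¹ * (g * d.s.φ p * g⁻¹) = g * (d.s.φ 16 * d.s.φ p) * g⁻¹ := by group
        _ = g * (d.s.φ p * d.s.φ 16) * g⁻¹ := by rw [d.s.comm_16]
        _ = _ := by group) with rfl | rfl
    · rw [d.s.one, eq_comm, conj_eq_one_iff] at hn
      exact absurd hn (d.ne_one_φ (by decide))
    · exact hn.symm
  have hC : ∀ t ∈ (d.S : Subgroup G), orderOf t = 2 → centralizer ({t} : Set G) ≤ d.M := by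
    intro t ht ht2
    obtain ⟨n, rfl⟩ := d.s.surj t ht
    have hni := d.s.orderOf_two.1 ht2
    by_cases hz : IsConj d.z (d.s.φ n)
    · exact cent_le_M hbal (hS ht) hz
    rcases d.dichotomy with hI | hII
    · exfalso
      refine hz ?_
      rcases inv_classify n hni with e | e | e | ⟨r, hr⟩ | ⟨h1, -⟩ | ⟨h1, -⟩
      · rw [e]
      · exact e ▸ d.z_conj_c
      · exact e ▸ d.z_conj_c.trans d.c_cz
      · exact d.z_conj_one.trans (_root_.isConj_iff.2 ⟨d.s.φ r, by rw [d.s.conj, hr]⟩)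
      · exact hI n h1 fun e => by rw [e] at hni; revert hni; decide +kernel
      · refine (hI _ h1 fun e => ?_).trans (_root_.isConj_iff.2 ⟨d.s.φ 1, d.s.conj 1 n⟩ : IsConj (d.s.φ n) _).symm
        have : ∀ n : Fin 128, isInv n = true → conjM 1 n ≠ 0 := by decide +kernel
        exact this n hni e
    · rcases inv_classify n hni with e | e | e | ⟨r, hr⟩ | ⟨h1, h4⟩ | ⟨h1, h4⟩
      · exact absurd (e ▸ IsConj.refl _) hz
      · exact absurd (e ▸ d.z_conj_c) hz
      · exact absurd (e ▸ d.z_conj_c.trans d.c_cz) hz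
      · exact absurd (d.z_conj_one.trans (_root_.isConj_iff.2 ⟨d.s.φ r, by rw [d.s.conj, hr]⟩)) hz
      · exact cent_outer_le hbal hII h1 h4
      · intro x hx
        have hx' := mem_centralizer_singleton_iff.1 hx
        have h := cent_outer_le hbal hII h1 h4 (x := d.s.φ 1 * x * (d.s.φ 1)⁻¹) (mem_centralizer_singleton_iff.2 (by
          rw [← d.s.conj]
          calc _ = d.s.φ 1 * (x * d.s.φ n) * (d.s.φ 1)⁻¹ := by group
            _ = d.s.φ 1 * (d.s.φ n * x) * (d.s.φ 1)⁻¹ := by rw [hx']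
            _ = _ := by group))
        simpa [mul_assoc] using mul_mem (mul_mem (inv_mem (hS (d.s.mem 1))) h) (hS (d.s.mem 1))
  have hne : (d.S : Subgroup G) ≠ ⊥ := fun e => by
    have := d.s.card
    rw [e, Subgroup.card_bot] at this
    omega
  have hse := CoreConsumers.isStronglyEmbedded_of_centralizers htop d.S hN hne hC
  have h := Invol.Core2.commute_of_se hse d.S.isPGroup' (d.s.orderOf_two.2 one_not_comm.2) (d.s.mem 1) (d.s.mem 32)
  have := d.s.commute.1 h.eq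
  rw [one_not_comm.1] at this
  exact Bool.noConfusion this

/-- The odd core of the centralizer of `z` is trivial. -/
theorem θ_z_eq_bot : θ d.z = ⊥ := by
  haveI := d.simple
  have hzA : d.z ∈ d.s.subA := d.subV_le_subA (d.s.mem_sub.2 seventeen.2.2.2.1)
  have hWn : d.W.Normal := normalizer_eq_top_iff.1 (M_eq_top hbal)
  rcases IsSimpleGroup.eq_bot_or_eq_top_of_normal d.W hWn with e | e
  · exact le_bot_iff.1 (e ▸ d.θ_le_W hzA (d.ne_one_φ (by decide)))
  · exfalso
    have hW := (W_spec hbal).1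
    rw [e, Subgroup.card_top] at hW
    exact Nat.not_even_iff_odd.2 hW (even_iff_two_dvd.2 (d.s.orderOf_two.2 cent_one.2.2.2.2.2.2.2.1 ▸ orderOf_dvd_natCard d.z))

end Balanced

/-- Balance when every involution of the elementary subgroup is conjugate to `z`. -/
theorem bal_of_all (hI : ∀ n, inA1 n = true → n ≠ 0 → IsConj d.z (d.s.φ n)) : d.Bal := by
  intro a ha _ b hb hb1
  obtain ⟨n, hn, rfl⟩ := hb
  refine d.odd_le_θ (hI n hn fun e => hb1 (by rw [e, d.s.one])) inf_le_right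
    ((θ_odd a).of_dvd_nat (card_dvd_of_le inf_le_left)) (d.S.isPGroup'.to_le d.s.sub_le)
    (fun x hx => mem_centralizer_singleton_iff.2 (d.s.comm_subA hx (d.s.mem_sub.2 hn))) (fun x hx => ?_)
    (Or.inl ⟨d.s.card_subA.ge, fun x hx => d.s.sq_subA hx, fun x hx y hy => d.s.comm_subA hx hy⟩)
  refine mem_normalizer_fintype fun y hy => ⟨θ_normal (d.s.comm_subA hx ha) hy.1, ?_⟩
  have hcx : Commute x (d.s.φ n) := d.s.comm_subA hx (d.s.mem_sub.2 hn)
  exact mem_centralizer_singleton_iff.2 ((hcx.mul_left (mem_centralizer_singleton_iff.1 hy.2)).mul_left hcx.inv_left).eq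

end Setting

end Cfsg.Agent.Spor.JTwoType
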