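import Cfsg.Agent.Lib.Spor.JTwoType.Shape
import Cfsg.Agent.Lib.Invol.HJ.Uniq.J2Side

/-!
# The Sylow 2-subgroup of the Hall-Janko group has this shape
-/

set_option autoImplicit false
set_option linter.unusedSectionVars false
set_option linter.style.haveILetI false
set_option maxRecDepth 100000

namespace Cfsg.Agent.Spor.JTwoType

open Subgroup Cfsg.Spor Cfsg.Agent.J2Cert Cfsg.Agent.Invol.HJ

theorem four_points : ∀ σ τ : alternatingGroup (Fin 5), σ * σ = 1 → τ * τ = 1 → σ ≠ 1 → τ ≠ 1 → σ ≠ τ →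
    σ * τ = τ * σ → ∃ i : Fin 5, [i, (σ : Equiv.Perm (Fin 5)) i, (τ : Equiv.Perm (Fin 5)) i,
      (σ : Equiv.Perm (Fin 5)) ((τ : Equiv.Perm (Fin 5)) i)].Nodup := by
  decide +kernel

theorem sign_table : ∀ x : Fin 16, x ≠ 0 →
    ∃ i : Fin 4, xor (betaF x (2 ^ (i : ℕ)) == 1) (betaF (2 ^ (i : ℕ)) x == 1) = true := by
  decide +kernel

theorem pI_self : ∀ i : Fin 4, pI i i = 0 := by decide +kernel

theorem klein_sq : ∀ x : Multiplicative (ZMod 2) × Multiplicative (ZMod 2), x * x = 1 := by decide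

theorem split_code : ∀ n : Fin 128, (n : ℕ) % 16 = 0 → (n : ℕ) / 32 = 0 → (n : ℕ) / 16 % 2 = 0 → n = 0 := by
  decide +kernel

/-- From the structure of the centralizer and an elementary abelian subgroup of order sixteen. -/
theorem shape_of_core {G : Type*} [Group G] [Finite G] {z : G} {Q : Subgroup G} (h : Core z Q) {S B : Subgroup G}
    (hS : Nat.card ↥S = 128) (hSC : S ≤ centralizer ({z} : Set G)) (hQS : Q ≤ S) (hBS : B ≤ S)
    (hB : Nat.card ↥B = 16) (hsq : ∀ x ∈ B, x * x = 1) (hcomm : ∀ x ∈ B, ∀ y ∈ B, x * y = y * x) :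
    Nonempty (Shape S) := by
  classical
  obtain ⟨M⟩ := h.model
  set C := centralizer ({z} : Set G)
  -- the intersection with `Q` is small
  have hsmall : Nat.card ↥(B ⊓ Q) ≤ 4 := by
    by_cases hx : ∃ x ∈ B ⊓ Q, x ≠ 1 ∧ x ≠ z
    · obtain ⟨x, hx, hx1, hxz⟩ := hx
      have hsub : ((B ⊓ Q : Subgroup G) : Set G) ⊆ ({1, z, x, z * x} : Set G) := by
        intro y hy
        by_cases hy1 : y = 1
        · exact Or.inl hy1
        by_cases hyz : y = z
        · exact Or.inr (Or.inl hyz)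
        rcases h.ten.2 x ⟨hx.2, hsq x hx.1, hx1, hxz⟩ y ⟨hy.2, hsq y hy.1, hy1, hyz⟩ (hcomm x hx.1 y hy.1) with e | e
        · exact Or.inr (Or.inr (Or.inl e))
        · exact Or.inr (Or.inr (Or.inr e))
      have := Set.ncard_le_ncard hsub (Set.toFinite _)
      rw [show ((B ⊓ Q : Subgroup G) : Set G).ncard = Nat.card ↥(B ⊓ Q) from (Nat.card_coe_set_eq _).symm] at this
      refine this.trans ?_
      have e1 := Set.ncard_insert_le (1 : G) {z, x, z * x}
      have e2 := Set.ncard_insert_le z {x, z * x}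
      have e3 := Set.ncard_insert_le x {z * x}
      rw [Set.ncard_singleton] at e3
      omega
    · push Not at hx
      have hsub : ((B ⊓ Q : Subgroup G) : Set G) ⊆ ({1, z} : Set G) := fun y hy => by
        by_cases hy1 : y = 1
        · exact Or.inl hy1
        · exact Or.inr (hx y hy hy1)
      have := Set.ncard_le_ncard hsub (Set.toFinite _)
      rw [show ((B ⊓ Q : Subgroup G) : Set G).ncard = Nat.card ↥(B ⊓ Q) from (Nat.card_coe_set_eq _).symm] at this
      refine this.trans ?_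
      have e1 := Set.ncard_insert_le (1 : G) {z}
      rw [Set.ncard_singleton] at e1
      omega
  -- two involutions with independent images
  have hBC : ∀ {x}, x ∈ B → x ∈ C := fun hx => hSC (hBS hx)
  obtain ⟨t, ht, u, hu, ht1, hu1, htu⟩ : ∃ t, ∃ ht : t ∈ B, ∃ u, ∃ hu : u ∈ B, M.pt ⟨t, hBC ht⟩ ≠ 1 ∧
      M.pt ⟨u, hBC hu⟩ ≠ 1 ∧ M.pt ⟨t, hBC ht⟩ ≠ M.pt ⟨u, hBC hu⟩ := by
    by_contra hcon
    push Not at hcon
    by_cases hall : ∀ (x : G) (hx : x ∈ B), M.pt ⟨x, hBC hx⟩ = 1
    · have hle : B ≤ B ⊓ Q := fun x hx => ⟨hx, (M.pt_ker ⟨x, hBC hx⟩).1 (hall x hx)⟩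
      have := (Subgroup.card_le_of_le hle).trans hsmall
      omega
    push Not at hall
    obtain ⟨t, ht, ht1⟩ := hall
    have hsub : ((B : Subgroup G) : Set G) ⊆ ((B ⊓ Q : Subgroup G) : Set G) ∪
        (fun y => t * y) '' ((B ⊓ Q : Subgroup G) : Set G) := by
      intro x hx
      by_cases hx1 : M.pt ⟨x, hBC hx⟩ = 1
      · exact Or.inl ⟨hx, (M.pt_ker ⟨x, hBC hx⟩).1 hx1⟩
      · have e := hcon t ht x hx ht1 hx1
        refine Or.inr ⟨t⁻¹ * x, ⟨B.mul_mem (B.inv_mem ht) hx, ?_⟩, by simp⟩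
        exact (M.pt_ker ⟨t⁻¹ * x, C.mul_mem (C.inv_mem (hBC ht)) (hBC hx)⟩).1 (by
          rw [show (⟨t⁻¹ * x, C.mul_mem (C.inv_mem (hBC ht)) (hBC hx)⟩ : C) = ⟨t, hBC ht⟩⁻¹ * ⟨x, hBC hx⟩ from rfl,
            map_mul, map_inv, e, inv_mul_cancel])
    have h1 := Set.ncard_le_ncard hsub (Set.toFinite _)
    have h2 := Set.ncard_union_le ((B ⊓ Q : Subgroup G) : Set G) ((fun y => t * y) '' ((B ⊓ Q : Subgroup G) : Set G))
    rw [Set.ncard_image_of_injective _ (mul_right_injective t)] at h2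
    rw [show ((B : Subgroup G) : Set G).ncard = Nat.card ↥B from (Nat.card_coe_set_eq _).symm, hB] at h1
    rw [show ((B ⊓ Q : Subgroup G) : Set G).ncard = Nat.card ↥(B ⊓ Q) from (Nat.card_coe_set_eq _).symm] at h2
    omega
  set σ : alternatingGroup (Fin 5) := ⟨M.pt ⟨t, hBC ht⟩, by rw [← M.pt_range]; exact ⟨_, rfl⟩⟩
  set τ : alternatingGroup (Fin 5) := ⟨M.pt ⟨u, hBC hu⟩, by rw [← M.pt_range]; exact ⟨_, rfl⟩⟩
  have hσ : σ * σ = 1 := Subtype.ext (by
    show M.pt _ * M.pt _ = 1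
    rw [← map_mul, show (⟨t, hBC ht⟩ : C) * ⟨t, hBC ht⟩ = 1 from Subtype.ext (hsq t ht), map_one])
  have hτ : τ * τ = 1 := Subtype.ext (by
    show M.pt _ * M.pt _ = 1
    rw [← map_mul, show (⟨u, hBC hu⟩ : C) * ⟨u, hBC hu⟩ = 1 from Subtype.ext (hsq u hu), map_one])
  obtain ⟨i, hi⟩ := four_points σ τ hσ hτ (fun e => ht1 (congrArg Subtype.val e))
    (fun e => hu1 (congrArg Subtype.val e)) (fun e => htu (congrArg Subtype.val e)) (Subtype.ext (by
      show M.pt _ * M.pt _ = M.pt _ * M.pt _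
      rw [← map_mul, ← map_mul]
      exact congrArg M.pt (Subtype.ext (hcomm t ht u hu))))
  set H : Fin 4 → G := ![1, t, u, t * u]
  have hHB : ∀ j, H j ∈ B := fun j => by
    fin_cases j
    exacts [one_mem B, ht, hu, mul_mem ht hu]
  have htt := hsq t ht
  have huu := hsq u hu
  have hut : u * t = t * u := hcomm u hu t ht
  have hH : ∀ j k, H j * H k = H (pI j k) := fun j k => by
    have e1 : t * (t * u) = u := by rw [← mul_assoc, htt, one_mul]
    have e2 : u * (t * u) = t := by rw [hut.symm, ← mul_assoc, huu, one_mul]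
    have e3 : t * u * t = u := by rw [mul_assoc, hut, e1]
    have e4 : t * u * u = t := by rw [mul_assoc, huu, mul_one]
    have e5 : t * u * (t * u) = 1 := by rw [mul_assoc, e2, htt]
    fin_cases j <;> fin_cases k
    · exact one_mul 1
    · exact one_mul t
    · exact one_mul u
    · exact one_mul (t * u)
    · exact mul_one t
    · exact htt
    · rfl
    · exact e1
    · exact mul_one u
    · exact hut
    · exact huu
    · exact e2
    · exact mul_one (t * u)
    · exact e3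
    · exact e4
    · exact e5
  have hHC : ∀ j, H j ∈ C := fun j => hBC (hHB j)
  have hHz : ∀ j, H j * z = z * H j := fun j => mem_centralizer_singleton_iff.1 (hHC j)
  set a : Fin 4 → G := fun j => H j * M.a i * (H j)⁻¹ with ha
  set p : Fin 4 → Fin 5 := fun j => M.pt ⟨H j, hHC j⟩ i
  have hp : ∀ j, a j = M.a (p j) ∨ a j = z * M.a (p j) := fun j => M.pt_spec ⟨H j, hHC j⟩ i
  have haQ : ∀ j, a j ∈ Q := fun j => h.norm _ (hHC j) _ (M.mem i).1
  have hpinj : Function.Injective p := by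
    have e : ∀ j, p j = ![i, (σ : Equiv.Perm (Fin 5)) i, (τ : Equiv.Perm (Fin 5)) i,
        (σ : Equiv.Perm (Fin 5)) ((τ : Equiv.Perm (Fin 5)) i)] j := fun j => by
      fin_cases j
      · show M.pt ⟨1, _⟩ i = i
        rw [show (⟨1, hHC 0⟩ : C) = 1 from rfl, map_one, Equiv.Perm.one_apply]
      · rfl
      · rfl
      · show M.pt ⟨t * u, _⟩ i = _
        rw [show (⟨t * u, hHC 3⟩ : C) = ⟨t, hBC ht⟩ * ⟨u, hBC hu⟩ from rfl, map_mul, Equiv.Perm.mul_apply]
        rfl
    intro j k hjk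
    rw [e, e] at hjk
    simp only [List.nodup_cons, List.mem_cons, List.not_mem_nil, or_false, not_or] at hi
    obtain ⟨⟨n1, n2, n3⟩, ⟨n4, n5⟩, n6, -⟩ := hi
    fin_cases j <;> fin_cases k <;> first
      | rfl
      | exact absurd hjk n1 | exact absurd hjk n2 | exact absurd hjk n3
      | exact absurd hjk n4 | exact absurd hjk n5 | exact absurd hjk n6
      | exact absurd hjk.symm n1 | exact absurd hjk.symm n2 | exact absurd hjk.symm n3
      | exact absurd hjk.symm n4 | exact absurd hjk.symm n5 | exact absurd hjk.symm n6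
  have hanti : Anti z a := by
    refine ⟨h.z_sq, fun j => (h.zq (haQ j)).symm, fun j => ?_, fun j k hjk => ?_⟩
    · show H j * M.a i * (H j)⁻¹ * (H j * M.a i * (H j)⁻¹) = 1
      rw [show H j * M.a i * (H j)⁻¹ * (H j * M.a i * (H j)⁻¹) = H j * (M.a i * M.a i) * (H j)⁻¹ by group,
        (M.mem i).2.1, mul_one, mul_inv_cancel]
    · refine (h.comm _ (haQ j) _ (haQ k)).resolve_left fun e => ?_
      have hm : ∀ j, z * M.a (p j) = M.a (p j) * z := fun j => (h.zq (M.mem _).1).symm
      have hback : ∀ j, M.a (p j) = a j ∨ M.a (p j) = z * a j := fun j => by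
        rcases hp j with e | e
        · exact Or.inl e.symm
        · exact Or.inr (by rw [e, ← mul_assoc, h.z_sq, one_mul])
      refine M.anti _ _ (fun e' => hjk (hpinj e')) ?_
      have hza : ∀ j, Commute z (a j) := fun j => (h.zq (haQ j)).symm
      have hjk' : Commute (a j) (a k) := e
      rcases hback j with e1 | e1 <;> rcases hback k with e2 | e2 <;> rw [e1, e2]
      · exact hjk'.eq
      · exact ((hza j).symm.mul_right hjk').eq
      · exact ((hza k).mul_left hjk').eq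
      · exact (((Commute.refl z).mul_right (hza k)).mul_left ((hza j).symm.mul_right hjk')).eq
  have hHa : ∀ j k, H j * a k = a (pI j k) * H j := fun j k => by
    show H j * (H k * M.a i * (H k)⁻¹) = H (pI j k) * M.a i * (H (pI j k))⁻¹ * H j
    rw [← hH]; group
  refine exists_shape hS hanti (hQS h.mem_z) (fun j => hQS (haQ j)) (fun j => hBS (hHB j)) hH hHz hHa fun n hn => ?_
  set j : Fin 4 := ⟨(n : ℕ) / 32, by omega⟩
  set x : Fin 16 := ⟨(n : ℕ) % 16, Nat.mod_lt _ (by norm_num)⟩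
  set β : Bool := (n : ℕ) / 16 % 2 == 1
  have hq : zz z β * monA a x ∈ Q := by
    refine Q.mul_mem ?_ (list_prod_mem fun y hy => ?_)
    · cases β
      · exact one_mem Q
      · exact h.mem_z
    · obtain ⟨k, -, rfl⟩ := List.mem_map.1 hy
      exact haQ k
  change zz z β * monA a x * H j = 1 at hn
  have hHQ : H j ∈ Q := by
    rw [eq_inv_of_mul_eq_one_right hn]
    exact inv_mem hq
  have hj : j = 0 := by
    have h0 : p j = p 0 := by
      show M.pt ⟨H j, hHC j⟩ i = M.pt ⟨H 0, hHC 0⟩ i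
      rw [(M.pt_ker ⟨H j, hHC j⟩).2 hHQ, show (⟨H 0, hHC 0⟩ : C) = 1 from rfl, map_one]
    exact hpinj h0
  rw [hj, show H 0 = 1 from rfl, mul_one] at hn
  have hx : x = 0 := by
    by_contra hx
    obtain ⟨k, hk⟩ := sign_table x hx
    have h1 := hanti.monA_comm x k
    rw [hk] at h1
    have hmz : monA a x = zz z β := by
      rw [eq_inv_of_mul_eq_one_right hn]
      cases β
      · exact inv_one
      · exact inv_eq_of_mul_eq_one_right h.z_sq
    have hcz : zz z β * a k = a k * zz z β := by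
      cases β
      · simp [zz]
      · exact hanti.za k
    rw [hmz, hcz] at h1
    exact h.ne_one (mul_eq_right.1 h1.symm)
  have hx0 : (n : ℕ) % 16 = 0 := congrArg Fin.val hx
  refine split_code n hx0 (congrArg Fin.val hj) ?_
  rw [hx, show monA a 0 = 1 by
    have : lst 0 = [] := by decide +kernel
    rw [monA, this]; rfl, mul_one] at hn
  by_contra hb
  have hβ : β = true := by simp only [β, beq_iff_eq]; omega
  rw [hβ] at hn
  exact h.ne_one hn

/-- A Sylow subgroup of the Hall-Janko group with coordinates. -/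
theorem exists_shape_J2 : ∃ S : Sylow 2 J2, (S : Subgroup J2) = S0 ∧ Nonempty (Shape (S : Subgroup J2)) := by
  classical
  haveI : Fact (Nat.Prime 2) := ⟨Nat.prime_two⟩
  obtain ⟨S, hS⟩ := (IsPGroup.of_card (p := 2) (n := 7) (G := ↥S0) (by rw [card_S0]; norm_num)).exists_le_sylow
  have hS128 : Nat.card ↥(S : Subgroup J2) = 128 := by
    obtain ⟨k, hk⟩ := IsPGroup.iff_card.1 S.isPGroup'
    have hd := (S : Subgroup J2).card_subgroup_dvd_card
    rw [hk, card_J2] at hd
    have h1 := Subgroup.card_le_of_le hS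
    rw [card_S0, hk] at h1
    have h7 : 7 ≤ k := (Nat.pow_le_pow_iff_right (le_refl 2)).1 (by simpa using h1)
    rcases Nat.lt_or_ge k 8 with h | h
    · rw [hk, show k = 7 by omega]; norm_num
    · exact absurd ((pow_dvd_pow 2 h).trans hd) (by norm_num)
  have hSS : S0 = (S : Subgroup J2) := Subgroup.eq_of_le_of_card_ge hS (by rw [hS128, card_S0])
  -- an elementary abelian subgroup of order sixteen
  have hset := Uniq.setting_J2
  have hw4 : orderOf Uniq.w4 = 2 := orderOf_two_iff'.mpr ⟨Uniq.w4_sq, fun e => by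
    have h1 := Uniq.fixed_eq (p := Uniq.w4) Uniq.acts_w4
    rw [Uniq.w4_facts.2.1, e] at h1
    simp [Nat.card_eq_fintype_card] at h1⟩
  obtain ⟨⟨e⟩, -⟩ := second_centralizer hset hw4 Uniq.w4_not_conj
  let B0 : Subgroup ((Multiplicative (ZMod 2) × Multiplicative (ZMod 2)) × alternatingGroup (Fin 5)) :=
    (⊤ : Subgroup (Multiplicative (ZMod 2) × Multiplicative (ZMod 2))).prod J2Cert.V4
  let f := (Subgroup.centralizer ({Uniq.w4} : Set J2)).subtype.comp e.symm.toMonoidHom
  have hf : Function.Injective f := (Subgroup.subtype_injective _).comp e.symm.injective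
  let B := B0.map f
  have hB16 : Nat.card ↥B = 16 := by
    rw [card_map_of_injective hf, Nat.card_congr (Subgroup.prodEquiv _ _).toEquiv, Nat.card_prod, card_top,
      J2Cert.card_V4, Nat.card_prod, Nat.card_eq_fintype_card, Fintype.card_multiplicative, ZMod.card]
  have hB0sq : ∀ x ∈ B0, x * x = 1 := by
    rintro ⟨x, y⟩ ⟨-, hy⟩
    exact Prod.ext (klein_sq x) (Subtype.ext (J2Cert.mem_V4.1 hy).2)
  have hBsq : ∀ x ∈ B, x * x = 1 := by
    rintro _ ⟨x, hx, rfl⟩
    rw [← map_mul, hB0sq x hx, map_one]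
  obtain ⟨g, hg⟩ := MulAction.exists_smul_eq J2 (Classical.choose
    (IsPGroup.of_card (p := 2) (n := 4) (G := ↥B) (by rw [hB16]; norm_num)).exists_le_sylow) S
  have hle := Classical.choose_spec
    (IsPGroup.of_card (p := 2) (n := 4) (G := ↥B) (by rw [hB16]; norm_num)).exists_le_sylow
  set B' := B.map (MulAut.conj g).toMonoidHom
  have hB'S : B' ≤ (S : Subgroup J2) := by
    rintro _ ⟨b, hb, rfl⟩
    rw [← hg, Sylow.coe_subgroup_smul]
    exact smul_mem_pointwise_smul b (MulAut.conj g) _ (hle hb)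
  have hB'sq : ∀ x ∈ B', x * x = 1 := by
    rintro _ ⟨x, hx, rfl⟩
    rw [← map_mul, hBsq x hx, map_one]
  refine ⟨S, hSS.symm, shape_of_core (z := zJ) (Q := Q0) hset.toCore hS128 ?_ (hSS ▸ Q0_le) hB'S
    (by rw [card_map_of_injective (MulAut.conj g).injective, hB16]) hB'sq fun x hx y hy => ?_⟩
  · rw [← hSS]
    exact Subgroup.map_subtype_le _
  · calc x * y = (x * y)⁻¹ := eq_inv_of_mul_eq_one_left (hB'sq _ (mul_mem hx hy))
      _ = y⁻¹ * x⁻¹ := mul_inv_rev x y
      _ = y * x := by rw [inv_eq_of_mul_eq_one_right (hB'sq y hy), inv_eq_of_mul_eq_one_right (hB'sq x hx)]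

end Cfsg.Agent.Spor.JTwoType
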