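import Cfsg.Agent.Lib.Spor.JTwoType.Quot
import Cfsg.Agent.S0051

/-!
# The centralizer is determined up to isomorphism

It is a split extension, and the five noncentral pairs of involutions have an equivariant section.
-/

set_option autoImplicit false
set_option linter.unusedSectionVars false
set_option linter.style.haveILetI false
set_option maxRecDepth 100000

namespace Cfsg.Agent.Spor.JTwoType

open Subgroup

universe u v

/-- The alternating group of degree five. -/
abbrev Alt5 := alternatingGroup (Fin 5)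

/-- The fifth generator in terms of the first four. -/
def sub5 (i : Fin 5) : List (Fin 4) := if h : (i : ℕ) < 4 then [⟨i, h⟩] else [3, 2, 1, 0]

/-- The word of a permuted monomial. -/
def permW (k : Alt5) (x : Fin 16) : List (Fin 4) :=
  (lst x).flatMap fun i => sub5 ((k : Equiv.Perm (Fin 5)) i.castSucc)

/-- A presentation of the centralizer. -/
structure Frame (G : Type u) [Group G] where
  z : G
  a : Fin 4 → G
  κ : Alt5 →* G
  anti : Anti z a
  zk : ∀ k, κ k * z = z * κ k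
  act : ∀ (k : Alt5) (i : Fin 4), κ k * a i = W a (sub5 ((k : Equiv.Perm (Fin 5)) i.castSucc)) * κ k
  bij : Function.Bijective fun p : Bool × Fin 16 × Alt5 => zz z p.1 * monA a p.2.1 * κ p.2.2

/-- Moving an element past a word, with words as images. -/
theorem W_flat {G : Type u} [Group G] {a : Fin 4 → G} (f : Fin 4 → List (Fin 4)) (g : G)
    (hg : ∀ i, g * a i = W a (f i) * g) : ∀ l : List (Fin 4), g * W a l = W a (l.flatMap f) * g
  | [] => by simp [W]
  | i :: l => by
    rw [List.flatMap_cons, W_append, W_cons, ← mul_assoc, hg, mul_assoc, W_flat f g hg l, mul_assoc]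

namespace Frame

variable {G : Type u} [Group G] (F : Frame G)

/-- The coordinates. -/
def val (p : Bool × Fin 16 × Alt5) : G := zz F.z p.1 * monA F.a p.2.1 * F.κ p.2.2

/-- The product in coordinates, which does not depend on the group. -/
def op (p q : Bool × Fin 16 × Alt5) : Bool × Fin 16 × Alt5 :=
  (xor (xor p.1 q.1) (nfX (lst p.2.1 ++ permW p.2.2 q.2.1)).1,
    (nfX (lst p.2.1 ++ permW p.2.2 q.2.1)).2, p.2.2 * q.2.2)

theorem val_op (p q : Bool × Fin 16 × Alt5) : F.val p * F.val q = F.val (op p q) := by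
  obtain ⟨b, x, k⟩ := p
  obtain ⟨b', x', k'⟩ := q
  have h := F.anti
  have hk : F.κ k * zz F.z b' = zz F.z b' * F.κ k := by cases b' <;> simp [zz, F.zk]
  calc zz F.z b * monA F.a x * F.κ k * (zz F.z b' * monA F.a x' * F.κ k')
      = zz F.z b * (monA F.a x * (F.κ k * zz F.z b' * monA F.a x')) * F.κ k' := by simp only [mul_assoc]
    _ = zz F.z b * (monA F.a x * zz F.z b' * W F.a (permW k x') * F.κ k) * F.κ k' := by
      rw [hk, mul_assoc (zz F.z b') (F.κ k), monA, monA, W_flat _ _ (F.act k) (lst x')]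
      simp only [permW, mul_assoc]
    _ = zz F.z b * zz F.z b' * W F.a (lst x ++ permW k x') * (F.κ k * F.κ k') := by
      rw [monA, ← h.zz_W b', W_append]
      simp only [mul_assoc]
    _ = _ := by
      rw [h.zz_mul, h.W_nf, ← map_mul, ← mul_assoc, h.zz_mul]
      rfl

/-- Two groups with a frame are isomorphic. -/
noncomputable def equiv {H : Type v} [Group H] (F' : Frame H) : G ≃* H :=
  MulEquiv.mk' ((Equiv.ofBijective _ F.bij).symm.trans (Equiv.ofBijective _ F'.bij)) fun g h => by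
    obtain ⟨p, rfl⟩ : ∃ p, F.val p = g := F.bij.2 g
    obtain ⟨q, rfl⟩ : ∃ q, F.val q = h := F.bij.2 h
    have key : ∀ r, ((Equiv.ofBijective _ F.bij).symm.trans (Equiv.ofBijective _ F'.bij)) (F.val r) = F'.val r :=
      fun r => congrArg F'.val ((Equiv.ofBijective _ F.bij).symm_apply_apply r)
    rw [F.val_op, key, key, key, F'.val_op]

end Frame

/-- A central involution has a complement when the Sylow subgroups are elementary. -/
theorem exists_complement {P : Type u} [Group P] [Finite P] {z : P} (hz : ∀ g : P, g * z = z * g)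
    (hz2 : z * z = 1) (hz1 : z ≠ 1) (U : Sylow 2 P) (hzU : z ∈ (U : Subgroup P))
    (hU : ∀ u ∈ (U : Subgroup P), u * u = 1) :
    ∃ H : Subgroup P, Subgroup.IsComplement' (zpowers z) H := by
  classical
  haveI : Fact (Nat.Prime 2) := ⟨Nat.prime_two⟩
  haveI : (zpowers z).Normal := ⟨fun w hw g => by
    obtain ⟨n, rfl⟩ := mem_zpowers_iff.1 hw
    rw [((show Commute g z from hz g).zpow_right n).eq, mul_inv_cancel_right]
    exact zpow_mem (mem_zpowers z) n⟩
  obtain ⟨M, ⟨hMU, hMz⟩, hmax⟩ := Set.exists_max_image {M : Subgroup P | M ≤ U ∧ z ∉ M} (fun M => Nat.card M)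
    (Set.toFinite _) ⟨⊥, bot_le, by simpa using hz1⟩
  have hcomm : ∀ u ∈ (U : Subgroup P), ∀ v ∈ (U : Subgroup P), u * v = v * u := fun u hu v hv => by
    calc u * v = (u * v)⁻¹ := eq_inv_of_mul_eq_one_left (hU _ (mul_mem hu hv))
      _ = v⁻¹ * u⁻¹ := mul_inv_rev u v
      _ = v * u := by rw [inv_eq_of_mul_eq_one_right (hU v hv), inv_eq_of_mul_eq_one_right (hU u hu)]
  have hcard : (Nat.card ↥(zpowers z)).Coprime (U : Subgroup P).index := by
    rw [Nat.card_zpowers, orderOf_eq_prime (p := 2) (by rw [pow_two]; exact hz2) hz1]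
    exact (Nat.Prime.coprime_iff_not_dvd Nat.prime_two).2 U.not_dvd_index
  refine S0051.result (zpowers z) U (zpowers_le.2 hzU) hcard M hMU ?_ ?_
  · rw [eq_bot_iff]
    rintro w ⟨hw, hwz⟩
    obtain ⟨n, rfl⟩ := mem_zpowers_iff.1 hwz
    rw [mem_bot]
    rcases Int.even_or_odd n with ⟨j, rfl⟩ | ⟨j, rfl⟩
    · rw [zpow_add, ← (Commute.refl z).mul_zpow, hz2, one_zpow]
    · refine absurd ?_ hMz
      simpa [zpow_add, zpow_mul, zpow_ofNat, pow_two, hz2] using hw
  · refine le_antisymm (sup_le (zpowers_le.2 hzU) hMU) fun u hu => ?_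
    by_contra hcon
    have huM : u ∉ M := fun h => hcon (mem_sup_right h)
    let M' : Subgroup P :=
      { carrier := {g | g ∈ M ∨ g * u ∈ M}
        one_mem' := Or.inl (one_mem M)
        mul_mem' := fun {g h} hg hh => by
          have hgU : g ∈ (U : Subgroup P) := hg.elim (fun h => hMU h) fun h =>
            mul_inv_cancel_right g u ▸ mul_mem (hMU h) (inv_mem hu)
          have hhU : h ∈ (U : Subgroup P) := hh.elim (fun h => hMU h) fun h' =>
            mul_inv_cancel_right h u ▸ mul_mem (hMU h') (inv_mem hu)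
          rcases hg with hg | hg <;> rcases hh with hh | hh
          · exact Or.inl (mul_mem hg hh)
          · exact Or.inr (by rw [mul_assoc]; exact mul_mem hg hh)
          · exact Or.inr (by rw [mul_assoc, hcomm h hhU u hu, ← mul_assoc]; exact mul_mem hg hh)
          · refine Or.inl ?_
            have := mul_mem hg hh
            rwa [mul_assoc g u (h * u), ← mul_assoc u h u, hcomm u hu h hhU, mul_assoc h u u, hU u hu, mul_one] at this
        inv_mem' := fun {g} hg => by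
          rcases hg with hg | hg
          · exact Or.inl (inv_mem hg)
          · have hgU : g ∈ (U : Subgroup P) := mul_inv_cancel_right g u ▸ mul_mem (hMU hg) (inv_mem hu)
            refine Or.inr ?_
            rwa [inv_eq_of_mul_eq_one_right (hU g hgU)] }
    have hM'U : M' ≤ (U : Subgroup P) := fun g hg => hg.elim (fun h => hMU h) fun h =>
      mul_inv_cancel_right g u ▸ mul_mem (hMU h) (inv_mem hu)
    have hzM' : z ∉ M' := fun h => h.elim hMz fun h' => hcon (by
      rw [show u = z * (z * u) by rw [← mul_assoc, hz2, one_mul]]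
      exact mul_mem (mem_sup_left (mem_zpowers z)) (mem_sup_right h'))
    have huM' : u ∈ M' := Or.inr (by rw [hU u hu]; exact one_mem M)
    have heq : M = M' := Subgroup.eq_of_le_of_card_ge (fun g hg => Or.inl hg) (hmax M' ⟨hM'U, hzM'⟩)
    exact huM (heq.ge huM')

theorem stab_gen : ∀ k : Alt5, (k : Equiv.Perm (Fin 5)) 0 = 0 → k ^ 3 = 1 ∨
    ∃ u : Alt5, u ^ 3 = 1 ∧ (u : Equiv.Perm (Fin 5)) 0 = 0 ∧ (u * k) ^ 3 = 1 := by
  decide +kernel

theorem exists_rep : ∀ j : Fin 5, ∃ k : Alt5, (k : Equiv.Perm (Fin 5)) 0 = j := by decide +kernel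

theorem anti_codes : ∀ i j : Fin 5, i ≠ j → ∀ b b' : Bool,
    mulM (if b then mulM (toM (sv i)) 16 else toM (sv i)) (if b' then mulM (toM (sv j)) 16 else toM (sv j)) =
      mulM 16 (mulM (if b' then mulM (toM (sv j)) 16 else toM (sv j))
        (if b then mulM (toM (sv i)) 16 else toM (sv i))) ∧
    mulM (if b then mulM (toM (sv i)) 16 else toM (sv i)) (if b then mulM (toM (sv i)) 16 else toM (sv i)) = 0 := by
  decide +kernel

theorem word_sum : ∀ x : Fin 16, (lst x).foldr (fun i y => xr (sv i.castSucc) y) 0 = x := by decide +kernel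

variable {G : Type u} [Group G] [Finite G]

namespace Ctx

variable (c : Ctx G)

/-- A frame exists. -/
theorem exists_frame (c : Ctx G) : Nonempty (Frame G) := by
  classical
  haveI : Fact (Nat.Prime 2) := ⟨Nat.prime_two⟩
  obtain ⟨π, hker, hrange, hact⟩ := c.exists_hom
  haveI := c.A_normal
  haveI : IsMulCommutative ↥c.A := c.A_elem.1
  -- a complement in the quotient
  let p : Fin 128 → Bool := fun n => (n : ℕ) % 16 == 0
  have hp : ∀ n m, p n = true → p m = true → p (mulM n m) = true := by decide +kernel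
  let V : Subgroup (G ⧸ c.Z) := (c.s.sub p (by decide +kernel) hp).map c.qm
  have hcop : (Nat.card ↥c.A).Coprime (c.T : Subgroup (G ⧸ c.Z)).index := by
    rw [c.card_A, show (16 : ℕ) = 2 ^ 4 from rfl]
    exact ((Nat.Prime.coprime_iff_not_dvd Nat.prime_two).2 c.T.not_dvd_index).pow_left 4
  obtain ⟨K1, hK1⟩ := S0051.result c.A (c.T : Subgroup (G ⧸ c.Z)) c.A_le_T hcop V
    (fun v hv => by
      obtain ⟨_, ⟨n, -, rfl⟩, rfl⟩ := hv
      exact c.mem_T.2 ⟨n, rfl⟩)
    (eq_bot_iff.2 fun v hv => by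
      obtain ⟨⟨_, ⟨n, hn, rfl⟩, rfl⟩, hvA⟩ := hv
      have hfact : ∀ n : Fin 128, p n = true → inQ n = true → n = 0 ∨ n = mulM 0 16 := by decide +kernel
      rw [mem_bot, show c.qm (c.s.φ n) = c.ψ n from rfl,
        show (1 : G ⧸ c.Z) = c.ψ 0 by rw [ψ, c.s.one, map_one], c.ψ_eq]
      exact hfact n hn (c.ψ_mem_A.1 hvA))
    (le_antisymm (sup_le c.A_le_T fun v hv => by
      obtain ⟨_, ⟨n, -, rfl⟩, rfl⟩ := hv
      exact c.mem_T.2 ⟨n, rfl⟩) fun t ht => by
      obtain ⟨n, rfl⟩ := c.mem_T.1 ht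
      have htab : ∀ n : Fin 128, inQ (Fin.ofNat 128 ((n : ℕ) % 32)) = true ∧
          p (Fin.ofNat 128 ((n : ℕ) / 32 * 32)) = true ∧
          mulM (Fin.ofNat 128 ((n : ℕ) % 32)) (Fin.ofNat 128 ((n : ℕ) / 32 * 32)) = n := by decide +kernel
      have hfact : ∀ n : Fin 128, ∃ q, inQ q = true ∧ ∃ v, p v = true ∧ mulM q v = n := fun n =>
        ⟨_, (htab n).1, _, (htab n).2.1, (htab n).2.2⟩
      obtain ⟨q, hq, v, hv, rfl⟩ := hfact n
      rw [← c.ψ_mul]
      exact mul_mem (mem_sup_left (c.ψ_mem_A.2 hq)) (mem_sup_right ⟨_, c.s.mem_sub.2 hv, rfl⟩))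
  have hK1A : ∀ x, x ∈ K1 → x ∈ c.A → x = 1 := fun x h1 h2 => mem_bot.1 (hK1.disjoint.le_bot ⟨h2, h1⟩)
  have hQmem : ∀ {g}, g ∈ c.Q ↔ c.qm g ∈ c.A := fun {g} => by rw [← c.comap_A]; rfl
  -- its preimage
  set P1 := K1.comap c.qm
  have hZP1 : c.s.φ 16 ∈ P1 := by
    show c.qm (c.s.φ 16) ∈ K1
    rw [show c.qm (c.s.φ 16) = 1 from (QuotientGroup.eq_one_iff _).2 (mem_zpowers _)]
    exact one_mem _
  have h16 : c.s.φ 16 * c.s.φ 16 = 1 := c.s.sq.2 (commM_16 0).2
  have h16ne : c.s.φ 16 ≠ 1 := fun e => absurd (c.s.eq_one.1 e) (by decide)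
  set z' : ↥P1 := ⟨c.s.φ 16, hZP1⟩
  obtain ⟨U, hzU⟩ := (IsPGroup.of_card (p := 2) (n := 1) (G := ↥(zpowers z')) (by
    rw [Nat.card_zpowers, orderOf_eq_prime (p := 2) (by rw [pow_two]; exact Subtype.ext h16)
      (fun e => h16ne (congrArg Subtype.val e)), pow_one])).exists_le_sylow
  have hP1Q : ∀ g ∈ P1, g ∈ c.Q → g = 1 ∨ g = c.s.φ 16 := fun g hg hgQ =>
    c.mem_Z.1 ((QuotientGroup.eq_one_iff g).1 (hK1A _ hg (hQmem.1 hgQ)))
  have hUsq : ∀ u ∈ (U : Subgroup ↥P1), u * u = 1 := by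
    intro u hu
    obtain ⟨g, hg⟩ := conj_into c.S (U.isPGroup'.map P1.subtype)
    obtain ⟨n, hn⟩ := c.s.surj _ (hg (mem_cI ⟨u, hu, rfl⟩))
    change c.s.φ n = g * (u : G) * g⁻¹ at hn
    have hQn := c.Q_normal
    have hsq : mulM n n = 0 ∨ mulM n n = 16 := by
      have hQsq : c.s.φ (mulM n n) ∈ c.Q := c.s.mem_sub.2 (by
        have : ∀ n : Fin 128, inQ (mulM n n) = true := by decide +kernel
        exact this n)
      have hu2 : ((u : G) * u) = g⁻¹ * c.s.φ (mulM n n) * g := by rw [← c.s.mul, hn]; group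
      have huQ : (u : G) * u ∈ c.Q := by
        rw [hu2]
        simpa using hQn.conj_mem _ hQsq g⁻¹
      rcases hP1Q _ (P1.mul_mem u.2 u.2) huQ with e | e
      · refine Or.inl (c.s.eq_one.1 ?_)
        rw [← c.s.mul, hn, show g * (u : G) * g⁻¹ * (g * u * g⁻¹) = g * ((u : G) * u) * g⁻¹ by group, e, mul_one,
          mul_inv_cancel]
      · refine Or.inr (c.s.inj ?_)
        rw [← c.s.mul, hn, show g * (u : G) * g⁻¹ * (g * u * g⁻¹) = g * ((u : G) * u) * g⁻¹ by group, e, c.hz,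
          mul_inv_cancel_right]
    have hsq0 : mulM n n = 0 := by
      by_cases hnQ : inQ n = true
      · have huQ : (u : G) ∈ c.Q := by
          have := hQn.conj_mem _ (c.s.mem_sub.2 hnQ : c.s.φ n ∈ c.Q) g⁻¹
          rw [hn] at this
          simpa [mul_assoc] using this
        have hn' : n = 0 ∨ n = 16 := by
          rcases hP1Q _ u.2 huQ with e | e
          · exact Or.inl (c.s.eq_one.1 (by rw [hn, e, mul_one, mul_inv_cancel]))
          · exact Or.inr (c.s.inj (by rw [hn, e, c.hz, mul_inv_cancel_right]))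
        rcases hn' with rfl | rfl
        · exact (invM_spec 0).2.2.1
        · exact (commM_16 0).2
      · exact outer_lift n (by simpa [inQ] using hnQ) hsq
    have e := c.s.sq.2 hsq0
    rw [hn, show g * (u : G) * g⁻¹ * (g * u * g⁻¹) = g * ((u : G) * u) * g⁻¹ by group, conj_eq_one_iff] at e
    exact Subtype.ext e
  obtain ⟨K2, hK2⟩ := exists_complement (z := z') (fun g => Subtype.ext (c.hz g))
    (Subtype.ext h16) (fun e => h16ne (congrArg Subtype.val e)) U (hzU (mem_zpowers z')) hUsq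
  -- the section
  let f : ↥(K2.map P1.subtype) →* Alt5 :=
    (π.comp (K2.map P1.subtype).subtype).codRestrict _ fun g => by
      show _ ∈ alternatingGroup (Fin 5)
      rw [← hrange]
      exact ⟨g, rfl⟩
  have hf : Function.Bijective f := by
    constructor
    · rw [injective_iff_map_eq_one]
      rintro ⟨_, g, hg, rfl⟩ he
      have hgQ : (g : G) ∈ c.Q := hker ▸ (congrArg Subtype.val he : π (g : G) = 1)
      have hgz : g ∈ zpowers z' := by
        rcases hP1Q _ g.2 hgQ with e | e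
        · rw [show g = 1 from Subtype.ext e]; exact one_mem _
        · rw [show g = z' from Subtype.ext e]; exact mem_zpowers _
      have := mem_bot.1 (hK2.disjoint.le_bot ⟨hgz, hg⟩)
      refine Subtype.ext ?_
      show P1.subtype g = 1
      rw [this, map_one]
    · intro σ
      obtain ⟨g, hg⟩ : (σ : Equiv.Perm (Fin 5)) ∈ π.range := hrange ▸ σ.2
      obtain ⟨⟨⟨a, ha⟩, k, hk⟩, hak⟩ := hK1.2 (c.qm g)
      obtain ⟨h, rfl⟩ := c.qm_surj k
      obtain ⟨⟨⟨w, hw⟩, k2, hk2⟩, hwk⟩ := hK2.2 (⟨h, hk⟩ : ↥P1)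
      refine ⟨⟨k2, k2, hk2, rfl⟩, Subtype.ext ?_⟩
      show π (k2 : G) = σ
      rw [← hg]
      have hwZ : (w : G) ∈ c.Z := by
        obtain ⟨i, rfl⟩ := mem_zpowers_iff.1 hw
        rw [Subgroup.coe_zpow]
        exact zpow_mem (mem_zpowers _) i
      have hk' : c.qm (k2 : G) = c.qm h := by
        have e : (w : G) * k2 = h := congrArg Subtype.val hwk
        rw [← e, map_mul, show c.qm (w : G) = 1 from (QuotientGroup.eq_one_iff _).2 hwZ, one_mul]
      have hgk : g * (k2 : G)⁻¹ ∈ c.Q := by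
        rw [hQmem, map_mul, map_inv, hk']
        change a * c.qm h = c.qm g at hak
        rw [← hak, mul_inv_cancel_right]
        exact ha
      rw [← hker, MonoidHom.mem_ker, map_mul, map_inv, mul_inv_eq_one] at hgk
      exact hgk.symm
  let κ : Alt5 →* G := (K2.map P1.subtype).subtype.comp (MulEquiv.ofBijective f hf).symm.toMonoidHom
  have hπκ : ∀ k : Alt5, π (κ k) = k := fun k => by
    have := congrArg Subtype.val ((MulEquiv.ofBijective f hf).apply_symm_apply k)
    exact this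
  have hqκ : ∀ (k : Alt5) i, c.qm (κ k) * c.al (sv i) * (c.qm (κ k))⁻¹ = c.al (sv ((k : Equiv.Perm (Fin 5)) i)) :=
    fun k i => by rw [hact, hπκ]
  have hlift : ∀ {g : G} {i}, c.qm g = c.al (sv i) → ∃ b : Bool,
      g = c.s.φ (if b then mulM (toM (sv i)) 16 else toM (sv i)) := by
    intro g i h
    rcases c.qm_eq.1 h with e | e
    exacts [⟨false, e⟩, ⟨true, e⟩]
  -- the stabiliser fixes a lift
  have hstab : ∀ b : G, c.qm b = c.al (sv 0) → ∀ k : Alt5, (k : Equiv.Perm (Fin 5)) 0 = 0 →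
      κ k * b * (κ k)⁻¹ = b := by
    intro b hb
    have h3 : ∀ k : Alt5, (k : Equiv.Perm (Fin 5)) 0 = 0 → k ^ 3 = 1 → κ k * b * (κ k)⁻¹ = b := by
      intro k hk h1
      have e : c.qm (κ k * b * (κ k)⁻¹) = c.qm b := by rw [map_mul, map_mul, map_inv, hb, hqκ, hk]
      obtain ⟨w, hw, hwe⟩ : ∃ w, (w = 1 ∨ w = c.s.φ 16) ∧ κ k * b * (κ k)⁻¹ = b * w :=
        ⟨_, c.mem_Z.1 (QuotientGroup.eq.1 e.symm), by rw [mul_inv_cancel_left]⟩
      rcases hw with rfl | rfl
      · rw [hwe, mul_one]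
      exfalso
      have h := congrArg (fun x : G => x * b * x⁻¹) (show κ k * (κ k * κ k) = 1 by
        rw [← map_mul, ← map_mul, show k * (k * k) = 1 by rw [← h1]; simp [pow_succ, mul_assoc], map_one])
      simp only [one_mul, inv_one, mul_one] at h
      rw [show κ k * (κ k * κ k) * b * (κ k * (κ k * κ k))⁻¹ =
        κ k * (κ k * (κ k * b * (κ k)⁻¹) * (κ k)⁻¹) * (κ k)⁻¹ by group, hwe] at h
      have hstep : ∀ x, κ k * (x * c.s.φ 16) * (κ k)⁻¹ = κ k * x * (κ k)⁻¹ * c.s.φ 16 := fun x => by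
        rw [← mul_assoc (κ k) x, mul_assoc (κ k * x) (c.s.φ 16), ← c.hz (κ k)⁻¹, ← mul_assoc]
      rw [hstep, hwe, hstep, hstep, hwe, mul_assoc, mul_assoc, h16, mul_one] at h
      exact h16ne (mul_eq_left.1 h)
    intro k hk
    rcases stab_gen k hk with h | ⟨u, hu, hu0, huk⟩
    · exact h3 k hk h
    · have h1 := h3 (u * k) (by rw [Subgroup.coe_mul, Equiv.Perm.mul_apply, hk, hu0]) huk
      have h2 := h3 u hu0 hu
      rw [map_mul] at h1
      calc κ k * b * (κ k)⁻¹ = (κ u)⁻¹ * (κ u * κ k * b * (κ u * κ k)⁻¹) * κ u := by group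
        _ = (κ u)⁻¹ * (κ u * b * (κ u)⁻¹) * κ u := by rw [h1, h2]
        _ = b := by group
  choose kk hkk using exists_rep
  -- the equivariant section
  let a5 : G → Fin 5 → G := fun b j => κ (kk j) * b * (κ (kk j))⁻¹
  have hequiv : ∀ b : G, c.qm b = c.al (sv 0) → ∀ (k : Alt5) j,
      κ k * a5 b j = a5 b ((k : Equiv.Perm (Fin 5)) j) * κ k := by
    intro b hb k j
    set j' := (k : Equiv.Perm (Fin 5)) j
    have h0 : (((kk j')⁻¹ * k * kk j : Alt5) : Equiv.Perm (Fin 5)) 0 = 0 := by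
      simp only [Subgroup.coe_mul, Subgroup.coe_inv, Equiv.Perm.mul_apply, hkk]
      rw [Equiv.Perm.inv_def, Equiv.symm_apply_eq, hkk]
    have h := hstab b hb _ h0
    rw [map_mul, map_mul, map_inv] at h
    show κ k * (κ (kk j) * b * (κ (kk j))⁻¹) = κ (kk j') * b * (κ (kk j'))⁻¹ * κ k
    calc κ k * (κ (kk j) * b * (κ (kk j))⁻¹)
        = κ (kk j') * ((κ (kk j'))⁻¹ * κ k * κ (kk j) * b * ((κ (kk j'))⁻¹ * κ k * κ (kk j))⁻¹) *
          (κ (kk j'))⁻¹ * κ k := by group
      _ = _ := by rw [h]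
  have hqa : ∀ b : G, c.qm b = c.al (sv 0) → ∀ j, c.qm (a5 b j) = c.al (sv j) := fun b hb j => by
    show c.qm (κ (kk j) * b * (κ (kk j))⁻¹) = _
    rw [map_mul, map_mul, map_inv, hb, hqκ, hkk]
  obtain ⟨b, hb, hprod⟩ : ∃ b : G, c.qm b = c.al (sv 0) ∧
      a5 b 0 * a5 b 1 * a5 b 2 * a5 b 3 * a5 b 4 = 1 := by
    set P := a5 (c.s.φ 1) 0 * a5 (c.s.φ 1) 1 * a5 (c.s.φ 1) 2 * a5 (c.s.φ 1) 3 * a5 (c.s.φ 1) 4 with hP
    have h1 : c.qm (c.s.φ 1) = c.al (sv 0) := rfl
    have hP1 : P = 1 ∨ P = c.s.φ 16 := c.mem_Z.1 ((QuotientGroup.eq_one_iff _).1 (by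
      show c.qm P = 1
      rw [hP, map_mul, map_mul, map_mul, map_mul, hqa _ h1, hqa _ h1, hqa _ h1, hqa _ h1, hqa _ h1, c.al_mul,
        c.al_mul, c.al_mul, c.al_mul, c.al_eq_one]
      decide +kernel))
    rcases hP1 with e | e
    · exact ⟨_, h1, e⟩
    refine ⟨c.s.φ 1 * c.s.φ 16, ?_, ?_⟩
    · rw [map_mul, h1, show c.qm (c.s.φ 16) = 1 from (QuotientGroup.eq_one_iff _).2 (mem_zpowers _), mul_one]
    · have hstep : ∀ j, a5 (c.s.φ 1 * c.s.φ 16) j = a5 (c.s.φ 1) j * c.s.φ 16 := fun j => by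
        show κ (kk j) * (c.s.φ 1 * c.s.φ 16) * (κ (kk j))⁻¹ = κ (kk j) * c.s.φ 1 * (κ (kk j))⁻¹ * c.s.φ 16
        rw [← mul_assoc (κ (kk j)) (c.s.φ 1), mul_assoc (κ (kk j) * c.s.φ 1) (c.s.φ 16), ← c.hz (κ (kk j))⁻¹, ← mul_assoc]
      have hmove : ∀ x y : G, x * c.s.φ 16 * y = x * y * c.s.φ 16 := fun x y => by
        rw [mul_assoc, ← c.hz y, mul_assoc]
      simp only [hstep, ← mul_assoc, hmove]
      rw [← hP, e]
      simp only [mul_assoc, h16, mul_one]
  set a : Fin 5 → G := a5 b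
  have hanti : Anti (c.s.φ 16) (fun i : Fin 4 => a i.castSucc) := by
    refine ⟨h16, fun i => (c.hz _).symm, fun i => ?_, fun i j hij => ?_⟩
    · obtain ⟨β, e⟩ := hlift (hqa b hb i.castSucc)
      show a5 b i.castSucc * a5 b i.castSucc = 1
      rw [e, c.s.mul, c.s.eq_one]
      obtain ⟨j, hj⟩ := exists_ne i.castSucc
      exact (anti_codes i.castSucc j hj.symm β β).2
    · obtain ⟨β, e⟩ := hlift (hqa b hb i.castSucc)
      obtain ⟨β', e'⟩ := hlift (hqa b hb j.castSucc)
      show a5 b i.castSucc * a5 b j.castSucc = c.s.φ 16 * (a5 b j.castSucc * a5 b i.castSucc)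
      rw [e, e', c.s.mul, c.s.mul, c.s.mul]
      exact congrArg c.s.φ (anti_codes _ _ (fun h => hij (Fin.castSucc_injective _ h)) β β').1
  have hsub : ∀ j : Fin 5, a j = W (fun i : Fin 4 => a i.castSucc) (sub5 j) := by
    have hinv : ∀ i : Fin 4, (a i.castSucc)⁻¹ = a i.castSucc := fun i =>
      inv_eq_of_mul_eq_one_right (hanti.a_sq i)
    have e4 : a 4 = a 3 * (a 2 * (a 1 * (a 0 * 1))) := by
      have h := eq_inv_of_mul_eq_one_right hprod
      have i0 : (a 0)⁻¹ = a 0 := hinv 0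
      have i1 : (a 1)⁻¹ = a 1 := hinv 1
      have i2 : (a 2)⁻¹ = a 2 := hinv 2
      have i3 : (a 3)⁻¹ = a 3 := hinv 3
      have key : ∀ x y v u w : G, w = (x * y * v * u)⁻¹ → x⁻¹ = x → y⁻¹ = y → v⁻¹ = v → u⁻¹ = u →
          w = u * (v * (y * (x * 1))) := fun x y v u w e e1 e2 e3 e4 => by
        rw [e, mul_inv_rev, mul_inv_rev, mul_inv_rev, e1, e2, e3, e4, mul_one]
      exact key _ _ _ _ _ h i0 i1 i2 i3
    intro j
    fin_cases j
    · exact (mul_one _).symm
    · exact (mul_one _).symm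
    · exact (mul_one _).symm
    · exact (mul_one _).symm
    · exact e4
  have hqW : ∀ l : List (Fin 4), c.qm (W (fun i : Fin 4 => a i.castSucc) l) =
      c.al (l.foldr (fun i y => xr (sv i.castSucc) y) 0) := by
    intro l
    induction l with
    | nil => rw [W_nil, map_one]; exact c.al_zero.symm
    | cons i l ih => rw [W_cons, map_mul, ih, hqa b hb, c.al_mul]; rfl
  have hqmon : ∀ x, c.qm (monA (fun i : Fin 4 => a i.castSucc) x) = c.al x := fun x => by
    rw [monA, hqW, word_sum]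
  have hQmon : ∀ (β : Bool) x, π (zz (c.s.φ 16) β * monA (fun i : Fin 4 => a i.castSucc) x) = 1 := fun β x => by
    rw [← MonoidHom.mem_ker, hker, hQmem, map_mul, hqmon,
      show c.qm (zz (c.s.φ 16) β) = 1 by
        cases β
        · exact map_one _
        · exact (QuotientGroup.eq_one_iff _).2 (mem_zpowers _), one_mul]
    exact c.al_mem x
  refine ⟨⟨c.s.φ 16, fun i => a i.castSucc, κ, hanti, fun k => c.hz _, fun k i => ?_, ?_⟩⟩
  · rw [← hsub]; exact hequiv b hb k i.castSucc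
  constructor
  · rintro ⟨β, x, k⟩ ⟨β', x', k'⟩ h
    have hk : k = k' := Subtype.ext (by
      have := congrArg π h
      simpa [map_mul, hQmon, hπκ] using this)
    subst hk
    have h' := mul_right_cancel h
    have hx : x = x' := by
      have := congrArg c.qm h'
      have hzq : ∀ β, c.qm (zz (c.s.φ 16) β) = 1 := fun β => by
        cases β
        · exact map_one _
        · exact (QuotientGroup.eq_one_iff _).2 (mem_zpowers _)
      rw [map_mul, map_mul, hzq, hzq, one_mul, one_mul, hqmon, hqmon] at this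
      exact c.al_inj this
    subst hx
    have h'' := mul_right_cancel h'
    cases β <;> cases β'
    · rfl
    · exact absurd h''.symm h16ne
    · exact absurd h'' h16ne
    · rfl
  · intro g
    obtain ⟨k, hk⟩ : ∃ k : Alt5, (k : Equiv.Perm (Fin 5)) = π g := ⟨⟨π g, show π g ∈ alternatingGroup (Fin 5) by rw [← hrange]; exact ⟨g, rfl⟩⟩, rfl⟩
    have hgQ : g * (κ k)⁻¹ ∈ c.Q := by
      rw [← hker, MonoidHom.mem_ker, map_mul, map_inv, hπκ, hk, mul_inv_cancel]
    obtain ⟨x, hx⟩ := c.mem_A.1 (hQmem.1 hgQ)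
    rcases c.mem_Z.1 (QuotientGroup.eq.1 ((hqmon x).trans hx.symm)) with e | e
    · refine ⟨(false, x, k), ?_⟩
      rw [inv_mul_eq_one] at e
      show 1 * _ * κ k = g
      rw [one_mul, e, inv_mul_cancel_right]
    · refine ⟨(true, x, k), ?_⟩
      rw [inv_mul_eq_iff_eq_mul] at e
      show c.s.φ 16 * _ * κ k = g
      rw [← c.hz, ← e, inv_mul_cancel_right]

end Ctx

end Cfsg.Agent.Spor.JTwoType
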