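import Cfsg.Agent.Lib.Spor.JTwoType.Frame
import Cfsg.Agent.Lib.Spor.JTwoType.J2
import Cfsg.Agent.Lib.Grp.Frattini
import Cfsg.Agent.Lib.Grp.Cores

/-!
# Centralizers of central involutions for Sylow 2-subgroups of Hall-Janko type
-/

set_option autoImplicit false
set_option linter.unusedSectionVars false
set_option linter.style.haveILetI false
set_option maxRecDepth 100000

namespace Cfsg.Agent.Spor.JTwoType

open Subgroup Cfsg.Spor

universe u v

/-- The centralizer modulo its odd core has a frame. -/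
theorem exists_frame_centralizer {G : Type u} [Group G] [Finite G] (h2 : ∀ H : Subgroup G, H.Normal → H.index ≠ 2)
    (S : Sylow 2 G) (s : Shape (S : Subgroup G))
    [(Cfsg.oddCore ↥(centralizer ({s.φ 16} : Set G))).Normal] :
    Nonempty (Frame (↥(centralizer ({s.φ 16} : Set G)) ⧸ Cfsg.oddCore ↥(centralizer ({s.φ 16} : Set G)))) := by
  classical
  haveI : Fact (Nat.Prime 2) := ⟨Nat.prime_two⟩
  obtain ⟨k, hk16, hk1⟩ := s.exists_fusion h2
  set C := centralizer ({s.φ 16} : Set G)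
  have hSC : (S : Subgroup G) ≤ C := fun x hx => by
    obtain ⟨n, rfl⟩ := s.surj x hx
    exact mem_centralizer_singleton_iff.2 (s.comm_16 n)
  set O := Cfsg.oddCore ↥C
  set SC : Sylow 2 ↥C := S.subtype hSC
  have hSCe : (SC : Subgroup ↥C) = (S : Subgroup G).subgroupOf C := rfl
  let sC : Shape (SC : Subgroup ↥C) := s.ofEquiv ((subgroupOfEquivOfLe hSC).symm.trans (MulEquiv.subgroupCongr hSCe.symm))
  have hval : ∀ n, ((sC.φ n : ↥C) : G) = s.φ n := fun _ => rfl
  have hinj : ∀ x ∈ (SC : Subgroup ↥C), QuotientGroup.mk' O x = 1 → x = 1 := by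
    intro x hx hx1
    have hxO : x ∈ O := (QuotientGroup.eq_one_iff x).1 hx1
    obtain ⟨j, hj⟩ := SC.isPGroup' ⟨x, hx⟩
    have h1 : orderOf x ∣ 2 ^ j := orderOf_dvd_of_pow_eq_one (congrArg Subtype.val hj)
    have h2 : orderOf x ∣ Nat.card ↥O := orderOf_mk x hxO ▸ orderOf_dvd_natCard _
    exact orderOf_eq_one_iff.1 (Nat.dvd_one.1 ((Nat.Coprime.pow_left j (Grp.pPrimeCore_coprime (p := 2) (G := ↥C)).symm).gcd_eq_one ▸
      Nat.dvd_gcd h1 h2))
  let sQ : Shape (SC.mapSurjective (QuotientGroup.mk'_surjective O) : Subgroup (↥C ⧸ O)) :=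
    (sC.map (QuotientGroup.mk' O) hinj).ofEquiv (MulEquiv.subgroupCongr (Sylow.coe_mapSurjective _ _).symm)
  have hval' : ∀ n, sQ.φ n = QuotientGroup.mk' O (sC.φ n) := fun _ => rfl
  refine Ctx.exists_frame ⟨SC.mapSurjective (QuotientGroup.mk'_surjective O), sQ, ?_, ?_, ?_⟩
  · intro q
    obtain ⟨c, rfl⟩ := QuotientGroup.mk'_surjective O q
    rw [hval', ← map_mul, ← map_mul]
    refine congrArg _ (Subtype.ext ?_)
    rw [Subgroup.coe_mul, Subgroup.coe_mul, hval]
    exact mem_centralizer_singleton_iff.1 c.2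
  · exact Grp.pPrimeCore_quotient_eq_bot
  · have hkC : k ∈ C := mem_centralizer_singleton_iff.2 (mul_inv_eq_iff_eq_mul.1 hk16)
    refine ⟨QuotientGroup.mk' O ⟨k, hkC⟩, ?_⟩
    rw [hval', hval', ← map_inv, ← map_mul, ← map_mul]
    refine congrArg _ (Subtype.ext ?_)
    rw [Subgroup.coe_mul, Subgroup.coe_mul, Subgroup.coe_inv, hval, hval]
    exact hk1

/-- The main statement, landing in the Hall-Janko alternative. -/
theorem centralizer_iso {G : Type u} [Group G] [Finite G] (S : Sylow 2 G) (P : Sylow 2 J2)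
    (hS : Nonempty (↥(S : Subgroup G) ≃* ↥(P : Subgroup J2))) (h2 : ∀ H : Subgroup G, H.Normal → H.index ≠ 2)
    (z : G) (hz : orderOf z = 2) (hzS : z ∈ (S : Subgroup G)) (hzc : ∀ s ∈ (S : Subgroup G), s * z = z * s)
    [(Cfsg.oddCore ↥(centralizer ({z} : Set G))).Normal] :
    ∃ (z' : J2) (Q : Sylow 2 J2), orderOf z' = 2 ∧ z' ∈ (Q : Subgroup J2) ∧
        (∀ s ∈ (Q : Subgroup J2), s * z' = z' * s) ∧
        Nonempty ((↥(centralizer ({z} : Set G)) ⧸ Cfsg.oddCore ↥(centralizer ({z} : Set G))) ≃*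
          ↥(centralizer ({z'} : Set J2))) := by
  classical
  haveI : Fact (Nat.Prime 2) := ⟨Nat.prime_two⟩
  obtain ⟨SJ, hSJ, ⟨sJ⟩⟩ := exists_shape_J2
  obtain ⟨e⟩ := hS
  let s : Shape (S : Subgroup G) := sJ.ofEquiv ((Sylow.equiv SJ P).trans e.symm)
  obtain ⟨n, rfl⟩ := s.surj z hzS
  have hn : n = 16 := (s.central fun m => (hzc _ (s.mem m)).symm).resolve_left fun e => by
    rw [e, s.one, orderOf_one] at hz
    omega
  subst hn
  have hJ2 : ∀ H : Subgroup J2, H.Normal → H.index ≠ 2 := by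
    intro H hH hi
    haveI := J2Cert.simple_J2
    rcases IsSimpleGroup.eq_bot_or_eq_top_of_normal H hH with e' | e'
    · rw [e', index_bot, J2Cert.card_J2] at hi
      norm_num at hi
    · rw [e', index_top] at hi
      norm_num at hi
  -- the odd core on the side of the Hall-Janko group is trivial
  set CJ := centralizer ({sJ.φ 16} : Set J2)
  haveI : (Cfsg.oddCore ↥CJ).Normal := Grp.pPrimeCore_isNormal
  obtain ⟨F⟩ := exists_frame_centralizer h2 S s
  obtain ⟨F'⟩ := exists_frame_centralizer hJ2 SJ sJ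
  have hOJ : Cfsg.oddCore ↥CJ = ⊥ := by
    have hcard : Nat.card (↥CJ ⧸ Cfsg.oddCore ↥CJ) = 1920 := by
      rw [← Nat.card_eq_of_bijective _ F'.bij, Nat.card_prod, Nat.card_prod, Nat.card_eq_fintype_card,
        Nat.card_eq_fintype_card, Nat.card_eq_fintype_card, Fintype.card_bool, Fintype.card_fin]
      decide +kernel
    have hzmem : J2Cert.zJ ∈ (SJ : Subgroup J2) := hSJ.symm ▸ J2Cert.Q0_le (J2Cert.zJ_eq ▸ J2Cert.qJ_mem 3)
    obtain ⟨n, hn⟩ := sJ.surj _ hzmem
    have hn16 : n = 16 := by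
      refine (sJ.central fun m => ?_).resolve_left fun e => ?_
      · obtain ⟨c, -, hc⟩ := hSJ.le (sJ.mem m)
        rw [hn, ← hc]
        exact (mem_centralizer_singleton_iff.1 c.2).symm
      · exact Invol.HJ.Uniq.zJ_sq.2 (hn.symm.trans (e ▸ sJ.one))
    have hCJ : CJ = J2Cert.Cz := by
      show centralizer ({sJ.φ 16} : Set J2) = _
      rw [← hn16, hn]
    have hCJcard : Nat.card ↥CJ = 1920 := by
      rw [hCJ, ← Nat.card_eq_of_bijective J2Cert.cz J2Cert.cz_bij, Nat.card_prod, Nat.card_fin, Nat.card_fin]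
    have h1 := (Cfsg.oddCore ↥CJ).card_eq_card_quotient_mul_card_subgroup
    rw [hcard, hCJcard] at h1
    exact Subgroup.card_eq_one.1 (by omega)
  refine ⟨sJ.φ 16, SJ, sJ.orderOf_two.2 cent_one.2.2.2.2.2.2.2.1, sJ.mem 16, fun x hx => ?_,
    ⟨(F.equiv F').trans ((QuotientGroup.quotientMulEquivOfEq hOJ).trans QuotientGroup.quotientBot)⟩⟩
  obtain ⟨m, rfl⟩ := sJ.surj x hx
  exact sJ.comm_16 m

end Cfsg.Agent.Spor.JTwoType
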