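import Mathlib

/-!
# The Sylow 2-subgroup of the Hall-Janko group on 128 codes

A code `n` stands for `z^e a0^x0 a1^x1 a2^x2 a3^x3 h` with `n = x + 16 e + 32 h`.
-/

set_option autoImplicit false
set_option maxRecDepth 100000
set_option maxHeartbeats 4000000

namespace Cfsg.Agent.Spor.JTwoType

/-- Left multiplication of a monomial by a generator: the sign and the new exponents. -/
def stepX (i : Fin 4) (x : Fin 16) : Bool × Fin 16 :=
  (((List.finRange 4).countP fun j => decide (j < i) && Nat.testBit x j) % 2 == 1,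
    ⟨((x : ℕ) ^^^ 2 ^ (i : ℕ)) % 16, Nat.mod_lt _ (by norm_num)⟩)

/-- The normal form of a word. -/
def nfX (l : List (Fin 4)) : Bool × Fin 16 :=
  l.foldr (fun i r => (xor (stepX i r.2).1 r.1, (stepX i r.2).2)) (false, 0)

/-- The word of a monomial. -/
def lst (x : Fin 16) : List (Fin 4) := (List.finRange 4).filter fun i => Nat.testBit x i

/-- The regular action of the four-group on four points. -/
def pI (h i : Fin 4) : Fin 4 := ⟨((h : ℕ) ^^^ (i : ℕ)) % 4, Nat.mod_lt _ (by norm_num)⟩

/-- Signs of products of monomials. -/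
def betaC : ℕ := 40867796217264508184565122775466261096999833863607151025216202233750145204224

/-- Signs of permuted monomials. -/
def reordC : ℕ := 9144566054784598016

/-- Permuted monomials. -/
def permC : ℕ := 112039013230115047637966934924221926408469423091653416316119279244319701348880

/-- The sign of a product of two monomials. -/
def betaF (x y : ℕ) : ℕ := (betaC >>> (16 * x + y)) % 2

/-- The sign of a permuted monomial. -/
def reordF (h x : ℕ) : ℕ := (reordC >>> (16 * h + x)) % 2

/-- A permuted monomial. -/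
def permF (h x : ℕ) : ℕ := (permC >>> (4 * (16 * h + x))) % 16

/-- The product of two codes. -/
def mulN (n m : ℕ) : ℕ :=
  (n % 16 ^^^ permF (n / 32) (m % 16)) +
  16 * ((n / 16 + m / 16 + reordF (n / 32) (m % 16) + betaF (n % 16) (permF (n / 32) (m % 16))) % 2) +
  32 * (n / 32 ^^^ m / 32)

/-- The product on codes. -/
def mulM (n m : Fin 128) : Fin 128 := ⟨mulN n m % 128, Nat.mod_lt _ (by norm_num)⟩

theorem beta_table : ∀ x y : Fin 16,
    nfX (lst x ++ lst y) = (betaF x y == 1, ⟨((x : ℕ) ^^^ (y : ℕ)) % 16, Nat.mod_lt _ (by norm_num)⟩) := by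
  decide +kernel

theorem reord_table : ∀ (h : Fin 4) (x : Fin 16),
    nfX ((lst x).map (pI h)) = (reordF h x == 1, ⟨permF h x % 16, Nat.mod_lt _ (by norm_num)⟩) := by
  decide +kernel

theorem mulM_parts : ∀ n m : Fin 128,
    (mulM n m : ℕ) / 32 = ((n : ℕ) / 32 ^^^ (m : ℕ) / 32) ∧
    (mulM n m : ℕ) % 16 = ((n : ℕ) % 16 ^^^ permF ((n : ℕ) / 32) ((m : ℕ) % 16)) ∧
    (mulM n m : ℕ) / 16 % 2 = ((n : ℕ) / 16 + (m : ℕ) / 16 + reordF ((n : ℕ) / 32) ((m : ℕ) % 16) +
      betaF ((n : ℕ) % 16) (permF ((n : ℕ) / 32) ((m : ℕ) % 16))) % 2 := by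
  decide +kernel

/-- The inverse of a code. -/
def invM (n : Fin 128) : Fin 128 := mulM n (mulM (mulM n n) (mulM (mulM n n) (mulM n n)))

theorem invM_spec : ∀ n : Fin 128, mulM n (invM n) = 0 ∧ mulM (invM n) n = 0 ∧ mulM 0 n = n ∧ mulM n 0 = n := by
  decide +kernel

/-- Commuting codes. -/
def commM (n m : Fin 128) : Bool := mulM n m == mulM m n

/-- Conjugation of codes. -/
def conjM (g n : Fin 128) : Fin 128 := mulM (mulM g n) (invM g)

/-- The centre and the pair of classes of its second term: `1`, `z`, `c`, `cz`. -/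
def inFour (n : Fin 128) : Bool := n == 0 || n == 16 || n == 15 || n == 31

/-- The subgroup of index two, the centraliser of `c`. -/
def inE (n : Fin 128) : Bool := ((List.finRange 4).countP fun i => Nat.testBit n i) % 2 == 0

/-- The elementary abelian subgroup of order sixteen. -/
def inA1 (n : Fin 128) : Bool := (n : ℕ) % 16 == 0 || (n : ℕ) % 16 == 15

/-- Involutions. -/
def isInv (n : Fin 128) : Bool := n != 0 && mulM n n == 0

theorem center_code : ∀ n : Fin 128,
    (commM n 1 && commM n 32 && commM n 64) = true → n = 0 ∨ n = 16 := by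
  decide +kernel

theorem commM_16 : ∀ n : Fin 128, commM n 16 = true ∧ mulM 16 16 = 0 := by decide +kernel

theorem inE_iff : ∀ n : Fin 128, inE n = commM n 15 ∧ inE n = commM n 31 := by decide +kernel

theorem card_inE : (Finset.univ.filter fun n : Fin 128 => inE n = true).card = 64 := by decide +kernel

theorem card_inA1 : (Finset.univ.filter fun n : Fin 128 => inA1 n = true).card = 16 := by decide +kernel

theorem card_four : (Finset.univ.filter fun n : Fin 128 => inFour n = true).card = 4 := by decide +kernel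

theorem invol_card_cent : ∀ w : Fin 128, isInv w = true → inFour w = false →
    (Finset.univ.filter fun m : Fin 128 => commM w m = true).card = 16 := by
  decide +kernel

theorem invol_E : ∀ w : Fin 128, isInv w = true → inE w = true → inFour w = true ∨ (w : ℕ) / 32 ≠ 0 := by
  decide +kernel

theorem invol_outer : ∀ w : Fin 128, isInv w = true → (w : ℕ) / 32 ≠ 0 →
    inE w = true ∧ inFour w = false ∧
    if inA1 w then (∀ m : Fin 128, commM w m = inA1 m) else inA1 (conjM 1 w) = true := by
  decide +kernel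

theorem invol_inner : ∀ w : Fin 128, isInv w = true → inFour w = false → (w : ℕ) / 32 = 0 →
    (∃ m : Fin 128, commM w m = true ∧ mulM m m ≠ 0) ∧ ∃ s : Fin 128, conjM s 1 = w := by
  decide +kernel

theorem cent_one : commM 1 6 = true ∧ mulM 6 6 = 16 ∧ isInv 1 = true ∧ inE 1 = false ∧ inFour 1 = false ∧
    conjM 1 15 = 31 ∧ conjM 1 31 = 15 ∧ isInv 16 = true ∧ isInv 15 = true ∧ isInv 31 = true := by
  decide +kernel

theorem sq_invol : ∀ n : Fin 128, mulM (mulM n n) (mulM n n) = 0 → inFour (mulM n n) = true := by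
  decide +kernel

theorem A1_facts : ∀ n : Fin 128, inA1 n = true → mulM n n = 0 ∧ ∀ m : Fin 128, inA1 m = true →
    commM n m = true ∧ inA1 (mulM n m) = true := by
  decide +kernel

theorem A1_not_normal : inA1 32 = true ∧ inA1 (conjM 1 32) = false := by decide +kernel

theorem E_acts : ∀ q : Fin 128, inE q = true → inA1 (mulM q q) = true ∧ ∀ x : Fin 128, inA1 x = true →
    inA1 (conjM q x) = true ∧ inFour (mulM (invM x) (conjM q x)) = true := by
  decide +kernel

theorem transv_first : ∀ p : Fin 128, inA1 p = true → inFour p = false →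
    ∃ q : Fin 128, inE q = true ∧ (conjM q p = mulM p 15 ∨ conjM q p = mulM p 31) := by
  decide +kernel

theorem transv_second : ∀ y : Fin 128, inA1 y = true → inFour y = false →
    ∃ q : Fin 128, inE q = true ∧ inA1 q = false ∧ (conjM q y = y ∨ conjM q y = mulM y 16) := by
  decide +kernel

theorem transv_moves : ∀ q : Fin 128, inE q = true → inA1 q = false →
    ∃ x : Fin 128, inA1 x = true ∧ (conjM q x = mulM x 15 ∨ conjM q x = mulM x 31) := by
  decide +kernel

theorem sq_sixteen : ∀ n : Fin 128, mulM n n = 16 → (n : ℕ) / 32 = 0 := by decide +kernel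

theorem outer_lift : ∀ n : Fin 128, (n : ℕ) / 32 ≠ 0 → (mulM n n = 0 ∨ mulM n n = 16) → mulM n n = 0 := by
  decide +kernel

theorem cent_base : ∀ n : Fin 128, (n : ℕ) / 32 ≠ 0 →
    ∃ q : Fin 128, (q : ℕ) / 32 = 0 ∧ mulM n q ≠ mulM q n ∧ mulM n q ≠ mulM 16 (mulM q n) := by
  decide +kernel

end Cfsg.Agent.Spor.JTwoType
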