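import Cfsg.Agent.Lib.Spor.JTwoType.Fusion

/-!
# Outer involutions are not fused to `c` in a group centralising `z`
-/

set_option autoImplicit false
set_option linter.unusedSectionVars false
set_option linter.style.haveILetI false

namespace Cfsg.Agent.Spor.JTwoType

open Subgroup

theorem four_conj : ∀ n : Fin 128, inFour n = true → ∀ g : Fin 128, inFour (conjM g n) = true := by
  decide +kernel

theorem outer_conj : ∀ n : Fin 128, inA1 n = true → inFour n = false → (n : ℕ) / 32 ≠ 0 ∧ isInv n = true := by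
  decide +kernel

theorem inner_not_A1 : ∀ w : Fin 128, isInv w = true → inFour w = false → (w : ℕ) / 32 = 0 → inA1 w = false := by
  decide +kernel

theorem four_mul : ∀ R : Fin 128, inFour R = true → ∀ d, d = 15 ∨ d = 31 →
    inFour (mulM R 16) = true ∧ (mulM d 16 = 15 ∨ mulM d 16 = 31) ∧ inFour d = true ∧ inA1 R = true ∧
    inA1 (mulM R 16) = true ∧ inE d = true := by
  decide +kernel

variable {G : Type*} [Group G] [Finite G]

namespace Shape

variable {S : Sylow 2 G} (s : Shape (S : Subgroup G))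

theorem comm_subA {x y : G} (hx : x ∈ s.subA) (hy : y ∈ s.subA) : x * y = y * x := by
  obtain ⟨n, hn, rfl⟩ := hx
  obtain ⟨m, hm, rfl⟩ := hy
  exact s.commute.2 ((A1_facts n hn).2 m hm).1

theorem sq_subA {x : G} (hx : x ∈ s.subA) : x * x = 1 := by
  obtain ⟨n, hn, rfl⟩ := hx
  exact s.sq.2 (A1_facts n hn).1

theorem card_subA : Nat.card ↥s.subA = 16 := by rw [subA, s.card_sub, card_inA1]

/-- An elementary abelian subgroup of order sixteen is one of two. -/
theorem sixteen {B : Subgroup G} (hBS : B ≤ (S : Subgroup G)) (hB : Nat.card ↥B = 16)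
    (hsq : ∀ x ∈ B, x * x = 1) (hcomm : ∀ x ∈ B, ∀ y ∈ B, x * y = y * x) :
    B = s.subA ∨ cI (s.φ 1) B = s.subA := by
  obtain ⟨n, hnB, hn4⟩ : ∃ n, s.φ n ∈ B ∧ inFour n = false := by
    by_contra h
    push Not at h
    have hle : B ≤ (s.sub inFour (by decide +kernel) (by decide +kernel)) := fun x hx => by
      obtain ⟨n, rfl⟩ := s.surj x (hBS hx)
      exact s.mem_sub.2 (by simpa using h n hx)
    have := Subgroup.card_le_of_le hle
    rw [s.card_sub, card_four, hB] at this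
    omega
  have hn0 : n ≠ 0 := fun e => by rw [e] at hn4; revert hn4; decide +kernel
  have hni : isInv n = true := by
    rw [isInv, Bool.and_eq_true, bne_iff_ne, beq_iff_eq]
    exact ⟨hn0, s.sq.1 (hsq _ hnB)⟩
  have key : ∀ (m : Fin 128) (C : Subgroup G), C ≤ (S : Subgroup G) → Nat.card ↥C = 16 →
      (∀ x ∈ C, ∀ y ∈ C, x * y = y * x) → s.φ m ∈ C → isInv m = true → inFour m = false → C = s.centS m := by
    intro m C hCS hC hCc hm hmi hm4
    exact Subgroup.eq_of_le_of_card_ge (s.le_centS hCS fun b hb => hCc _ hm _ hb)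
      (by rw [hC, s.card_centS_small hmi hm4])
  have hA : ∀ m, isInv m = true → inA1 m = true → inFour m = false → s.centS m = s.subA := fun m hmi hmA hm4 => by
    have hcase := (invol_outer m hmi (outer_conj m hmA hm4).1).2.2
    rw [if_pos hmA] at hcase
    ext x
    constructor
    · rintro ⟨k, hk, rfl⟩; exact s.mem_sub.2 (hcase k ▸ hk)
    · rintro ⟨k, hk, rfl⟩; exact s.mem_sub.2 ((hcase k).symm ▸ hk)
  by_cases hh : (n : ℕ) / 32 = 0
  · exfalso
    obtain ⟨⟨m, hm, hmm⟩, -⟩ := invol_inner n hni hn4 hh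
    have hmB : s.φ m ∈ B := by rw [key n B hBS hB hcomm hnB hni hn4]; exact s.mem_sub.2 hm
    exact hmm (s.sq.1 (hsq _ hmB))
  obtain ⟨-, -, hcase⟩ := invol_outer n hni hh
  by_cases hnA : inA1 n = true
  · exact Or.inl (by rw [key n B hBS hB hcomm hnB hni hn4, hA n hni hnA hn4])
  · rw [if_neg hnA] at hcase
    refine Or.inr ?_
    have hm : inA1 (conjM 1 n) = true := by simpa using hcase
    have hmi : isInv (conjM 1 n) = true := s.isInv_of_conj hni (s.conj 1 n)
    have hm4 : inFour (conjM 1 n) = false := by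
      by_contra h
      have h' := four_conj _ (by simpa using h) (invM 1)
      have hback : ∀ n : Fin 128, conjM (invM 1) (conjM 1 n) = n := by decide +kernel
      rw [hback] at h'
      simp [h'] at hn4
    rw [key (conjM 1 n) (cI (s.φ 1) B) ?_ (by rw [card_cI, hB]) ?_ (s.conj 1 n ▸ mem_cI hnB) hmi hm4, hA _ hmi hm hm4]
    · rintro _ ⟨b, hb, rfl⟩
      exact (S : Subgroup G).mul_mem ((S : Subgroup G).mul_mem (s.mem 1) (hBS hb)) ((S : Subgroup G).inv_mem (s.mem 1))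
    · rintro _ ⟨x, hx, rfl⟩ _ ⟨y, hy, rfl⟩
      show s.φ 1 * x * (s.φ 1)⁻¹ * (s.φ 1 * y * (s.φ 1)⁻¹) = s.φ 1 * y * (s.φ 1)⁻¹ * (s.φ 1 * x * (s.φ 1)⁻¹)
      calc _ = s.φ 1 * (x * y) * (s.φ 1)⁻¹ := by group
        _ = s.φ 1 * (y * x) * (s.φ 1)⁻¹ := by rw [hcomm x hx y hy]
        _ = _ := by group

/-- The square of a 2-element normalising the elementary subgroup centralises it. -/
theorem sq_centralizes {n : G} (hn : ∃ j : ℕ, n ^ 2 ^ j = 1) (hnA : n ∈ normalizer (s.subA : Set G)) :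
    ∀ x ∈ s.subA, n * n * x = x * (n * n) := by
  set N := normalizer (s.subA : Set G)
  have hEN : s.subE ≤ N := by
    rintro _ ⟨q, hq, rfl⟩
    refine Subgroup.mem_normalizer_fintype fun x hx => ?_
    obtain ⟨m, hm, rfl⟩ := hx
    rw [s.conj]
    exact s.mem_sub.2 ((E_acts q hq).2 m hm).1
  have hz : IsPGroup 2 ↥(zpowers n) := by
    obtain ⟨j, hj⟩ := hn
    intro g
    obtain ⟨l, hl⟩ := mem_zpowers_iff.1 g.2
    refine ⟨j, Subtype.ext ?_⟩
    show (g : G) ^ 2 ^ j = 1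
    rw [← hl, ← zpow_natCast, zpow_comm, zpow_natCast, hj, one_zpow]
  obtain ⟨k, hk, P, hP, hPN, hEP, hnP⟩ := align N (zpowers n) s.subE hz (zpowers_le.2 hnA)
    (S.isPGroup'.to_le s.sub_le) hEN
  obtain ⟨g, hg⟩ := conj_into S hP
  have hE : Nat.card ↥s.subE = 64 := by rw [subE, s.card_sub, card_inE]
  have hcard : Nat.card ↥P ≤ 64 := by
    by_contra hlt
    have hdvd := Subgroup.card_dvd_of_le hg
    rw [card_cI, s.card] at hdvd
    have h128 : Nat.card ↥P = 128 := by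
      obtain ⟨i, -, hi⟩ := (Nat.dvd_prime_pow Nat.prime_two (m := 7)).1 (by simpa using hdvd)
      rcases Nat.lt_or_ge i 7 with h | h
      · have := Nat.pow_le_pow_right two_pos (Nat.le_of_lt_succ (show i < 6 + 1 by omega))
        omega
      · have : i = 7 := by
          have h' : 2 ^ i ≤ 2 ^ 7 := hi ▸ Nat.le_of_dvd (by norm_num) (by simpa using hdvd)
          exact le_antisymm ((Nat.pow_le_pow_iff_right (le_refl 2)).1 h') h
        rw [hi, this]; norm_num
    have hgS : cI g P = (S : Subgroup G) := Subgroup.eq_of_le_of_card_ge hg (by rw [card_cI, s.card, h128])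
    set B := cI g s.subA
    have hAP : s.subA ≤ P := fun x hx => hEP (by
      obtain ⟨m, hm, rfl⟩ := hx
      have : ∀ m, inA1 m = true → inE m = true := by decide +kernel
      exact s.mem_sub.2 (this m hm))
    have hBS : B ≤ (S : Subgroup G) := hgS ▸ Subgroup.map_mono hAP
    have hBn : ∀ x ∈ (S : Subgroup G), ∀ b ∈ B, x * b * x⁻¹ ∈ B := by
      intro x hx b hb
      rw [← hgS] at hx
      obtain ⟨p, hp, rfl⟩ := hx
      obtain ⟨a, ha, rfl⟩ := hb
      refine ⟨p * a * p⁻¹, (mem_normalizer_iff.1 (hPN hp) a).1 ha, ?_⟩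
      simp [mul_assoc]
    rcases s.sixteen hBS (by rw [card_cI, s.card_subA]) (fun x hx => by
        obtain ⟨a, ha, rfl⟩ := hx; rw [← map_mul, s.sq_subA ha, map_one])
      (fun x hx y hy => by
        obtain ⟨a, ha, rfl⟩ := hx; obtain ⟨b, hb, rfl⟩ := hy
        rw [← map_mul, ← map_mul, s.comm_subA ha hb]) with e | e
    · have h := hBn _ (s.mem 1) (s.φ 32) (e ▸ s.mem_sub.2 A1_not_normal.1)
      rw [e, s.conj, subA, s.mem_sub] at h
      simp [A1_not_normal.2] at h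
    · have hsub : cI (s.φ 1) B = B := by
        refine Subgroup.eq_of_le_of_card_ge ?_ (by rw [card_cI (s.φ 1)])
        rintro _ ⟨b, hb, rfl⟩
        exact hBn _ (s.mem 1) b hb
      rw [hsub] at e
      have h := hBn _ (s.mem 1) (s.φ 32) (e ▸ s.mem_sub.2 A1_not_normal.1)
      rw [e, s.conj, subA, s.mem_sub] at h
      simp [A1_not_normal.2] at h
  have hPE : s.subE = P := Subgroup.eq_of_le_of_card_ge hEP (by omega)
  have hnE : k * n * k⁻¹ ∈ s.subE := hPE ▸ hnP (mem_cI (mem_zpowers n))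
  obtain ⟨q, hq, hqe⟩ := hnE
  intro x hx
  have hkx : k * x * k⁻¹ ∈ s.subA := (mem_normalizer_iff.1 hk x).1 hx
  have hqA : k * (n * n) * k⁻¹ ∈ s.subA := by
    have : k * (n * n) * k⁻¹ = s.φ (mulM q q) := by
      rw [← s.mul, hqe]; group
    rw [this]
    exact s.mem_sub.2 (E_acts q hq).1
  have h := s.comm_subA hqA hkx
  calc n * n * x = k⁻¹ * (k * (n * n) * k⁻¹ * (k * x * k⁻¹)) * k := by group
    _ = k⁻¹ * (k * x * k⁻¹ * (k * (n * n) * k⁻¹)) * k := by rw [h]
    _ = _ := by group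

/-- An element cannot move an outer involution of the elementary subgroup to `c` inside its normalizer. -/
theorem normalizer_not_moves (hz : ∀ g : G, g * s.φ 16 = s.φ 16 * g) {k : G}
    (hk : k ∈ normalizer (s.subA : Set G)) {w m : Fin 128} (hwA : inA1 w = true) (hw4 : inFour w = false)
    (hm : m = 15 ∨ m = 31) (hkw : k * s.φ w * k⁻¹ = s.φ m) : False := by
  have hzc : ∀ g : G, g * s.φ 16 * g⁻¹ = s.φ 16 := fun g => by rw [hz g, mul_inv_cancel_right]
  have h15A : ∀ d, d = 15 ∨ d = 31 → s.φ d ∈ s.subA := fun d hd => s.mem_sub.2 (by rcases hd with rfl | rfl <;> decide +kernel)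
  -- the preimage `y` and the image `p` of `c`
  obtain ⟨y, hy, hye⟩ := (mem_normalizer_iff''.1 hk _).1 (h15A 15 (Or.inl rfl))
  obtain ⟨p, hp, hpe⟩ := (mem_normalizer_iff.1 hk _).1 (h15A 15 (Or.inl rfl))
  change s.φ p = k * s.φ 15 * k⁻¹ at hpe
  change s.φ y = k⁻¹ * s.φ 15 * k at hye
  have h31 : s.φ 31 = s.φ 15 * s.φ 16 := by
    rw [s.mul]; exact congrArg s.φ (by decide +kernel)
  have hy4 : inFour y = false := by
    by_contra h
    have hyi : isInv y = true := s.isInv_of_conj (g := k⁻¹) cent_one.2.2.2.2.2.2.2.2.1 (by rw [hye]; group)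
    rcases isInv_four hyi (by simpa using h) with e | e
    · rw [e] at hye
      have : k * s.φ 16 * k⁻¹ = s.φ 15 := by rw [hye]; group
      rw [hzc] at this
      exact absurd (s.inj this) (by decide)
    · -- then `w` is `c` or `cz`
      have hy15 : k * s.φ y * k⁻¹ = s.φ 15 := by rw [hye]; group
      have hw : w = y ∨ w = mulM y 16 := by
        rcases hm with rfl | rfl
        · exact Or.inl (s.inj (mul_left_cancel (mul_right_cancel (hkw.trans hy15.symm))))
        · refine Or.inr (s.inj (mul_left_cancel (mul_right_cancel (b := k⁻¹) (hkw.trans ?_))))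
          rw [← s.mul, h31, show k * (s.φ y * s.φ 16) * k⁻¹ = k * s.φ y * k⁻¹ * (k * s.φ 16 * k⁻¹) by group, hy15, hzc]
      rcases hw with rfl | rfl
      · rcases e with rfl | rfl <;> revert hw4 <;> decide +kernel
      · have := (four_mul y (by rcases e with rfl | rfl <;> decide +kernel) 15 (Or.inl rfl)).1
        simp [this] at hw4
  have hp4 : inFour p = false := by
    by_contra h
    have hpi : isInv p = true := s.isInv_of_conj (g := k) cent_one.2.2.2.2.2.2.2.2.1 hpe.symm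
    rcases isInv_four hpi (by simpa using h) with e | e
    · rw [e] at hpe
      have := hpe.trans (show _ = _ from rfl)
      rw [← hzc k] at this
      exact absurd (s.inj (mul_left_cancel (mul_right_cancel this))) (by decide)
    · have hcase : w = 15 ∨ w = 31 := by
        have h31' : k * s.φ 31 * k⁻¹ = s.φ p * s.φ 16 := by
          rw [h31, show k * (s.φ 15 * s.φ 16) * k⁻¹ = k * s.φ 15 * k⁻¹ * (k * s.φ 16 * k⁻¹) by group, hzc, hpe]
        rcases eq_or_ne p m with rfl | hne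
        · exact Or.inl (s.inj (mul_left_cancel (mul_right_cancel (hkw.trans hpe))))
        · refine Or.inr (s.inj (mul_left_cancel (mul_right_cancel (hkw.trans ?_))))
          rw [h31', s.mul]
          refine congrArg s.φ ?_
          rcases e with rfl | rfl <;> rcases hm with rfl | rfl <;>
            first | exact absurd rfl hne | decide +kernel
      rcases hcase with rfl | rfl <;> revert hw4 <;> decide +kernel
  -- two transvections
  obtain ⟨q1, hq1, hq1p⟩ := transv_first p hp hp4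
  obtain ⟨q2, hq2, hq2A, hq2y⟩ := transv_second y hy hy4
  obtain ⟨x0, hx0, hx0d⟩ := transv_moves q2 hq2 hq2A
  obtain ⟨d, hd, hdx⟩ : ∃ d, (d = 15 ∨ d = 31) ∧ conjM q2 x0 = mulM x0 d := by
    rcases hx0d with e | e
    exacts [⟨15, Or.inl rfl, e⟩, ⟨31, Or.inr rfl, e⟩]
  obtain ⟨e0, he0, hq1e⟩ : ∃ e, (e = 15 ∨ e = 31) ∧ conjM q1 p = mulM p e := by
    rcases hq1p with e | e
    exacts [⟨15, Or.inl rfl, e⟩, ⟨31, Or.inr rfl, e⟩]
  set ψ := k * s.φ q2 * k⁻¹
  set Wl := s.φ q1 * ψ with hWl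
  have hψN : ψ ∈ normalizer (s.subA : Set G) := mul_mem (mul_mem hk (Subgroup.mem_normalizer_fintype fun a ha => by
    obtain ⟨n, hn, rfl⟩ := ha
    rw [s.conj]; exact s.mem_sub.2 ((E_acts q2 hq2).2 n hn).1)) (inv_mem hk)
  have hWN : Wl ∈ normalizer (s.subA : Set G) := mul_mem (Subgroup.mem_normalizer_fintype fun a ha => by
    obtain ⟨n, hn, rfl⟩ := ha
    rw [s.conj]; exact s.mem_sub.2 ((E_acts q1 hq1).2 n hn).1) hψN
  let f : G →* G := (MulAut.conj Wl).toMonoidHom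
  have hf : ∀ g, f g = s.φ q1 * (ψ * g * ψ⁻¹) * (s.φ q1)⁻¹ := fun g => by
    show Wl * g * Wl⁻¹ = _
    rw [hWl]; group
  have hfz : f (s.φ 16) = s.φ 16 := hzc Wl
  have hψ15 : ψ * s.φ 15 * ψ⁻¹ = s.φ 15 ∨ ψ * s.φ 15 * ψ⁻¹ = s.φ 15 * s.φ 16 := by
    have e : ψ * s.φ 15 * ψ⁻¹ = k * (s.φ q2 * s.φ y * (s.φ q2)⁻¹) * k⁻¹ := by
      simp only [ψ, hye]; group
    rw [e, s.conj]
    rcases hq2y with h | h <;> rw [h]
    · exact Or.inl (by rw [hye]; group)
    · refine Or.inr ?_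
      rw [← s.mul, show k * (s.φ y * s.φ 16) * k⁻¹ = k * s.φ y * k⁻¹ * (k * s.φ 16 * k⁻¹) by group, hzc, hye]
      group
  have hqfix : ∀ q, inE q = true → ∀ d, d = 15 ∨ d = 31 → s.φ q * s.φ d * (s.φ q)⁻¹ = s.φ d := by
    intro q hq d hd
    refine mul_inv_eq_iff_eq_mul.2 (s.commute.2 ?_)
    rcases hd with rfl | rfl
    · rw [← (inE_iff q).1]; exact hq
    · rw [← (inE_iff q).2]; exact hq
  have hf15 : ∀ d, d = 15 ∨ d = 31 → f (s.φ d) = s.φ d ∨ f (s.φ d) = s.φ d * s.φ 16 := by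
    have hb : f (s.φ 15) = s.φ 15 ∨ f (s.φ 15) = s.φ 15 * s.φ 16 := by
      rw [hf]
      rcases hψ15 with h | h <;> rw [h]
      · exact Or.inl (hqfix q1 hq1 15 (Or.inl rfl))
      · refine Or.inr ?_
        rw [show s.φ q1 * (s.φ 15 * s.φ 16) * (s.φ q1)⁻¹ =
          s.φ q1 * s.φ 15 * (s.φ q1)⁻¹ * (s.φ q1 * s.φ 16 * (s.φ q1)⁻¹) by group, hqfix q1 hq1 15 (Or.inl rfl), hzc]
    intro d hd
    rcases hd with rfl | rfl
    · exact hb
    · rw [h31, map_mul, hfz]
      rcases hb with h | h <;> rw [h]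
      · exact Or.inl rfl
      · exact Or.inr rfl
  have hfR : ∀ R, inFour R = true → ∃ Z : G, (Z = 1 ∨ Z = s.φ 16) ∧ f (s.φ R) = s.φ R * Z := by
    have key : ∀ R : Fin 128, inFour R = true → R = 0 ∨ R = 16 ∨ R = 15 ∨ R = 31 := by decide +kernel
    intro R hR
    rcases key R hR with rfl | rfl | h
    · exact ⟨1, Or.inl rfl, by rw [s.one, map_one, one_mul]⟩
    · exact ⟨1, Or.inl rfl, by rw [hfz, mul_one]⟩
    · rcases hf15 R h with e | e
      · exact ⟨1, Or.inl rfl, by rw [e, mul_one]⟩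
      · exact ⟨_, Or.inr rfl, e⟩
  set x := k * s.φ x0 * k⁻¹
  set P' := k * s.φ d * k⁻¹
  have hxA : x ∈ s.subA := (mem_normalizer_iff.1 hk _).1 (s.mem_sub.2 hx0)
  have hPA : P' ∈ s.subA := (mem_normalizer_iff.1 hk _).1 (h15A d hd)
  have hfP : f P' = P' * s.φ e0 := by
    have h1 : ψ * P' * ψ⁻¹ = P' := by
      simp only [ψ, P']
      calc k * s.φ q2 * k⁻¹ * (k * s.φ d * k⁻¹) * (k * s.φ q2 * k⁻¹)⁻¹
          = k * (s.φ q2 * s.φ d * (s.φ q2)⁻¹) * k⁻¹ := by group
        _ = _ := by rw [hqfix q2 hq2 d hd]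
    rw [hf, h1]
    have hP' : P' = s.φ p ∨ P' = s.φ p * s.φ 16 := by
      rcases hd with rfl | rfl
      · exact Or.inl hpe.symm
      · refine Or.inr ?_
        simp only [P']
        rw [h31, show k * (s.φ 15 * s.φ 16) * k⁻¹ = k * s.φ 15 * k⁻¹ * (k * s.φ 16 * k⁻¹) by group, hzc, hpe]
    rcases hP' with h | h <;> rw [h]
    · rw [s.conj, hq1e, s.mul]
    · rw [show s.φ q1 * (s.φ p * s.φ 16) * (s.φ q1)⁻¹ =
        s.φ q1 * s.φ p * (s.φ q1)⁻¹ * (s.φ q1 * s.φ 16 * (s.φ q1)⁻¹) by group, hzc, s.conj, hq1e, ← s.mul,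
        mul_assoc, mul_assoc, hz (s.φ e0)]
  obtain ⟨R, hR4, hfx⟩ : ∃ R, inFour R = true ∧ f x = x * s.φ R * P' * s.φ e0 := by
    have h1 : ψ * x * ψ⁻¹ = x * P' := by
      simp only [ψ, x, P']
      calc k * s.φ q2 * k⁻¹ * (k * s.φ x0 * k⁻¹) * (k * s.φ q2 * k⁻¹)⁻¹
          = k * (s.φ q2 * s.φ x0 * (s.φ q2)⁻¹) * k⁻¹ := by group
        _ = k * (s.φ x0 * s.φ d) * k⁻¹ := by rw [s.conj, hdx, s.mul]
        _ = _ := by group
    obtain ⟨n, hn, hne⟩ := hxA
    refine ⟨mulM (invM n) (conjM q1 n), ((E_acts q1 hq1).2 n hn).2, ?_⟩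
    rw [hf, h1, show s.φ q1 * (x * P') * (s.φ q1)⁻¹ =
      s.φ q1 * x * (s.φ q1)⁻¹ * (s.φ q1 * P' * (s.φ q1)⁻¹) by group]
    have h2 : s.φ q1 * P' * (s.φ q1)⁻¹ = P' * s.φ e0 := by
      have := hfP
      rw [hf] at this
      have hψP : ψ * P' * ψ⁻¹ = P' := by
        simp only [ψ, P']
        calc k * s.φ q2 * k⁻¹ * (k * s.φ d * k⁻¹) * (k * s.φ q2 * k⁻¹)⁻¹
            = k * (s.φ q2 * s.φ d * (s.φ q2)⁻¹) * k⁻¹ := by group
          _ = _ := by rw [hqfix q2 hq2 d hd]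
      rwa [hψP] at this
    rw [h2, ← hne, s.conj]
    have : s.φ n * s.φ (mulM (invM n) (conjM q1 n)) = s.φ (conjM q1 n) := by
      rw [← s.mul, ← s.inv, mul_inv_cancel_left]
    rw [this, mul_assoc (s.φ (conjM q1 n))]
  obtain ⟨Z1, hZ1, hfR'⟩ := hfR R hR4
  obtain ⟨Z2, hZ2, hfe⟩ := hfR e0 (by rcases he0 with rfl | rfl <;> decide +kernel)
  have hzA : ∀ Z : G, Z = 1 ∨ Z = s.φ 16 → Z ∈ s.subA := by
    rintro Z (rfl | rfl)
    · exact one_mem _
    · exact s.mem_sub.2 (by decide +kernel)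
  have hRA : s.φ R ∈ s.subA := s.mem_sub.2 (four_mul R hR4 15 (Or.inl rfl)).2.2.2.1
  have hCA : s.φ e0 ∈ s.subA := h15A e0 he0
  -- the square
  have hff : f (f x) = x * (s.φ e0 * (Z1 * Z2)) := by
    conv_lhs => rw [hfx, map_mul, map_mul, map_mul, hfx, hfR', hfP, hfe]
    haveI : IsMulCommutative ↥s.subA := ⟨⟨fun a b => Subtype.ext (s.comm_subA a.2 b.2)⟩⟩
    open scoped IsMulCommutative in
    letI : CommGroup ↥s.subA := inferInstance
    let X : ↥s.subA := ⟨x, hxA⟩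
    let R' : ↥s.subA := ⟨_, hRA⟩
    let P'' : ↥s.subA := ⟨P', hPA⟩
    let C : ↥s.subA := ⟨_, hCA⟩
    let U : ↥s.subA := ⟨Z1, hzA _ hZ1⟩
    let V : ↥s.subA := ⟨Z2, hzA _ hZ2⟩
    have hs : ∀ a : ↥s.subA, a * a = 1 := fun a => Subtype.ext (s.sq_subA a.2)
    have e : X * R' * P'' * C * (R' * U) * (P'' * C) * (C * V) = X * (C * (U * V)) := by
      calc X * R' * P'' * C * (R' * U) * (P'' * C) * (C * V)
          = X * (C * (U * V)) * ((R' * R') * (P'' * P'') * (C * C)) := by ac_rfl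
        _ = _ := by simp only [hs, mul_one]
    exact congrArg Subtype.val e
  obtain ⟨d', hd', hd'e⟩ : ∃ d', (d' = 15 ∨ d' = 31) ∧ s.φ e0 * (Z1 * Z2) = s.φ d' := by
    have hflip : mulM e0 16 = 15 ∨ mulM e0 16 = 31 := (four_mul 0 (by decide +kernel) e0 he0).2.1
    rcases hZ1 with rfl | rfl <;> rcases hZ2 with rfl | rfl
    · exact ⟨e0, he0, by rw [one_mul, mul_one]⟩
    · exact ⟨_, hflip, by rw [one_mul, s.mul]⟩
    · exact ⟨_, hflip, by rw [mul_one, s.mul]⟩
    · exact ⟨e0, he0, by rw [s.mul 16, (commM_16 0).2, s.one, mul_one]⟩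
  rw [hd'e] at hff
  have hdd : f (f (s.φ d')) = s.φ d' := by
    rcases hf15 d' hd' with e | e
    · rw [e, e]
    · rw [e, map_mul, e, hfz, mul_assoc, s.mul 16, (commM_16 0).2, s.one, mul_one]
  have hne : f (f x) ≠ x := by
    rw [hff]
    intro e
    rw [mul_eq_left, s.eq_one] at e
    rcases hd' with rfl | rfl <;> exact absurd e (by decide)
  have h4 : f (f (f (f x))) = x := by
    rw [hff, map_mul, map_mul, hff, hdd, mul_assoc, s.sq_subA (h15A d' hd'), mul_one]
  -- kill the odd part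
  obtain ⟨j, o, ho, hjo⟩ := Nat.exists_eq_two_pow_mul_odd (orderOf_pos Wl).ne'
  obtain ⟨i, rfl⟩ := ho
  set n := Wl ^ (2 * i + 1)
  have hn2 : ∃ j : ℕ, n ^ 2 ^ j = 1 := ⟨j, by rw [← pow_mul, mul_comm, ← hjo, pow_orderOf_eq_one]⟩
  have hc := s.sq_centralizes hn2 (pow_mem hWN _) x hxA
  have hpow : ∀ (l : ℕ), Wl ^ (4 * l) * x = x * Wl ^ (4 * l) := by
    intro l
    have h4' : Commute (Wl ^ 4) x := by
      have e : f (f (f (f x))) = Wl ^ 4 * x * (Wl ^ 4)⁻¹ := by
        show Wl * (Wl * (Wl * (Wl * x * Wl⁻¹) * Wl⁻¹) * Wl⁻¹) * Wl⁻¹ = _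
        simp only [pow_succ, pow_zero, one_mul, mul_inv_rev, mul_assoc]
      rw [h4] at e
      exact mul_inv_eq_iff_eq_mul.1 e.symm
    rw [pow_mul]
    exact (h4'.pow_left l).eq
  refine hne ?_
  have e1 : n * n = Wl ^ (4 * i) * (Wl * Wl) := by
    rw [← pow_add, show 2 * i + 1 + (2 * i + 1) = 4 * i + 2 by ring, pow_add, pow_two]
  have e2 : f (f x) = Wl * Wl * x * (Wl * Wl)⁻¹ := by
    show Wl * (Wl * x * Wl⁻¹) * Wl⁻¹ = _
    group
  rw [e2, mul_inv_eq_iff_eq_mul]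
  rw [e1, ← mul_assoc x, ← hpow i, mul_assoc, mul_assoc (Wl ^ (4 * i)) x] at hc
  exact mul_left_cancel hc

/-- An outer involution is not conjugate to `c` or `cz`. -/
theorem outer_not_conj (hz : ∀ g : G, g * s.φ 16 = s.φ 16 * g) {w m : Fin 128} (hwi : isInv w = true)
    (hwh : (w : ℕ) / 32 ≠ 0) (hm : m = 15 ∨ m = 31) (g : G) (hg : g * s.φ w * g⁻¹ = s.φ m) : False := by
  -- we may assume that `w` lies in the elementary subgroup
  obtain ⟨w, g, hwA, hw4, hwi, hg⟩ : ∃ (w : Fin 128) (g : G), inA1 w = true ∧ inFour w = false ∧ isInv w = true ∧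
      g * s.φ w * g⁻¹ = s.φ m := by
    obtain ⟨-, hw4, hcase⟩ := invol_outer w hwi hwh
    by_cases hA : inA1 w = true
    · exact ⟨w, g, hA, hw4, hwi, hg⟩
    rw [if_neg hA] at hcase
    refine ⟨conjM 1 w, g * (s.φ 1)⁻¹, by simpa using hcase, ?_, s.isInv_of_conj hwi (s.conj 1 w), ?_⟩
    · by_contra h
      have h' := four_conj _ (by simpa using h) (invM 1)
      have hback : ∀ n : Fin 128, conjM (invM 1) (conjM 1 n) = n := by decide +kernel
      rw [hback] at h'
      simp [h'] at hw4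
    · rw [← s.conj, ← hg]; group
  have hD : Nat.card ↥(s.centS m) = 64 := by rw [s.centS_eq_subE hm, subE, s.card_sub, card_inE]
  have hwc : ∀ b ∈ s.subA, s.φ w * b = b * s.φ w := fun b hb => s.comm_subA (s.mem_sub.2 hwA) hb
  obtain ⟨h, hh, P, hP, hPC, hDP, hBP⟩ := align (centralizer ({s.φ m} : Set G)) (cI g s.subA) (s.centS m)
    ((S.isPGroup'.to_le s.sub_le).map _) (fun b hb => mem_centralizer_singleton_iff.2 (by
      have := cI_centralizes (g := g) hwc b hb
      rw [hg] at this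
      exact this.symm)) (s.centS_pgroup m) (s.centS_le_cent m)
  obtain ⟨g', hg'⟩ := conj_into S hP
  have hmS : s.φ m ∈ P := hDP (s.mem_sub.2 (s.commute.1 rfl))
  obtain ⟨m', hm'⟩ := s.surj _ (hg' (mem_cI hmS))
  have hcent : ∀ b ∈ cI g' P, s.φ m' * b = b * s.φ m' := by
    rw [hm']
    exact cI_centralizes fun b hb => (mem_centralizer_singleton_iff.1 (hPC hb)).symm
  have hP64 := Subgroup.card_le_of_le hDP
  have hm'i : isInv m' = true := s.isInv_of_conj (n := m) (g := g') (by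
    rcases hm with rfl | rfl <;> decide +kernel) hm'.symm
  have hm'4 := s.inFour_of_card hg' hm'i hcent (by rw [card_cI]; omega)
  have hm'' : m' = 15 ∨ m' = 31 := (isInv_four hm'i hm'4).resolve_left fun e => by
    have : g' * s.φ m * g'⁻¹ = g' * s.φ 16 * g'⁻¹ := by
      rw [show g' * s.φ 16 * g'⁻¹ = s.φ 16 by rw [hz, mul_inv_cancel_right], ← e, hm']
    have h' := s.inj (mul_left_cancel (mul_right_cancel this))
    rcases hm with rfl | rfl <;> exact absurd h' (by decide)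
  have hle := Subgroup.card_le_of_le (s.le_centS hg' hcent)
  rw [card_cI, s.centS_eq_subE hm'', subE, s.card_sub, card_inE] at hle
  rw [← Subgroup.eq_of_le_of_card_ge hDP (by omega)] at hBP
  have hg1 : h * g * s.φ w * (h * g)⁻¹ = s.φ m := by
    rw [show h * g * s.φ w * (h * g)⁻¹ = h * (g * s.φ w * g⁻¹) * h⁻¹ by group, hg,
      mem_centralizer_singleton_iff.1 hh, mul_inv_cancel_right]
  set g1 := h * g with hg1'
  set B := cI g1 s.subA
  have hBS : B ≤ (S : Subgroup G) := by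
    rintro _ ⟨b, hb, rfl⟩
    have := s.sub_le (hBP (mem_cI (g := h) (mem_cI (g := g) hb)))
    simpa [hg1', mul_assoc] using this
  rcases s.sixteen hBS (by rw [card_cI, s.card_subA]) (fun x hx => by
      obtain ⟨a, ha, rfl⟩ := hx; rw [← map_mul, s.sq_subA ha, map_one])
    (fun x hx y hy => by
      obtain ⟨a, ha, rfl⟩ := hx; obtain ⟨b, hb, rfl⟩ := hy
      rw [← map_mul, ← map_mul, s.comm_subA ha hb]) with e | e
  · exact s.normalizer_not_moves hz (Subgroup.mem_normalizer_fintype fun a ha => e ▸ mem_cI ha) hwA hw4 hm hg1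
  · refine s.normalizer_not_moves hz (k := s.φ 1 * g1) (m := conjM 1 m)
      (Subgroup.mem_normalizer_fintype fun a ha => ?_) hwA hw4 ?_ ?_
    · rw [show s.φ 1 * g1 * a * (s.φ 1 * g1)⁻¹ = s.φ 1 * (g1 * a * g1⁻¹) * (s.φ 1)⁻¹ by group]
      exact e ▸ mem_cI (mem_cI ha)
    · rcases hm with rfl | rfl
      exacts [Or.inr cent_one.2.2.2.2.2.1, Or.inl cent_one.2.2.2.2.2.2.1]
    · rw [show s.φ 1 * g1 * s.φ w * (s.φ 1 * g1)⁻¹ = s.φ 1 * (g1 * s.φ w * g1⁻¹) * (s.φ 1)⁻¹ by group, hg1, s.conj]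

end Shape

end Cfsg.Agent.Spor.JTwoType
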