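import Cfsg.Agent.Lib.Spor.JTwoType.Strong

/-!
# Normalizers of invariant `l`-subgroups

For an `l`-group containing a Sylow subgroup of `Y` and normalised by the maximal subgroup, either two signalizers
have Sylow subgroups in one invariant `l`-group, or all signalizers meet its normalizer inside the odd core.
-/

set_option autoImplicit false
set_option linter.unusedSectionVars false
set_option linter.style.haveILetI false
set_option maxRecDepth 100000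

namespace Cfsg.Agent.Spor.JTwoType

open Subgroup

universe u

theorem nonE_mul : ∀ n m : Fin 128, inE n = false → inE m = false → inE (mulM n m) = true := by decide +kernel

theorem swap_codes : conjM 1 15 = 31 ∧ conjM 1 31 = 15 ∧ (conjM 32 1 = 2 ∨ conjM 32 1 = mulM 2 16) ∧
    (conjM 64 1 = 4 ∨ conjM 64 1 = mulM 4 16) ∧ (conjM 96 1 = 8 ∨ conjM 96 1 = mulM 8 16) ∧
    (conjM 0 1 = 1) := by decide +kernel

variable {G : Type u} [Group G] [Finite G]

theorem mem_cI_iff {g : G} {B : Subgroup G} {x : G} : x ∈ cI g B ↔ g⁻¹ * x * g ∈ B := by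
  refine ⟨?_, fun h => ⟨_, h, by simp [mul_assoc]⟩⟩
  rintro ⟨y, hy, rfl⟩
  simpa [mul_assoc] using hy

theorem normalizer_cI (g : G) (T : Subgroup G) :
    normalizer ((cI g T : Subgroup G) : Set G) = cI g (normalizer (T : Set G)) := by
  have key : ∀ (g : G) (T : Subgroup G), cI g (normalizer (T : Set G)) ≤ normalizer ((cI g T : Subgroup G) : Set G) := by
    rintro g T _ ⟨n, hn, rfl⟩
    refine mem_normalizer_fintype ?_
    rintro _ ⟨t, ht, rfl⟩
    exact ⟨n * t * n⁻¹, (mem_normalizer_iff.1 hn t).1 ht, by simp [mul_assoc]⟩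
  refine le_antisymm (fun x hx => ?_) (key g T)
  have h1 := key g⁻¹ (cI g T) (mem_cI (g := g⁻¹) hx)
  rw [cI_cI, inv_mul_cancel] at h1
  refine mem_cI_iff.2 ?_
  have e : cI (1 : G) T = T := by
    ext y
    rw [mem_cI_iff]
    simp
  rw [e] at h1
  simpa using h1

namespace Shape

variable {S : Sylow 2 G} (s : Shape (S : Subgroup G))

/-- An element moving `a0` to `z` gives one moving `z` to `c` or `cz`, and one fixing `z` moving `a0` to `c`. -/
theorem fusion_of_one {g : G} (hg : g * s.φ 1 * g⁻¹ = s.φ 16) :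
    (∃ (g' : G) (u : Fin 128), (u = 15 ∨ u = 31) ∧ g' * s.φ 16 * g'⁻¹ = s.φ u) ∧
    ∃ k : G, k * s.φ 16 * k⁻¹ = s.φ 16 ∧ k * s.φ 1 * k⁻¹ = s.φ 15 := by
  obtain ⟨h1c, h6, h1i, h1E, h1f, -, -, h16i, -, -⟩ := cent_one
  set C := centralizer ({s.φ 16} : Set G)
  have hSC : (S : Subgroup G) ≤ C := fun x hx => by
    obtain ⟨n, rfl⟩ := s.surj x hx
    exact mem_centralizer_singleton_iff.2 (s.comm_16 n)
  have hBC : cI g (s.centS 1) ≤ C := fun b hb => mem_centralizer_singleton_iff.2 (by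
    have := cI_centralizes (g := g) (s.centS_comm 1) b hb
    rw [hg] at this
    exact this.symm)
  obtain ⟨h, hh, P, hP, -, hSP, hBP⟩ := align C (cI g (s.centS 1)) (S : Subgroup G) ((s.centS_pgroup 1).map _) hBC
    S.isPGroup' hSC
  rw [S.3 hP hSP] at hBP
  have hg1 : h * g * s.φ 1 * (h * g)⁻¹ = s.φ 16 := by
    rw [show h * g * s.φ 1 * (h * g)⁻¹ = h * (g * s.φ 1 * g⁻¹) * h⁻¹ by group, hg,
      mem_centralizer_singleton_iff.1 hh, mul_inv_cancel_right]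
  set g' := h * g with hg'
  have h6S : g' * s.φ 6 * g'⁻¹ ∈ (S : Subgroup G) := by
    have := hBP (mem_cI (g := h) (mem_cI (g := g) (s.mem_sub.2 h1c : s.φ 6 ∈ s.centS 1)))
    simpa [hg', mul_assoc] using this
  obtain ⟨q, hq⟩ := s.surj _ h6S
  have hu : g' * s.φ 16 * g'⁻¹ = s.φ (mulM q q) := by
    rw [← s.mul, hq, ← h6, ← s.mul]; group
  have hui := s.isInv_of_conj h16i hu
  have hu4 := sq_invol q (by have := hui; rw [isInv, Bool.and_eq_true, beq_iff_eq] at this; exact this.2)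
  have hu' : mulM q q = 15 ∨ mulM q q = 31 := by
    refine (isInv_four hui hu4).resolve_left fun e => ?_
    rw [e] at hu
    exact absurd (s.inj (mul_left_cancel (mul_right_cancel (hu.trans hg1.symm)))) (by decide)
  obtain ⟨k, hk, v, hv, hkv⟩ := s.exists_swap hu' hu
  refine ⟨⟨g', _, hu', hu⟩, s.fix31 (k := k * g') (m := v) ?_ hv ?_⟩
  · rw [show k * g' * s.φ 16 * (k * g')⁻¹ = k * (g' * s.φ 16 * g'⁻¹) * k⁻¹ by group, hu, hk]
  · rw [show k * g' * s.φ 1 * (k * g')⁻¹ = k * (g' * s.φ 1 * g'⁻¹) * k⁻¹ by group, hg1, hkv]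

end Shape

namespace Setting

variable (d : Setting G)

/-- Two signalizers have Sylow subgroups in one invariant `l`-group. -/
def Good (l : ℕ) : Prop :=
  ∃ u ∈ d.subV, ∃ w ∈ d.subV, u ≠ 1 ∧ w ≠ 1 ∧ u ≠ w ∧ ∃ X : Subgroup G, IsPGroup l ↥X ∧
    d.s.subA ≤ normalizer (X : Set G) ∧ Grp.IsSylowIn l (X ⊓ θ u) (θ u) ∧ Grp.IsSylowIn l (X ⊓ θ w) (θ w)

/-- Signalizers inside a subgroup with a normal section fixed by one involution. -/
theorem core_of_fixed {H : Subgroup G} [(Cfsg.oddCore ↥H).Normal] {w : G} (hwH : w ∈ H) (hw2 : w * w = 1)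
    (Cb : Subgroup (↥H ⧸ Cfsg.oddCore ↥H)) [Cb.Normal]
    (hU : ∀ x : ↥H, (x : G) ∈ θ w → (x : ↥H ⧸ Cfsg.oddCore ↥H) ∈ Cb)
    (hc : ∀ c ∈ Cb, c * ((⟨w, hwH⟩ : ↥H) : ↥H ⧸ Cfsg.oddCore ↥H) = ((⟨w, hwH⟩ : ↥H) : ↥H ⧸ Cfsg.oddCore ↥H) * c) :
    θ w ⊓ H ≤ OG H := by
  set q := QuotientGroup.mk' (Cfsg.oddCore ↥H)
  set U := ((θ w).subgroupOf H).map q
  have hUC : U ≤ Cb := by
    rintro _ ⟨x, hx, rfl⟩
    exact hU x (mem_subgroupOf.1 hx)
  have hUo : Odd (Nat.card ↥U) := by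
    refine (θ_odd w).of_dvd_nat ((card_map_dvd _ _).trans ?_)
    rw [show Nat.card ↥((θ w).subgroupOf H) = Nat.card ↥(θ w ⊓ H) by
      rw [← inf_subgroupOf_right, Nat.card_congr (subgroupOfEquivOfLe inf_le_right).toEquiv]]
    exact card_dvd_of_le inf_le_left
  have hn : (U.subgroupOf Cb).Normal := by
    refine ⟨fun a ha c => mem_subgroupOf.2 ?_⟩
    obtain ⟨h, hh⟩ := QuotientGroup.mk'_surjective _ (c : ↥H ⧸ Cfsg.oddCore ↥H)
    obtain ⟨x, hx, hxe⟩ := mem_subgroupOf.1 ha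
    set wH : ↥H := ⟨w, hwH⟩
    have hcw := hc c c.2
    rw [← hh] at hcw
    have hcw' : Commute (q h) (q wH) := hcw
    have ho : h⁻¹ * wH * h * wH ∈ Cfsg.oddCore ↥H := by
      refine (QuotientGroup.eq_one_iff _).1 ?_
      show q (h⁻¹ * wH * h * wH) = 1
      rw [map_mul, map_mul, map_mul, map_inv, mul_assoc _ (q wH) (q h), ← hcw'.eq, ← mul_assoc, inv_mul_cancel,
        one_mul, ← map_mul, show wH * wH = 1 from Subtype.ext hw2, map_one]
    obtain ⟨u, hu, hcu⟩ := exists_mul_comm (x := h) (v := wH) (Subtype.ext hw2) (by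
      exact (Nat.Coprime.odd_of_right Grp.pPrimeCore_coprime).of_dvd_nat (Subgroup.orderOf_dvd_natCard _ ho))
    have hqu : q u = 1 := (QuotientGroup.eq_one_iff u).2 (zpowers_le.2 ho hu)
    refine ⟨h * u * x * (h * u)⁻¹, mem_subgroupOf.2 ?_, ?_⟩
    · show ((h * u : ↥H) : G) * x * ((h * u : ↥H) : G)⁻¹ ∈ θ w
      exact θ_normal (congrArg Subtype.val hcu) (mem_subgroupOf.1 hx)
    · rw [map_mul, map_mul, map_inv, map_mul, hqu, mul_one, hh, hxe]
      rfl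
  have hc2 : (Nat.card ↥(U.subgroupOf Cb)).Coprime 2 := by
    rw [Nat.card_congr (subgroupOfEquivOfLe hUC).toEquiv]
    exact Nat.coprime_two_right.2 hUo
  have h1 : U ≤ (Cfsg.oddCore ↥Cb).map Cb.subtype := fun y hy =>
    ⟨⟨y, hUC hy⟩, Grp.le_pPrimeCore hn hc2 (mem_subgroupOf.2 hy), rfl⟩
  have h2 : (Cfsg.oddCore ↥Cb).map Cb.subtype ≤ Cfsg.oddCore (↥H ⧸ Cfsg.oddCore ↥H) := by
    refine Grp.le_pPrimeCore inferInstance ?_
    rw [card_map_of_injective Cb.subtype_injective]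
    exact Grp.pPrimeCore_coprime
  have h3 : Cfsg.oddCore (↥H ⧸ Cfsg.oddCore ↥H) = ⊥ := Grp.pPrimeCore_quotient_eq_bot
  intro x hx
  refine ⟨⟨x, hx.2⟩, (QuotientGroup.eq_one_iff _).1 ?_, rfl⟩
  have := h2 (h1 ⟨⟨x, hx.2⟩, mem_subgroupOf.2 hx.1, rfl⟩)
  rw [h3, mem_bot] at this
  exact this

/-- The signalizers meet a subgroup with an isolated central involution inside the odd core. -/
theorem core_of_isolated {H : Subgroup G} (hE : d.s.subE ≤ H) (P : Sylow 2 ↥H)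
    (hP : (P : Subgroup ↥H) = (d.S : Subgroup G).subgroupOf H) {v : G} (hv : v ∈ d.subV) (hv1 : v ≠ 1)
    (hiso : ∀ h ∈ H, h * v * h⁻¹ ∈ (d.S : Subgroup G) → h * v * h⁻¹ = v) :
    ∀ w ∈ d.subV, w ≠ 1 → θ w ⊓ H ≤ OG H := by
  haveI : Fact (Nat.Prime 2) := ⟨Nat.prime_two⟩
  haveI : (Cfsg.oddCore ↥H).Normal := Grp.pPrimeCore_isNormal
  have hvH : v ∈ H := hE (d.subV_le_subE hv)
  set vH : ↥H := ⟨v, hvH⟩
  have hv2 : vH * vH = 1 := Subtype.ext (d.V_sq hv)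
  have hvP : vH ∈ (P : Subgroup ↥H) := by
    rw [hP]; exact mem_subgroupOf.2 (d.subE_le_S (d.subV_le_subE hv))
  obtain ⟨N, hN, hNo, hNc⟩ := S0215.result P vH
    (orderOf_eq_prime (by rw [pow_two, hv2]) fun e => hv1 (congrArg Subtype.val e)) hvP (fun g hg => by
      have hg' : g * vH * g⁻¹ ∈ (P : Subgroup ↥H) := hg
      rw [hP] at hg'
      exact Subtype.ext (hiso g g.2 (mem_subgroupOf.1 hg')))
  have hcomm : ∀ c : ↥H ⧸ Cfsg.oddCore ↥H,
      c * (vH : ↥H ⧸ Cfsg.oddCore ↥H) = (vH : ↥H ⧸ Cfsg.oddCore ↥H) * c := by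
    intro c
    obtain ⟨g, rfl⟩ := QuotientGroup.mk'_surjective _ c
    have h1 : (QuotientGroup.mk' (Cfsg.oddCore ↥H)) (vH * g * vH⁻¹ * g⁻¹) = 1 :=
      (QuotientGroup.eq_one_iff _).2 (Grp.le_pPrimeCore hN (Nat.coprime_two_right.2 hNo) (hNc g))
    rw [map_mul, map_mul, map_mul, map_inv, map_inv, mul_inv_eq_one, mul_inv_eq_iff_eq_mul] at h1
    exact h1.symm
  have hv' : θ v ⊓ H ≤ OG H := core_of_fixed hvH (d.V_sq hv) ⊤ (fun _ _ => mem_top _) fun c _ => hcomm c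
  intro w hw hw1 x hx
  by_cases hvw : v = w
  · exact hv' (hvw ▸ hx)
  set xH : ↥H := ⟨x, hx.2⟩
  have ho : xH⁻¹ * vH * xH * vH ∈ Cfsg.oddCore ↥H := by
    refine (QuotientGroup.eq_one_iff _).1 ?_
    show QuotientGroup.mk' (Cfsg.oddCore ↥H) (xH⁻¹ * vH * xH * vH) = 1
    have hc : Commute (QuotientGroup.mk' (Cfsg.oddCore ↥H) xH) (QuotientGroup.mk' (Cfsg.oddCore ↥H) vH) :=
      hcomm _
    rw [map_mul, map_mul, map_mul, map_inv, mul_assoc _ (QuotientGroup.mk' (Cfsg.oddCore ↥H) vH)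
      (QuotientGroup.mk' (Cfsg.oddCore ↥H) xH), ← hc.eq, ← mul_assoc, inv_mul_cancel, one_mul, ← map_mul, hv2, map_one]
  have hθ : x⁻¹ * v * x * v ∈ θ w := by
    have h1 : v * x * v⁻¹ ∈ θ w := θ_normal (d.s.comm_subA (d.subV_le_subA hv) (d.subV_le_subA hw)) hx.1
    rw [inv_eq_of_mul_eq_one_right (d.V_sq hv)] at h1
    rw [show x⁻¹ * v * x * v = x⁻¹ * (v * x * v) by group]
    exact mul_mem (inv_mem hx.1) h1
  obtain ⟨u, hu, hcu⟩ := exists_mul_comm (x := x) (d.V_sq hv) (odd_of_mem_θ hθ)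
  have huθ : u ∈ θ w := zpowers_le.2 hθ hu
  have huO : u ∈ OG H := zpowers_le.2
    (show x⁻¹ * v * x * v ∈ OG H from mem_OG.2 ho) hu
  have hxu := d.Y_le hv hv1 (d.mem_Y hw hw1 hv hv1 (Ne.symm hvw) (mul_mem hx.1 huθ) hcu)
  have := hv' ⟨hxu, mul_mem hx.2 (OG_le H huO)⟩
  simpa using mul_mem this (inv_mem huO)

/-- The signalizers meet a subgroup with a normalised four group inside the odd core. -/
theorem core_of_closed {H : Subgroup G} (hE : d.s.subE ≤ H) (P : Sylow 2 ↥H)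
    (hP : (P : Subgroup ↥H) = (d.S : Subgroup G).subgroupOf H)
    (hcl : ∀ v ∈ d.subV, ∀ h ∈ H, h * v * h⁻¹ ∈ (d.S : Subgroup G) → h * v * h⁻¹ ∈ d.subV) :
    ∀ w ∈ d.subV, w ≠ 1 → θ w ⊓ H ≤ OG H := by
  haveI : (Cfsg.oddCore ↥H).Normal := Grp.pPrimeCore_isNormal
  have hfix := d.strong_fix hE P hP hcl
  intro w hw hw1
  set q := QuotientGroup.mk' (Cfsg.oddCore ↥H)
  set Vb := (d.subV.subgroupOf H).map q with hVb
  have hVH : ∀ {v : G}, v ∈ d.subV → v ∈ H := fun hv => hE (d.subV_le_subE hv)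
  have hnear : ∀ (g : ↥H) (v : G) (hv : v ∈ d.subV), ∃ t : ↥H, (t : G) ∈ d.subV ∧
      q (g * ⟨v, hVH hv⟩ * g⁻¹) = q t := by
    intro g v hv
    obtain ⟨t, ht, hte⟩ := hfix g g.2 v hv
    refine ⟨⟨t, hVH ht⟩, ht, ?_⟩
    rw [← mul_inv_eq_one, ← map_inv, ← map_mul]
    exact (QuotientGroup.eq_one_iff _).2 ((mem_OG (x := g * ⟨v, hVH hv⟩ * g⁻¹ * ⟨t, hVH ht⟩⁻¹)).1 hte)
  haveI : Vb.Normal := ⟨fun a ha g => by
    obtain ⟨⟨v, hvH⟩, hv, rfl⟩ := ha
    obtain ⟨g, rfl⟩ := QuotientGroup.mk'_surjective _ g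
    obtain ⟨t, ht, hte⟩ := hnear g v (mem_subgroupOf.1 hv)
    exact ⟨t, mem_subgroupOf.2 ht, by rw [← hte, map_mul, map_mul, map_inv]⟩⟩
  refine core_of_fixed (hVH hw) (d.V_sq hw) (centralizer (Vb : Set (↥H ⧸ Cfsg.oddCore ↥H))) (fun x hx => ?_)
    fun c hc => (mem_centralizer_iff.1 hc _ ⟨_, mem_subgroupOf.2 (show ((⟨w, hVH hw⟩ : ↥H) : G) ∈ d.subV from hw),
      rfl⟩).symm
  refine mem_centralizer_iff.2 ?_
  rintro _ ⟨⟨v, hvH⟩, hv, rfl⟩
  have hv' : v ∈ d.subV := mem_subgroupOf.1 hv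
  obtain ⟨t, ht, hte⟩ := hnear x v hv'
  set vH : ↥H := ⟨v, hvH⟩
  set o := x * vH * x⁻¹ * vH⁻¹ with ho'
  have ho : Odd (orderOf o) := by
    rw [← Subgroup.orderOf_coe]
    refine odd_of_mem_θ (a := w) ?_
    show (x : G) * v * (x : G)⁻¹ * v⁻¹ ∈ θ w
    rw [show (x : G) * v * (x : G)⁻¹ * v⁻¹ = x * (v * (x : G)⁻¹ * v⁻¹) by group]
    exact mul_mem hx (θ_normal (d.s.comm_subA (d.subV_le_subA hv') (d.subV_le_subA hw)) (inv_mem hx))
  have htv : q o = q (t * vH⁻¹) := by rw [ho', map_mul, hte, ← map_mul]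
  have h2 : q (t * vH⁻¹) ^ 2 = 1 := by
    rw [← map_pow, show (t * vH⁻¹) ^ 2 = 1 from Subtype.ext (by
      rw [pow_two]
      exact d.V_sq (mul_mem ht (inv_mem hv'))), map_one]
  have h3 : q (t * vH⁻¹) ^ orderOf o = 1 := by rw [← htv, ← map_pow, pow_orderOf_eq_one, map_one]
  have h4 := pow_gcd_eq_one.2 ⟨h3, h2⟩
  rw [Nat.Coprime.gcd_eq_one (Nat.coprime_two_right.2 ho), pow_one, ← htv, ho', map_mul, map_inv, mul_inv_eq_one,
    map_mul, map_mul, map_inv, mul_inv_eq_iff_eq_mul] at h4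
  exact h4.symm

section Two

variable (hII : ∀ n, inA1 n = true → inFour n = false → ¬ IsConj d.z (d.s.φ n))
include hII

/-- A conjugate of `z` in the Sylow subgroup is in the four group or conjugate to `a0` inside it. -/
theorem S_class {n : Fin 128} (hz : IsConj d.z (d.s.φ n)) :
    n = 16 ∨ n = 15 ∨ n = 31 ∨ ∃ s, conjM s 1 = n := by
  obtain ⟨g, hg⟩ := _root_.isConj_iff.1 hz
  rcases inv_classify n (d.s.isInv_of_conj cent_one.2.2.2.2.2.2.2.1 hg) with e | e | e | e | ⟨h1, h4⟩ | ⟨h1, h4⟩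
  exacts [Or.inl e, Or.inr (Or.inl e), Or.inr (Or.inr (Or.inl e)), Or.inr (Or.inr (Or.inr e)),
    absurd hz (hII n h1 h4), absurd (hz.trans (_root_.isConj_iff.2 ⟨d.s.φ 1, d.s.conj 1 n⟩)) (hII _ h1 h4)]

/-- When fusion leaves the four group two signalizers are covered. -/
theorem good_of_fusion {l : ℕ} [Fact l.Prime] (hl : l ≠ 2) {T PY : Subgroup G} (hT : IsPGroup l ↥T)
    (hET : d.s.subE ≤ normalizer (T : Set G)) (hPY : Grp.IsSylowIn l PY d.Y) (hle : PY ≤ T)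
    (P : Sylow 2 ↥(normalizer (T : Set G)))
    (hP : (P : Subgroup ↥(normalizer (T : Set G))) = (d.S : Subgroup G).subgroupOf (normalizer (T : Set G)))
    (hni : ∀ v ∈ d.subV, v ≠ 1 → ∃ h ∈ normalizer (T : Set G), h * v * h⁻¹ ∈ (d.S : Subgroup G) ∧ h * v * h⁻¹ ≠ v)
    {v h : G} (hv : v ∈ d.subV) (hh : h ∈ normalizer (T : Set G)) (hy : h * v * h⁻¹ ∈ (d.S : Subgroup G))
    (hout : h * v * h⁻¹ ∉ d.subV) : d.Good l := by
  haveI : Fact (Nat.Prime 2) := ⟨Nat.prime_two⟩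
  have hv1 : v ≠ 1 := fun e => hout (by rw [e, mul_one, mul_inv_cancel]; exact one_mem _)
  have hzy : IsConj d.z (h * v * h⁻¹) := (d.z_conj_V hv hv1).trans (_root_.isConj_iff.2 ⟨h, rfl⟩)
  obtain ⟨n, hn⟩ := d.s.surj _ hy
  have hnE : inE n = false := by
    by_contra h'
    exact hout (d.E_class hII (hn ▸ d.s.mem_sub.2 (by simpa using h')) hzy)
  have hS : (d.S : Subgroup G) ≤ (normalizer (T : Set G)) := by
    intro x hx
    obtain ⟨m, rfl⟩ := d.s.surj x hx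
    by_cases hm : inE m = true
    · exact hET (d.s.mem_sub.2 hm)
    · have hnH : d.s.φ n ∈ (normalizer (T : Set G)) := hn ▸ mul_mem (mul_mem hh (hET (d.subV_le_subE hv))) (inv_mem hh)
      have h2 : d.s.φ m * d.s.φ n ∈ (normalizer (T : Set G)) := d.s.mul m n ▸ hET (d.s.mem_sub.2 (nonE_mul m n (by simpa using hm) hnE))
      simpa using mul_mem h2 (inv_mem hnH)
  -- `a0` is conjugate to `z` inside the normalizer
  have hto : ∀ {a b : G} {f : G}, f ∈ (normalizer (T : Set G)) → IsConj d.z a → f * a * f⁻¹ = b → b ∈ (d.S : Subgroup G) → b ∉ d.subV →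
      ∃ f' ∈ (normalizer (T : Set G)), f' * d.s.φ 1 * f'⁻¹ = a := by
    intro a b f hf hza hfa hb hbV
    obtain ⟨m, rfl⟩ := d.s.surj b hb
    rcases d.S_class hII (hza.trans (_root_.isConj_iff.2 ⟨f, hfa⟩)) with e | e | e | ⟨s, hs⟩
    · exact absurd (e ▸ d.z_mem_V) hbV
    · exact absurd (e ▸ d.c_mem_V) hbV
    · exact absurd (e ▸ d.φ_mem_V V_codes.2.2.1) hbV
    · refine ⟨f⁻¹ * d.s.φ s, mul_mem (inv_mem hf) (hS (d.s.mem s)), ?_⟩
      rw [show f⁻¹ * d.s.φ s * d.s.φ 1 * (f⁻¹ * d.s.φ s)⁻¹ = f⁻¹ * (d.s.φ s * d.s.φ 1 * (d.s.φ s)⁻¹) * f by group,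
        d.s.conj, hs, ← hfa]
      group
  obtain ⟨h1, hh1, h1e⟩ := hto hh (d.z_conj_V hv hv1) rfl hy hout
  obtain ⟨h0, hh0, h0e⟩ : ∃ h0 ∈ (normalizer (T : Set G)), h0 * d.s.φ 1 * h0⁻¹ = d.z := by
    by_cases hvz : v = d.z
    · exact ⟨h1, hh1, hvz ▸ h1e⟩
    obtain ⟨h2, hh2, h2S, h2ne⟩ := hni d.z d.z_mem_V d.z_ne_one
    by_cases h2V : h2 * d.z * h2⁻¹ ∈ d.subV
    swap
    · exact hto hh2 (IsConj.refl _) rfl h2S h2V
    set y2 := h2 * d.z * h2⁻¹ with hy2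
    have hy21 : y2 ≠ 1 := fun e => d.z_ne_one (conj_eq_one_iff.1 e)
    obtain ⟨f, hf, hfe⟩ : ∃ f ∈ (normalizer (T : Set G)), f * v * f⁻¹ = y2 := by
      have hsw : ∀ {i j : Fin 128}, conjM 1 i = j → v = d.s.φ i → y2 = d.s.φ j → ∃ f ∈ (normalizer (T : Set G)), f * v * f⁻¹ = y2 :=
        fun e e1 e2 => ⟨d.s.φ 1, hS (d.s.mem 1), by rw [e1, e2, d.s.conj, e]⟩
      rcases d.V_cases hv with e1 | e1 | e1 | e1 <;> rcases d.V_cases h2V with e2 | e2 | e2 | e2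
      all_goals first
        | exact absurd e1 hv1
        | exact absurd e1 hvz
        | exact absurd e2 hy21
        | exact absurd e2 h2ne
        | exact hsw swap_codes.1 e1 e2
        | exact hsw swap_codes.2.1 e1 e2
        | exact ⟨1, one_mem _, (show 1 * v * 1⁻¹ = v by group).trans (e1.trans e2.symm)⟩
    refine ⟨h2⁻¹ * f * h1, mul_mem (mul_mem (inv_mem hh2) hf) hh1, ?_⟩
    rw [show h2⁻¹ * f * h1 * d.s.φ 1 * (h2⁻¹ * f * h1)⁻¹ = h2⁻¹ * (f * (h1 * d.s.φ 1 * h1⁻¹) * f⁻¹) * h2 by group,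
      h1e, hfe, hy2]
    group
  -- fusion inside the normalizer
  let sH : Shape (P : Subgroup ↥(normalizer (T : Set G))) := d.s.ofEquiv ((subgroupOfEquivOfLe hS).symm.trans
    (MulEquiv.subgroupCongr hP.symm))
  obtain ⟨⟨g', u, hu, hgu⟩, k, hk16, hk1⟩ := sH.fusion_of_one (g := ⟨h0, hh0⟩) (Subtype.ext h0e)
  have hk16' : (k : G) * d.z * (k : G)⁻¹ = d.z := congrArg Subtype.val hk16
  have hk1' : (k : G) * d.s.φ 1 * (k : G)⁻¹ = d.s.φ 15 := congrArg Subtype.val hk1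
  have hgu' : (g' : G) * d.z * (g' : G)⁻¹ = d.s.φ u := congrArg Subtype.val hgu
  have hmove : ∀ i : Fin 5, ∃ h ∈ (normalizer (T : Set G)), ∃ m : Fin 128, h * d.z = d.z * h ∧ h * d.s.φ 15 * h⁻¹ = d.s.φ m ∧
      (m = toM (sv i) ∨ m = mulM (toM (sv i)) 16) := by
    obtain ⟨-, -, -, -, -, -, -, -, -, -, -, -, -, -, s0, s1, s2, s3, s4⟩ := gen_codes
    obtain ⟨-, -, c1, c2, c3, c0⟩ := swap_codes
    have hgen : ∀ (r : Fin 128) (t : Fin 128), (conjM r 1 = t ∨ conjM r 1 = mulM t 16) →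
        ∃ h ∈ (normalizer (T : Set G)), ∃ m : Fin 128, h * d.z = d.z * h ∧ h * d.s.φ 15 * h⁻¹ = d.s.φ m ∧ (m = t ∨ m = mulM t 16) := by
      intro r t ht
      refine ⟨d.s.φ r * (k : G)⁻¹, mul_mem (hS (d.s.mem r)) (inv_mem k.2), _, ?_, ?_, ht⟩
      · exact ((show Commute (d.s.φ r) d.z from d.s.comm_16 r).mul_left
          (show Commute (k : G) d.z from mul_inv_eq_iff_eq_mul.1 hk16').inv_left).eq
      · rw [← d.s.conj, ← hk1']
        group
    intro i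
    fin_cases i
    · exact s0.symm ▸ hgen 0 1 (Or.inl c0)
    · exact s1.symm ▸ hgen 32 2 c1
    · exact s2.symm ▸ hgen 64 4 c2
    · exact s3.symm ▸ hgen 96 8 c3
    · exact ⟨1, one_mem _, 15, by simp, by simp, Or.inl s4.symm⟩
  set D := T ⊓ θ d.z
  have hDS : (d.S : Subgroup G) ≤ normalizer (D : Set G) := fun x hx => mem_normalizer_fintype fun y hy =>
    ⟨(mem_normalizer_iff.1 (hS hx) y).1 hy.1, (mem_normalizer_iff.1 (d.S_le_Nθz hx) y).1 hy.2⟩
  have hcop : (Nat.card (d.S : Subgroup G)).Coprime (Nat.card ↥(θ d.z)) := by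
    obtain ⟨i, hi⟩ := IsPGroup.iff_card.1 d.S.isPGroup'
    rw [hi]
    exact Nat.Coprime.pow_left i (θ_odd d.z).coprime_two_left
  obtain ⟨Q, hQ, hQS, hDQ⟩ := Grp.exists_invariant_sylow_ge (d.S : Subgroup G) (θ d.z) d.S_le_Nθz hcop
    (Or.inr (Invol.Bender.solvable_of_odd (θ_odd d.z))) inf_le_right (hT.to_le inf_le_left) hDS
  have hQD : Q ≤ D := by
    refine le_inf ?_ hQ.1
    refine (d.inner_gen hQ.1 fun q _ => hQS (d.s.mem q)).trans (iSup_le fun i => ?_)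
    obtain ⟨f, hf, m, hfz, hfm, hm⟩ := hmove i
    have hX : cI f⁻¹ (Q ⊓ centralizer ({d.s.φ m} : Set G)) = PY := by
      refine (hPY.eq_of_le ?_ ?_ (IsPGroup.map (hQ.2.1.to_le inf_le_left) _)).symm
      · intro y hy
        rw [mem_cI_iff, inv_inv]
        refine ⟨hDQ ⟨(mem_normalizer_iff.1 hf y).1 (hle hy), θ_normal hfz (hPY.1 hy).1⟩,
          mem_centralizer_singleton_iff.2 ?_⟩
        rw [← hfm]
        calc f * y * f⁻¹ * (f * d.s.φ 15 * f⁻¹) = f * (y * d.s.φ 15) * f⁻¹ := by group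
          _ = f * (d.s.φ 15 * y) * f⁻¹ := by rw [d.Y_comm (hPY.1 hy) d.c_mem_V]
          _ = _ := by group
      · rintro _ ⟨y, hy, rfl⟩
        show f⁻¹ * y * f⁻¹⁻¹ ∈ d.Y
        have hyc := mem_centralizer_singleton_iff.1 hy.2
        refine d.mem_Y d.z_mem_V d.z_ne_one d.c_mem_V d.c_ne_one d.z_ne_c
          (θ_normal (show Commute f⁻¹ d.z from (show Commute f d.z from hfz).inv_left).eq (hQ.1 hy.1)) ?_
        calc f⁻¹ * y * f⁻¹⁻¹ * d.s.φ 15 = f⁻¹ * (y * (f * d.s.φ 15 * f⁻¹)) * f := by group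
          _ = f⁻¹ * ((f * d.s.φ 15 * f⁻¹) * y) * f := by rw [hfm, hyc]
          _ = _ := by group
    intro y hy
    have hy' : y ∈ Q ⊓ centralizer ({d.s.φ m} : Set G) := ⟨hy.1, mem_centralizer_singleton_iff.2 (by
      refine d.comm_flip (hQ.1 hy.1) (k := toM (sv i)) ?_ (mem_centralizer_singleton_iff.1 hy.2)
      rcases hm with e | e
      · exact Or.inl e.symm
      · exact Or.inr (by rw [e, (inQ_16 _).2]))⟩
    have h3 := mem_cI (g := f⁻¹) hy'
    rw [hX] at h3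
    have h4 := (mem_normalizer_iff.1 hf _).1 (hle h3)
    simpa [mul_assoc] using h4
  have hD : Grp.IsSylowIn l D (θ d.z) := by
    rw [show D = Q from le_antisymm hDQ hQD]
    exact hQ
  -- transport to the signalizer of the image of `z`
  have himg : ∀ (f a : G), cI f (θ a) = θ (f * a * f⁻¹) := by
    intro f a
    refine le_antisymm ?_ fun y hy => mem_cI_iff.2 ?_
    · rintro _ ⟨y, hy, rfl⟩; exact θ_conj hy
    · have := θ_conj (g := f⁻¹) hy
      rw [show f⁻¹ * (f * a * f⁻¹) * f⁻¹⁻¹ = a by group, inv_inv] at this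
      exact this
  have hu4 : d.s.φ u ∈ d.subV := by rcases hu with rfl | rfl; exacts [d.c_mem_V, d.φ_mem_V V_codes.2.2.1]
  have hgT : cI (g' : G) T = T := by
    refine le_antisymm ?_ fun y hy => mem_cI_iff.2 ((mem_normalizer_iff''.1 g'.2 y).1 hy)
    rintro _ ⟨y, hy, rfl⟩
    exact (mem_normalizer_iff.1 g'.2 y).1 hy
  refine ⟨d.z, d.z_mem_V, d.s.φ u, hu4, d.z_ne_one, d.ne_one_φ (by rcases hu with rfl | rfl <;> decide),
    fun e => ?_, T, hT, d.subA_le_subE.trans hET, hD, ?_⟩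
  · have := d.s.inj e
    rcases hu with rfl | rfl <;> exact absurd this (by decide)
  · have e1 : T ⊓ θ (d.s.φ u) = cI (g' : G) D := by
      rw [cI, Subgroup.map_inf _ _ _ (MulAut.conj (g' : G)).injective]
      exact congrArg₂ (· ⊓ ·) hgT.symm (by rw [← hgu']; exact (himg _ _).symm)
    have e2 : θ (d.s.φ u) = cI (g' : G) (θ d.z) := by rw [himg, hgu']
    refine ⟨inf_le_right, hT.to_le inf_le_left, ?_⟩
    rw [e1, e2, Subgroup.relIndex_map_map_of_injective _ _ (MulAut.conj (g' : G)).injective]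
    exact hD.2.2

/-- Either two signalizers are covered or all meet the normalizer inside its core. -/
theorem good_or_core {l : ℕ} [Fact l.Prime] (hl : l ≠ 2) {T PY : Subgroup G} (hT : IsPGroup l ↥T)
    (hET : d.s.subE ≤ normalizer (T : Set G)) (hPY : Grp.IsSylowIn l PY d.Y) (hle : PY ≤ T) :
    d.Good l ∨ ∀ v ∈ d.subV, v ≠ 1 → θ v ⊓ normalizer (T : Set G) ≤ OG (normalizer (T : Set G)) := by
  haveI : Fact (Nat.Prime 2) := ⟨Nat.prime_two⟩
  -- align the Sylow subgroup of the normalizer with `S`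
  obtain ⟨P0, hP0⟩ := ((d.S.isPGroup'.to_le d.subE_le_S).comap_of_injective (normalizer (T : Set G)).subtype
    (normalizer (T : Set G)).subtype_injective).exists_le_sylow
  set R := (P0 : Subgroup ↥(normalizer (T : Set G))).map (normalizer (T : Set G)).subtype
  have hER : d.s.subE ≤ R := fun x hx => ⟨⟨x, hET hx⟩, hP0 (mem_comap.2 hx), rfl⟩
  obtain ⟨h, hh⟩ := conj_into d.S (P0.isPGroup'.map (normalizer (T : Set G)).subtype)
  obtain ⟨g, hgA, hgR⟩ : ∃ g, g ∈ normalizer (d.s.subA : Set G) ∧ cI g R ≤ (d.S : Subgroup G) := by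
    have hAS : cI h d.s.subA ≤ (d.S : Subgroup G) := (map_mono (d.subA_le_subE.trans hER)).trans hh
    rcases d.s.sixteen hAS (by rw [card_cI, d.s.card_subA])
      (fun a ha => by obtain ⟨b, hb, rfl⟩ := ha; rw [← map_mul, d.s.sq_subA hb, map_one])
      (fun a ha b hb => by
        obtain ⟨a', ha', rfl⟩ := ha; obtain ⟨b', hb', rfl⟩ := hb
        rw [← map_mul, ← map_mul, d.s.comm_subA ha' hb']) with e | e
    · exact ⟨h, mem_normalizer_of_cI e.le, hh⟩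
    · rw [cI_cI] at e
      refine ⟨d.s.φ 1 * h, mem_normalizer_of_cI e.le, ?_⟩
      rw [← cI_cI]
      rintro _ ⟨y, hy, rfl⟩
      exact mul_mem (mul_mem (d.s.mem 1) (hh hy)) (inv_mem (d.s.mem 1))
  have hgV := d.NA_le_NV hII hgA
  have hgE : cI g d.s.subE ≤ d.s.subE := by
    rintro _ ⟨x, hx, rfl⟩
    refine d.mem_subE_of_comm (hgR (mem_cI (hER hx))) ?_
    have hc := d.E_comm_V hx ((mem_normalizer_iff''.1 hgV _).1 d.c_mem_V)
    show g * x * g⁻¹ * d.s.φ 15 = d.s.φ 15 * (g * x * g⁻¹)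
    calc g * x * g⁻¹ * d.s.φ 15 = g * (x * (g⁻¹ * d.s.φ 15 * g)) * g⁻¹ := by group
      _ = g * ((g⁻¹ * d.s.φ 15 * g) * x) * g⁻¹ := by rw [hc]
      _ = _ := by group
  have hgE' : cI g d.s.subE = d.s.subE := eq_of_le_of_card_ge hgE (card_cI g _).ge
  set T' := cI g T
  set H' := normalizer (T' : Set G) with hH'
  have hHeq : H' = cI g (normalizer (T : Set G)) := normalizer_cI g T
  have hET' : d.s.subE ≤ H' := by rw [hHeq, ← hgE']; exact map_mono hET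
  have hPY' : Grp.IsSylowIn l (cI g PY) d.Y := by
    have hY : cI g d.Y = d.Y :=
      eq_of_le_of_card_ge (by rintro _ ⟨y, hy, rfl⟩; exact d.Y_conj hgV hy) (card_cI g _).ge
    refine ⟨hY ▸ map_mono hPY.1, hPY.2.1.map _, ?_⟩
    rw [← hY, Subgroup.relIndex_map_map_of_injective _ _ (MulAut.conj g).injective]
    exact hPY.2.2
  obtain ⟨P', hP'⟩ := (d.S.isPGroup'.comap_of_injective H'.subtype H'.subtype_injective).exists_le_sylow
  have hP'e : (P' : Subgroup ↥H') = (d.S : Subgroup G).subgroupOf H' := by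
    refine (eq_of_le_of_card_ge hP' ?_).symm
    have hcard : Nat.card ↥H' = Nat.card ↥(normalizer (T : Set G)) := by rw [hHeq, card_cI]
    rw [P'.card_eq_multiplicity, hcard, ← P0.card_eq_multiplicity,
      ← card_map_of_injective (normalizer (T : Set G)).subtype_injective, ← card_cI g]
    have hRH : cI g R ≤ H' := hHeq ▸ map_mono (map_subtype_le _)
    rw [← Nat.card_congr (subgroupOfEquivOfLe hRH).toEquiv]
    exact card_le_of_le fun x hx => hgR hx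
  -- the three cases
  have hmain : d.Good l ∨ ∀ v ∈ d.subV, v ≠ 1 → θ v ⊓ H' ≤ OG H' := by
    by_cases hiso : ∃ v ∈ d.subV, v ≠ 1 ∧ ∀ h ∈ H', h * v * h⁻¹ ∈ (d.S : Subgroup G) → h * v * h⁻¹ = v
    · obtain ⟨v, hv, hv1, hv'⟩ := hiso
      exact Or.inr (d.core_of_isolated hET' P' hP'e hv hv1 hv')
    push Not at hiso
    by_cases hcl : ∀ v ∈ d.subV, ∀ h ∈ H', h * v * h⁻¹ ∈ (d.S : Subgroup G) → h * v * h⁻¹ ∈ d.subV
    · exact Or.inr (d.core_of_closed hET' P' hP'e hcl)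
    push Not at hcl
    obtain ⟨v, hv, k, hk, hky, hout⟩ := hcl
    exact Or.inl (d.good_of_fusion hII hl (hT.map _) hET' hPY' (map_mono hle) P' hP'e hiso hv hk hky hout)
  rcases hmain with hg | hcore
  · exact Or.inl hg
  refine Or.inr fun v hv hv1 x hx => ?_
  have h1 : g * x * g⁻¹ ∈ OG H' := hcore _ ((mem_normalizer_iff.1 hgV v).1 hv)
    (fun e => hv1 (conj_eq_one_iff.1 e)) ⟨θ_conj hx.1, hHeq ▸ mem_cI hx.2⟩
  refine le_OG (M := cI g⁻¹ (OG H')) ?_ ?_ ?_ (mem_cI_iff.2 (by simpa using h1))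
  · rintro _ ⟨y, hy, rfl⟩
    obtain ⟨t, ht, hte⟩ : y ∈ cI g (normalizer (T : Set G)) := hHeq ▸ OG_le H' hy
    rw [← hte]
    simpa [mul_assoc] using ht
  · rw [card_cI]; exact OG_odd H'
  · intro t ht y hy
    rw [mem_cI_iff, inv_inv] at hy ⊢
    rw [show g * (t * y * t⁻¹) * g⁻¹ = g * t * g⁻¹ * (g * y * g⁻¹) * (g * t * g⁻¹)⁻¹ by group]
    exact OG_conj (hHeq ▸ mem_cI ht) hy

end Two

end Setting

end Cfsg.Agent.Spor.JTwoType
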