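import Cfsg.Agent.Lib.Spor.JTwoType.Word

/-!
# Groups of order 128 with the shape of the Sylow 2-subgroup of the Hall-Janko group
-/

set_option autoImplicit false
set_option linter.unusedSectionVars false

namespace Cfsg.Agent.Spor.JTwoType

open Subgroup

variable {G : Type*} [Group G]

/-- A coordinatisation of a subgroup by the codes. -/
structure Shape (S : Subgroup G) where
  φ : Fin 128 → G
  mem : ∀ n, φ n ∈ S
  inj : Function.Injective φ
  surj : ∀ g ∈ S, ∃ n, φ n = g
  mul : ∀ n m, φ n * φ m = φ (mulM n m)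

namespace Shape

variable {S : Subgroup G} (s : Shape S)

theorem one : s.φ 0 = 1 := by
  have h : s.φ 0 * s.φ 0 = s.φ 0 := by rw [s.mul, (invM_spec 0).2.2.1]
  exact mul_eq_left.1 h

theorem inv (n : Fin 128) : (s.φ n)⁻¹ = s.φ (invM n) :=
  inv_eq_of_mul_eq_one_right (by rw [s.mul, (invM_spec n).1, s.one])

theorem conj (g n : Fin 128) : s.φ g * s.φ n * (s.φ g)⁻¹ = s.φ (conjM g n) := by
  rw [s.inv, s.mul, s.mul]; rfl

theorem eq_one {n : Fin 128} : s.φ n = 1 ↔ n = 0 := by rw [← s.one, s.inj.eq_iff]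

theorem commute {n m : Fin 128} : s.φ n * s.φ m = s.φ m * s.φ n ↔ commM n m = true := by
  rw [s.mul, s.mul, s.inj.eq_iff, commM, beq_iff_eq]

theorem sq {n : Fin 128} : s.φ n * s.φ n = 1 ↔ mulM n n = 0 := by rw [s.mul, s.eq_one]

theorem orderOf_two {n : Fin 128} : orderOf (s.φ n) = 2 ↔ isInv n = true := by
  rw [orderOf_eq_prime_iff, pow_two, s.sq, Ne, s.eq_one, isInv, Bool.and_eq_true, beq_iff_eq, bne_iff_ne, and_comm]

/-- The centre is generated by the code 16. -/
theorem central {n : Fin 128} (h : ∀ m, s.φ n * s.φ m = s.φ m * s.φ n) : n = 0 ∨ n = 16 :=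
  center_code n (by simp [s.commute.1 (h _)])

theorem comm_16 (n : Fin 128) : s.φ n * s.φ 16 = s.φ 16 * s.φ n := s.commute.2 (commM_16 n).1

/-- A subset of the codes closed under products as a subgroup. -/
def sub (p : Fin 128 → Bool) (h1 : p 0 = true) (hm : ∀ n m, p n = true → p m = true → p (mulM n m) = true) :
    Subgroup G where
  carrier := s.φ '' {n | p n = true}
  one_mem' := ⟨0, h1, s.one⟩
  mul_mem' := by
    rintro _ _ ⟨n, hn, rfl⟩ ⟨m, hm', rfl⟩
    exact ⟨mulM n m, hm n m hn hm', (s.mul n m).symm⟩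
  inv_mem' := by
    rintro _ ⟨n, hn, rfl⟩
    exact ⟨invM n, hm _ _ hn (hm _ _ (hm _ _ hn hn) (hm _ _ (hm _ _ hn hn) (hm _ _ hn hn))), (s.inv n).symm⟩

theorem mem_sub {p : Fin 128 → Bool} {h1} {hm} {n : Fin 128} : s.φ n ∈ s.sub p h1 hm ↔ p n = true :=
  ⟨fun ⟨_, hm', e⟩ => s.inj e ▸ hm', fun h => ⟨n, h, rfl⟩⟩

theorem sub_le {p : Fin 128 → Bool} {h1} {hm} : s.sub p h1 hm ≤ S := by
  rintro _ ⟨n, -, rfl⟩; exact s.mem n

theorem card_sub {p : Fin 128 → Bool} {h1} {hm} :
    Nat.card ↥(s.sub p h1 hm) = (Finset.univ.filter fun n => p n = true).card := by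
  rw [show Nat.card ↥(s.sub p h1 hm) = (s.φ '' {n | p n = true}).ncard from Nat.card_coe_set_eq _,
    Set.ncard_image_of_injective _ s.inj, ← Set.ncard_coe_finset, Finset.coe_filter]
  simp

include s in
theorem card : Nat.card ↥S = 128 := by
  have h := Nat.card_eq_of_bijective (fun n : Fin 128 => (⟨s.φ n, s.mem n⟩ : S))
    ⟨fun _ _ h => s.inj (congrArg Subtype.val h), fun ⟨g, hg⟩ => by
      obtain ⟨n, hn⟩ := s.surj g hg
      exact ⟨n, Subtype.ext hn⟩⟩
  rw [← h, Nat.card_eq_fintype_card, Fintype.card_fin]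

/-- Transport along an isomorphism of the subgroups. -/
def ofEquiv {H : Type*} [Group H] {T : Subgroup H} (e : ↥S ≃* ↥T) : Shape T where
  φ n := e ⟨s.φ n, s.mem n⟩
  mem n := (e _).2
  inj _ _ h := s.inj (congrArg Subtype.val (e.injective (Subtype.ext h)))
  surj g hg := by
    obtain ⟨n, hn⟩ := s.surj _ (e.symm ⟨g, hg⟩).2
    refine ⟨n, ?_⟩
    rw [show (⟨s.φ n, s.mem n⟩ : ↥S) = e.symm ⟨g, hg⟩ from Subtype.ext hn, e.apply_symm_apply]
  mul n m := by
    rw [← Subgroup.coe_mul, ← map_mul]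
    exact congrArg (fun x : ↥S => ((e x : ↥T) : H)) (Subtype.ext (s.mul n m))

/-- The image under a homomorphism injective on the subgroup. -/
def map {H : Type*} [Group H] (f : G →* H) (hf : ∀ x ∈ S, f x = 1 → x = 1) : Shape (S.map f) where
  φ n := f (s.φ n)
  mem n := ⟨_, s.mem n, rfl⟩
  inj n m h := s.inj (mul_inv_eq_one.1 (hf _ (S.mul_mem (s.mem n) (S.inv_mem (s.mem m))) (by
    rw [_root_.map_mul, _root_.map_inv, show f (s.φ n) = f (s.φ m) from h, mul_inv_cancel])))
  surj g hg := by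
    obtain ⟨x, hx, rfl⟩ := hg
    obtain ⟨n, rfl⟩ := s.surj x hx
    exact ⟨n, rfl⟩
  mul n m := by rw [← _root_.map_mul, s.mul]

end Shape

/-- The value of a code. -/
def val (z : G) (a H : Fin 4 → G) (n : Fin 128) : G :=
  zz z ((n : ℕ) / 16 % 2 == 1) * monA a ⟨(n : ℕ) % 16, Nat.mod_lt _ (by norm_num)⟩ *
    H ⟨(n : ℕ) / 32, by omega⟩

theorem val_mul {z : G} {a H : Fin 4 → G} (h : Anti z a) (hH : ∀ i j, H i * H j = H (pI i j))
    (hHz : ∀ i, H i * z = z * H i) (hHa : ∀ j i, H j * a i = a (pI j i) * H j) (n m : Fin 128) :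
    val z a H n * val z a H m = val z a H (mulM n m) := by
  obtain ⟨e1, e2, e3⟩ := mulM_parts n m
  set N := (n : ℕ)
  set M := (m : ℕ)
  set j : Fin 4 := ⟨N / 32, by omega⟩
  set j' : Fin 4 := ⟨M / 32, by omega⟩
  set x : Fin 16 := ⟨N % 16, Nat.mod_lt _ (by norm_num)⟩
  set x' : Fin 16 := ⟨M % 16, Nat.mod_lt _ (by norm_num)⟩
  set p : Fin 16 := ⟨permF (N / 32) (M % 16) % 16, Nat.mod_lt _ (by norm_num)⟩
  have hp : (p : ℕ) = permF (N / 32) (M % 16) := Nat.mod_eq_of_lt (Nat.mod_lt _ (by norm_num))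
  have hjz : ∀ b, H j * zz z b = zz z b * H j := fun b => by cases b <;> simp [zz, hHz]
  have hzA : ∀ b y, zz z b * monA a y = monA a y * zz z b := fun b y => h.zz_W b _
  calc val z a H n * val z a H m
      = zz z (N / 16 % 2 == 1) * monA a x * (H j * (zz z (M / 16 % 2 == 1) * monA a x') * H j') := by
        simp only [val, N, M, x, x', j, j', mul_assoc]
    _ = zz z (N / 16 % 2 == 1) * monA a x *
        (zz z (M / 16 % 2 == 1) * (zz z (reordF (N / 32) (M % 16) == 1) * monA a p * H j) * H j') := by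
        rw [← mul_assoc (H j), hjz, mul_assoc (zz z _) (H j), h.shift_monA j (H j) (hHa j) x']
    _ = zz z (N / 16 % 2 == 1) * (zz z (M / 16 % 2 == 1) * zz z (reordF (N / 32) (M % 16) == 1)) *
        (monA a x * monA a p) * (H j * H j') := by
        rw [h.zz_mul, ← mul_assoc (zz z (M / 16 % 2 == 1)), ← mul_assoc (zz z (M / 16 % 2 == 1)), h.zz_mul]
        simp only [← mul_assoc]
        rw [mul_assoc (zz z (N / 16 % 2 == 1)) (monA a x), ← hzA, ← mul_assoc]
    _ = _ := by
      rw [h.monA_mul, hH, ← mul_assoc, h.zz_mul, h.zz_mul, h.zz_mul]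
      have hb : ∀ u v w q : ℕ, u < 2 → v < 2 → w < 2 → q < 2 →
          xor (xor (u == 1) (xor (v == 1) (w == 1))) (q == 1) = ((u + v + w + q) % 2 == 1) := by
        intro u v w q hu hv hw hq
        interval_cases u <;> interval_cases v <;> interval_cases w <;> interval_cases q <;> rfl
      unfold val
      congr 2
      · congr 1
        rw [hp, show (x : ℕ) = N % 16 from rfl, e3,
          hb (N / 16 % 2) (M / 16 % 2) (reordF (N / 32) (M % 16)) (betaF (N % 16) (permF (N / 32) (M % 16)))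
            (Nat.mod_lt _ two_pos) (Nat.mod_lt _ two_pos) (Nat.mod_lt _ two_pos) (Nat.mod_lt _ two_pos)]
        congr 1
        omega
      · refine congrArg (monA a) (Fin.ext ?_)
        show (N % 16 ^^^ (p : ℕ)) % 16 = (mulM n m : ℕ) % 16
        rw [hp, ← e2, Nat.mod_mod]
      · refine Fin.ext ?_
        show (N / 32 ^^^ M / 32) % 4 = (mulM n m : ℕ) / 32
        rw [← e1, Nat.mod_eq_of_lt]
        omega

/-- Building a coordinatisation from generators. -/
theorem exists_shape {S : Subgroup G} (hS : Nat.card ↥S = 128) {z : G} {a H : Fin 4 → G} (h : Anti z a)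
    (hzS : z ∈ S) (haS : ∀ i, a i ∈ S) (hHS : ∀ i, H i ∈ S) (hH : ∀ i j, H i * H j = H (pI i j))
    (hHz : ∀ i, H i * z = z * H i) (hHa : ∀ j i, H j * a i = a (pI j i) * H j)
    (hker : ∀ n, val z a H n = 1 → n = 0) : Nonempty (Shape S) := by
  have hmul := val_mul h hH hHz hHa
  have hmem : ∀ n, val z a H n ∈ S := fun n => by
    refine S.mul_mem (S.mul_mem ?_ ?_) (hHS _)
    · cases ((n : ℕ) / 16 % 2 == 1) <;> simp [zz, hzS]
    · exact list_prod_mem fun y hy => by
        obtain ⟨i, -, rfl⟩ := List.mem_map.1 hy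
        exact haS i
  have h0 : val z a H 0 = 1 := by
    have h' := hmul 0 0
    rw [(invM_spec 0).2.2.1] at h'
    exact mul_eq_left.1 h'
  have hinj : Function.Injective (val z a H) := fun n m e => by
    have h1 : val z a H (mulM (invM m) n) = 1 := by rw [← hmul, e, hmul, (invM_spec m).2.1, h0]
    have h2 := hker _ h1
    have hassoc : ∀ n m : Fin 128, mulM (invM m) n = 0 → n = m := by decide +kernel
    exact hassoc n m h2
  let f : Fin 128 → ↥S := fun n => ⟨val z a H n, hmem n⟩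
  haveI : Finite ↥S := Nat.finite_of_card_ne_zero (by omega)
  have hf : Function.Bijective f := (Nat.bijective_iff_injective_and_card f).2
    ⟨fun n m e => hinj (congrArg Subtype.val e), by rw [hS, Nat.card_eq_fintype_card, Fintype.card_fin]⟩
  exact ⟨{ φ := val z a H, mem := hmem, inj := hinj, mul := hmul,
           surj := fun g hg => by obtain ⟨n, hn⟩ := hf.2 ⟨g, hg⟩; exact ⟨n, congrArg Subtype.val hn⟩ }⟩

end Cfsg.Agent.Spor.JTwoType
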