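import Cfsg.Agent.Lib.Spor.JTwoType.Overgroup
import Cfsg.Agent.Lib.Grp.SignalizerTransitive

/-!
# Two signalizers with Sylow subgroups in one invariant group

Were there none, the maximal invariant `l`-groups over a Sylow subgroup of `Y` would be conjugate under elements of
`Y` centralising the maximal subgroup, and one of them would cover two signalizers.
-/

set_option autoImplicit false
set_option linter.unusedSectionVars false
set_option linter.style.haveILetI false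
set_option maxRecDepth 100000

namespace Cfsg.Agent.Spor.JTwoType

open Subgroup
open scoped Pointwise

universe u

theorem A_code32 : inA1 32 = true ∧ inFour 32 = false := by decide +kernel

variable {G : Type u} [Group G] [Finite G]

theorem cI_eq_smul (g : G) (X : Subgroup G) : MulAut.conj g • X = cI g X :=
  (Grp.map_conj_eq_smul X g).symm

namespace Setting

variable (d : Setting G)

/-- The invariant `l`-groups over a fixed group. -/
def Fam (l : ℕ) (PY X : Subgroup G) : Prop :=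
  IsPGroup l ↥X ∧ d.s.subE ≤ normalizer (X : Set G) ∧ PY ≤ X

/-- The maximal ones. -/
def MaxFam (l : ℕ) (PY X : Subgroup G) : Prop :=
  d.Fam l PY X ∧ ∀ R, d.Fam l PY R → X ≤ R → R = X

theorem exists_maxFam {l : ℕ} {PY U : Subgroup G} (hU : d.Fam l PY U) : ∃ X, d.MaxFam l PY X ∧ U ≤ X := by
  obtain ⟨X, hUX, hX⟩ := (Set.toFinite {R | d.Fam l PY R}).exists_le_maximal (a := U) hU
  exact ⟨X, ⟨hX.1, fun R hR hle => le_antisymm (hX.2 hR hle) hle⟩, hUX⟩

/-- An element centralising the maximal subgroup permutes the family when it fixes the base. -/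
theorem fam_conj {l : ℕ} {PY X : Subgroup G} (hX : d.Fam l PY X) {k : G}
    (hkE : ∀ e ∈ d.s.subE, k * e = e * k) (hbase : PY ≤ cI k X) : d.Fam l PY (cI k X) := by
  refine ⟨hX.1.map _, fun e he => ?_, hbase⟩
  refine mem_normalizer_fintype ?_
  rintro _ ⟨x, hx, rfl⟩
  refine ⟨e * x * e⁻¹, (mem_normalizer_iff.1 (hX.2.1 he) x).1 hx, ?_⟩
  have hc : Commute k e := hkE e he
  show k * (e * x * e⁻¹) * k⁻¹ = e * (k * x * k⁻¹) * e⁻¹
  calc k * (e * x * e⁻¹) * k⁻¹ = k * e * x * (k * e)⁻¹ := by group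
    _ = e * k * x * (e * k)⁻¹ := by rw [hc.eq]
    _ = _ := by group

/-- An element of odd order centralising `A` lies in `Y`. -/
theorem mem_Y_of_centralizes {k : G} (hk : Odd (orderOf k)) (hkA : ∀ a ∈ d.s.subA, k * a = a * k) : k ∈ d.Y := by
  have h : ∀ v ∈ d.subV, v ≠ 1 → k ∈ θ v := fun v hv hv1 => d.mem_θ_odd A_code32.1 A_code32.2 hv hv1 hk
    (hkA v (d.subV_le_subA hv)) (hkA _ (d.s.mem_sub.2 A_code32.1))
  exact ⟨h _ d.z_mem_V d.z_ne_one, h _ d.c_mem_V d.c_ne_one⟩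

section Two

variable (hII : ∀ n, inA1 n = true → inFour n = false → ¬ IsConj d.z (d.s.φ n))
include hII

/-- Without covering, the maximal invariant groups over a Sylow subgroup of `Y` are conjugate. -/
theorem maxFam_conj {l : ℕ} [Fact l.Prime] (hl : l ≠ 2) (hbad : ¬ d.Good l) {PY : Subgroup G}
    (hPY : Grp.IsSylowIn l PY d.Y) {X₁ X₂ : Subgroup G} (h₁ : d.MaxFam l PY X₁) (h₂ : d.MaxFam l PY X₂) :
    ∃ k ∈ d.Y, (∀ e ∈ d.s.subE, k * e = e * k) ∧ cI k X₁ = X₂ := by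
  suffices H : ∀ n, ∀ {X₁ X₂ : Subgroup G}, d.MaxFam l PY X₁ → d.MaxFam l PY X₂ →
      Nat.card G - Nat.card ↥(X₁ ⊓ X₂) = n → ∃ k ∈ d.Y, (∀ e ∈ d.s.subE, k * e = e * k) ∧ cI k X₁ = X₂ from
    H _ h₁ h₂ rfl
  clear h₁ h₂ X₁ X₂
  intro n
  induction n using Nat.strong_induction_on with
  | _ n ih =>
  intro X₁ X₂ h₁ h₂ hn
  haveI : Fact (Nat.Prime 2) := ⟨Nat.prime_two⟩
  have hone : cI (1 : G) X₁ = X₁ := by
    ext y
    rw [mem_cI_iff]
    simp
  set T := X₁ ⊓ X₂ with hTdef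
  by_cases hD₁ : T = X₁
  · refine ⟨1, one_mem _, fun e _ => by rw [one_mul, mul_one], ?_⟩
    rw [hone]
    exact (h₁.2 X₂ h₂.1 (inf_eq_left.1 hD₁)).symm
  by_cases hD₂ : T = X₂
  · refine ⟨1, one_mem _, fun e _ => by rw [one_mul, mul_one], ?_⟩
    rw [hone]
    exact h₂.2 X₁ h₁.1 (inf_eq_right.1 hD₂)
  have hTl : IsPGroup l ↥T := h₁.1.1.to_le inf_le_left
  have hET : d.s.subE ≤ normalizer (T : Set G) := fun e he => mem_normalizer_fintype fun x hx =>
    ⟨(mem_normalizer_iff.1 (h₁.1.2.1 he) x).1 hx.1, (mem_normalizer_iff.1 (h₂.1.2.1 he) x).1 hx.2⟩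
  have hPT : PY ≤ T := le_inf h₁.1.2.2 h₂.1.2.2
  have hcore := (d.good_or_core hII hl hTl hET hPY hPT).resolve_left hbad
  set O := OG (normalizer (T : Set G))
  have hEO : d.s.subE ≤ normalizer (O : Set G) := fun e he => mem_normalizer_fintype fun _ hx =>
    OG_conj (hET he) hx
  have hcop : ∀ {U : Subgroup G}, Odd (Nat.card ↥U) → (Nat.card ↥d.s.subE).Coprime (Nat.card ↥U) := by
    intro U hU
    obtain ⟨i, hi⟩ := IsPGroup.iff_card.1 (d.S.isPGroup'.to_le d.subE_le_S)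
    rw [hi]
    exact Nat.Coprime.pow_left i hU.coprime_two_left
  have hlodd : Odd l := (Fact.out : l.Prime).odd_of_ne_two hl
  have hin : ∀ X, d.Fam l PY X → T ≤ X → X ⊓ normalizer (T : Set G) ≤ O ∧
      d.s.subE ≤ normalizer ((X ⊓ normalizer (T : Set G) : Subgroup G) : Set G) := by
    intro X hX hTX
    set N := X ⊓ normalizer (T : Set G)
    have hEN : d.s.subE ≤ normalizer (N : Set G) := fun e he => mem_normalizer_fintype fun x hx =>
      ⟨(mem_normalizer_iff.1 (hX.2.1 he) x).1 hx.1,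
        (normalizer (T : Set G)).mul_mem ((normalizer (T : Set G)).mul_mem (hET he) hx.2)
          ((normalizer (T : Set G)).inv_mem (hET he))⟩
    have hNo : Odd (Nat.card ↥N) := by
      obtain ⟨i, hi⟩ := IsPGroup.iff_card.1 (hX.1.to_le (inf_le_left : N ≤ X))
      rw [hi]
      exact hlodd.pow
    refine ⟨?_, hEN⟩
    haveI := commute_of_sq (B := d.subV) fun x hx => d.V_sq hx
    have hVc : Nat.card ↥d.subV = 4 := d.s.card_sub.trans card_four
    have hgen := Grp.generated_by_centralizers d.subV N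
      (not_cyclic_four (fun x hx => d.V_sq hx) hVc.ge) (d.subV_le_subE.trans hEN) (by
        rw [hVc, show (4 : ℕ) = 2 ^ 2 from rfl]
        exact Nat.Coprime.pow_left 2 hNo.coprime_two_left)
    rw [← hgen]
    refine iSup₂_le fun v hv => le_trans (le_inf ?_ (inf_le_left.trans inf_le_right)) (hcore v hv.1 hv.2)
    refine d.odd_le_θ (d.z_conj_V hv.1 hv.2) inf_le_right (hNo.of_dvd_nat (card_dvd_of_le inf_le_left))
      (d.S.isPGroup'.to_le d.s.sub_le)
      (fun x hx => mem_centralizer_singleton_iff.2 (d.s.comm_subA hx (d.subV_le_subA hv.1))) (fun x hx => ?_)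
      (Or.inl ⟨d.s.card_subA.ge, fun x hx => d.s.sq_subA hx, fun x hx y hy => d.s.comm_subA hx hy⟩)
    refine mem_normalizer_fintype fun y hy => ⟨(mem_normalizer_iff.1 (hEN (d.subA_le_subE hx)) y).1 hy.1, ?_⟩
    have hcx : Commute x v := d.s.comm_subA hx (d.subV_le_subA hv.1)
    exact mem_centralizer_singleton_iff.2
      ((hcx.mul_left (mem_centralizer_singleton_iff.1 hy.2)).mul_left hcx.inv_left).eq
  obtain ⟨hN1O, hEN1⟩ := hin X₁ h₁.1 inf_le_left
  obtain ⟨hN2O, hEN2⟩ := hin X₂ h₂.1 inf_le_right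
  have hlt1 := Grp.lt_inf_normalizer h₁.1.1.isNilpotent (lt_of_le_of_ne inf_le_left hD₁)
  have hlt2 := Grp.lt_inf_normalizer h₂.1.1.isNilpotent (lt_of_le_of_ne inf_le_right hD₂)
  have hOo : Odd (Nat.card ↥O) := OG_odd _
  have hsol : Group.IsSolvable ↥d.s.subE ∨ Group.IsSolvable ↥O := Or.inr (Invol.Bender.solvable_of_odd hOo)
  obtain ⟨S₁, hS₁, hES₁, hN1⟩ := Grp.exists_invariant_sylow_ge d.s.subE O hEO (hcop hOo) hsol hN1O
    (h₁.1.1.to_le inf_le_left) hEN1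
  obtain ⟨S₂, hS₂, hES₂, hN2⟩ := Grp.exists_invariant_sylow_ge d.s.subE O hEO (hcop hOo) hsol hN2O
    (h₂.1.1.to_le inf_le_left) hEN2
  obtain ⟨k, ⟨hkO, hkC⟩, hkS⟩ := Grp.invariant_sylow_conj d.s.subE O hEO (hcop hOo) hsol hS₁ hS₂ hES₁ hES₂
  rw [cI_eq_smul] at hkS
  have hkE : ∀ e ∈ d.s.subE, k * e = e * k := fun e he => (mem_centralizer_iff.1 hkC e he).symm
  have hkH : k ∈ normalizer (T : Set G) := OG_le _ hkO
  have hkY : k ∈ d.Y := d.mem_Y_of_centralizes (hOo.of_dvd_nat (Subgroup.orderOf_dvd_natCard _ hkO))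
    fun a ha => hkE a (d.subA_le_subE ha)
  obtain ⟨R, hR, hSR⟩ := d.exists_maxFam (U := S₁) ⟨hS₁.2.1, hES₁, hPT.trans (hlt1.le.trans hN1)⟩
  have hgrow : ∀ {X Y N : Subgroup G}, T < N → N ≤ X → N ≤ Y →
      Nat.card G - Nat.card ↥(X ⊓ Y) < n := by
    intro X Y N hTN hX hY
    have h1 : Nat.card ↥T < Nat.card ↥(X ⊓ Y) := lt_of_lt_of_le
      (Nat.lt_of_le_of_ne (card_le_of_le hTN.le) fun e => hTN.ne (eq_of_le_of_card_ge hTN.le e.ge))
      (card_le_of_le (le_inf hX hY))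
    have h2 : Nat.card ↥(X ⊓ Y) ≤ Nat.card G := card_le_card_group _
    omega
  obtain ⟨k1, hk1Y, hk1E, hk1⟩ := ih _ (hgrow hlt1 inf_le_left (hN1.trans hSR)) h₁ hR rfl
  have hTk : T ≤ cI k R := by
    intro t ht
    refine mem_cI_iff.2 (hSR (hN1 (hlt1.le ?_)))
    exact (mem_normalizer_iff''.1 hkH t).1 ht
  have hR' : d.MaxFam l PY (cI k R) := by
    refine ⟨d.fam_conj hR.1 hkE (hPT.trans hTk), fun Q hQ hle => ?_⟩
    have hback : ∀ X : Subgroup G, cI k (cI k⁻¹ X) = X := fun X => by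
      ext y
      rw [cI_cI, mem_cI_iff]
      simp
    have hle' : R ≤ cI k⁻¹ Q := fun y hy => mem_cI_iff.2 (by rw [inv_inv]; exact hle (mem_cI hy))
    have := hR.2 _ (d.fam_conj hQ (fun e he => ((show Commute k e from hkE e he).inv_left).eq)
      (hR.1.2.2.trans hle')) hle'
    rw [← hback Q, this]
  have hN2R : X₂ ⊓ normalizer (T : Set G) ≤ cI k R := hN2.trans (hkS ▸ map_mono hSR)
  obtain ⟨k2, hk2Y, hk2E, hk2⟩ := ih _ (hgrow hlt2 hN2R inf_le_left) hR' h₂ rfl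
  refine ⟨k2 * k * k1, mul_mem (mul_mem hk2Y hkY) hk1Y, fun e he => ?_, ?_⟩
  · exact (((show Commute k2 e from hk2E e he).mul_left (hkE e he)).mul_left (hk1E e he)).eq
  · rw [← cI_cI, hk1, ← cI_cI, hk2]

/-- Two signalizers have Sylow subgroups in one invariant group. -/
theorem exists_good {l : ℕ} [Fact l.Prime] (hl : l ≠ 2) : d.Good l := by
  by_contra hbad
  haveI : Fact (Nat.Prime 2) := ⟨Nat.prime_two⟩
  have hcop : ∀ {U : Subgroup G}, Odd (Nat.card ↥U) → (Nat.card ↥d.s.subE).Coprime (Nat.card ↥U) := by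
    intro U hU
    obtain ⟨i, hi⟩ := IsPGroup.iff_card.1 (d.S.isPGroup'.to_le d.subE_le_S)
    rw [hi]
    exact Nat.Coprime.pow_left i hU.coprime_two_left
  have hEY : d.s.subE ≤ normalizer (d.Y : Set G) := (d.subE_le_S.trans d.S_le_NV).trans d.NV_le_NY
  have hsY : Group.IsSolvable ↥d.s.subE ∨ Group.IsSolvable ↥d.Y := Or.inr (Invol.Bender.solvable_of_odd d.Y_odd)
  obtain ⟨PY, hPY, hEP⟩ := Grp.exists_invariant_sylow d.s.subE d.Y hEY (hcop d.Y_odd) hsY l
  obtain ⟨P, hP, hPE, hPYP⟩ := Grp.exists_invariant_sylow_ge d.s.subE (θ d.z) (d.E_le_Nθ d.z_mem_V)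
    (hcop (θ_odd _)) (Or.inr (Invol.Bender.solvable_of_odd (θ_odd _))) (hPY.1.trans inf_le_left) hPY.2.1 hEP
  obtain ⟨α, hαz, -, hαE, hαA⟩ := d.exists_alpha
  have hαV := d.NA_le_NV hII hαA
  -- normalise the cycling element
  have hY : cI α d.Y = d.Y :=
    eq_of_le_of_card_ge (by rintro _ ⟨y, hy, rfl⟩; exact d.Y_conj hαV hy) (card_cI α _).ge
  have hPα : Grp.IsSylowIn l (cI α PY) d.Y := by
    refine ⟨hY ▸ map_mono hPY.1, hPY.2.1.map _, ?_⟩
    rw [← hY, Subgroup.relIndex_map_map_of_injective _ _ (MulAut.conj α).injective]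
    exact hPY.2.2
  have hEconj : ∀ {g : G} {X : Subgroup G}, g ∈ normalizer (d.s.subE : Set G) →
      d.s.subE ≤ normalizer (X : Set G) → d.s.subE ≤ normalizer ((cI g X : Subgroup G) : Set G) := by
    intro g X hg hX e he
    rw [normalizer_cI]
    exact mem_cI_iff.2 (hX ((mem_normalizer_iff''.1 hg e).1 he))
  obtain ⟨y, ⟨hyY, hyC⟩, hy⟩ := Grp.invariant_sylow_conj d.s.subE d.Y hEY (hcop d.Y_odd) hsY hPα hPY
    (hEconj hαE hEP) hEP
  rw [cI_eq_smul, cI_cI] at hy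
  have hyE : y ∈ normalizer (d.s.subE : Set G) := centralizer_le_normalizer _ hyC
  set β := y * α
  have hβE : β ∈ normalizer (d.s.subE : Set G) := mul_mem hyE hαE
  have hβz : β * d.z * β⁻¹ = d.s.φ 15 := by
    rw [show β * d.z * β⁻¹ = y * (α * d.z * α⁻¹) * y⁻¹ by simp only [β]; group, hαz,
      d.Y_comm hyY d.c_mem_V, mul_inv_cancel_right]
  -- two maximal members
  obtain ⟨X₁, hX₁, hPX₁⟩ := d.exists_maxFam (U := P) (PY := PY) (l := l) ⟨hP.2.1, hPE, hPYP⟩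
  obtain ⟨X₂, hX₂, hPX₂⟩ := d.exists_maxFam (U := cI β P) (PY := PY) (l := l)
    ⟨hP.2.1.map _, hEconj hβE hPE, hy ▸ map_mono hPYP⟩
  obtain ⟨k, hkY, -, hk⟩ := d.maxFam_conj hII hl hbad hPY hX₁ hX₂
  have himg : ∀ (f a b : G), f * a * f⁻¹ = b → cI f (θ a) = θ b := by
    rintro f a b rfl
    refine le_antisymm ?_ fun y hy => mem_cI_iff.2 ?_
    · rintro _ ⟨y, hy, rfl⟩; exact θ_conj hy
    · have := θ_conj (g := f⁻¹) hy
      rw [show f⁻¹ * (f * a * f⁻¹) * f⁻¹⁻¹ = a by group, inv_inv] at this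
      exact this
  have hsyl : ∀ (f : G) (b : G), f * d.z * f⁻¹ = b → cI f P ≤ X₂ → Grp.IsSylowIn l (X₂ ⊓ θ b) (θ b) := by
    intro f b hfb hle
    have e := himg f d.z b hfb
    have hsy : Grp.IsSylowIn l (cI f P) (θ b) := by
      refine ⟨e ▸ map_mono hP.1, hP.2.1.map _, ?_⟩
      rw [← e, Subgroup.relIndex_map_map_of_injective _ _ (MulAut.conj f).injective]
      exact hP.2.2
    rwa [← hsy.eq_of_le (le_inf hle hsy.1) inf_le_right (hX₂.1.1.to_le inf_le_left)]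
  refine hbad ⟨d.z, d.z_mem_V, d.s.φ 15, d.c_mem_V, d.z_ne_one, d.c_ne_one, d.z_ne_c, X₂, hX₂.1.1,
    d.subA_le_subE.trans hX₂.1.2.1, hsyl k d.z ?_ (hk ▸ map_mono hPX₁), hsyl β _ hβz hPX₂⟩
  rw [d.Y_comm hkY d.z_mem_V, mul_inv_cancel_right]

end Two

end Setting

end Cfsg.Agent.Spor.JTwoType
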