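import Cfsg.Agent.Lib.Spor.JTwoType.Model

/-!
# Normal forms in an extraspecial group given by four anticommuting involutions
-/

set_option autoImplicit false
set_option linter.unusedSectionVars false

namespace Cfsg.Agent.Spor.JTwoType

variable {G : Type*} [Group G]

/-- Four pairwise anticommuting involutions. -/
structure Anti (z : G) (a : Fin 4 → G) : Prop where
  z_sq : z * z = 1
  za : ∀ i, z * a i = a i * z
  a_sq : ∀ i, a i * a i = 1
  anti : ∀ i j, i ≠ j → a i * a j = z * (a j * a i)

/-- The sign. -/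
def zz (z : G) (b : Bool) : G := if b then z else 1

/-- The value of a word. -/
def W (a : Fin 4 → G) (l : List (Fin 4)) : G := (l.map a).prod

/-- The value of a monomial. -/
def monA (a : Fin 4 → G) (x : Fin 16) : G := W a (lst x)

theorem W_nil (a : Fin 4 → G) : W a [] = 1 := rfl

theorem W_cons (a : Fin 4 → G) (i : Fin 4) (l : List (Fin 4)) : W a (i :: l) = a i * W a l := rfl

theorem W_append (a : Fin 4 → G) (l m : List (Fin 4)) : W a (l ++ m) = W a l * W a m := by
  simp [W]

/-- Insertion with cancellation. -/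
def ins (i : Fin 4) : List (Fin 4) → Bool × List (Fin 4)
  | [] => (false, [i])
  | j :: r => if i < j then (false, i :: j :: r) else if i = j then (false, r) else (!(ins i r).1, j :: (ins i r).2)

theorem step_table : ∀ (i : Fin 4) (x : Fin 16), ins i (lst x) = ((stepX i x).1, lst (stepX i x).2) := by
  decide +kernel

variable {z : G} {a : Fin 4 → G}

theorem Anti.zz_mul (h : Anti z a) (b c : Bool) : zz z b * zz z c = zz z (xor b c) := by
  cases b <;> cases c <;> simp [zz, h.z_sq]

theorem Anti.comm_W (h : Anti z a) : ∀ l : List (Fin 4), z * W a l = W a l * z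
  | [] => by simp [W]
  | i :: l => by rw [W_cons, ← mul_assoc, h.za, mul_assoc, h.comm_W l, mul_assoc]

theorem Anti.zz_W (h : Anti z a) (b : Bool) (l : List (Fin 4)) : zz z b * W a l = W a l * zz z b := by
  cases b
  · simp [zz]
  · exact h.comm_W l

theorem Anti.W_ins (h : Anti z a) (i : Fin 4) :
    ∀ l : List (Fin 4), W a (i :: l) = zz z (ins i l).1 * W a (ins i l).2
  | [] => by simp [ins, zz]
  | j :: r => by
    unfold ins
    split_ifs with h1 h2
    · simp [zz]
    · subst h2
      show W a (i :: i :: r) = 1 * W a r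
      rw [W_cons, W_cons, ← mul_assoc, h.a_sq]
    · have hne : i ≠ j := h2
      show W a (i :: j :: r) = zz z (!(ins i r).1) * W a (j :: (ins i r).2)
      rw [W_cons, W_cons, ← mul_assoc, h.anti i j hne, mul_assoc, mul_assoc, ← W_cons, h.W_ins i r,
        ← mul_assoc (a j), show a j * zz z (ins i r).1 = zz z (ins i r).1 * a j by
          cases (ins i r).1 <;> simp [zz, h.za],
        mul_assoc (zz z _), ← W_cons, ← mul_assoc, show z * zz z (ins i r).1 = zz z (!(ins i r).1) by
          cases (ins i r).1 <;> simp [zz, h.z_sq]]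

theorem Anti.W_nf (h : Anti z a) : ∀ l : List (Fin 4), W a l = zz z (nfX l).1 * monA a (nfX l).2
  | [] => by
    have e1 : nfX [] = (false, 0) := rfl
    have e2 : lst 0 = [] := by decide +kernel
    rw [e1]
    show W a [] = 1 * W a (lst 0)
    rw [e2, one_mul]
  | i :: l => by
    have e : nfX (i :: l) = (xor (stepX i (nfX l).2).1 (nfX l).1, (stepX i (nfX l).2).2) := rfl
    rw [e, W_cons, h.W_nf l, monA, monA, ← mul_assoc,
      show a i * zz z (nfX l).1 = zz z (nfX l).1 * a i by cases (nfX l).1 <;> simp [zz, h.za],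
      mul_assoc, ← W_cons, h.W_ins, step_table, ← mul_assoc, h.zz_mul, Bool.xor_comm]

theorem Anti.monA_mul (h : Anti z a) (x y : Fin 16) : monA a x * monA a y = zz z (betaF x y == 1) *
    monA a ⟨((x : ℕ) ^^^ (y : ℕ)) % 16, Nat.mod_lt _ (by norm_num)⟩ := by
  rw [monA, monA, ← W_append, h.W_nf, beta_table]

/-- Moving an element past a word. -/
theorem W_shift (f : Fin 4 → Fin 4) (g : G) (hg : ∀ i, g * a i = a (f i) * g) :
    ∀ l : List (Fin 4), g * W a l = W a (l.map f) * g
  | [] => by simp [W]
  | i :: l => by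
    rw [List.map_cons, W_cons, W_cons, ← mul_assoc, hg, mul_assoc, W_shift f g hg l, mul_assoc]

theorem Anti.shift_monA (h : Anti z a) (j : Fin 4) (g : G) (hg : ∀ i, g * a i = a (pI j i) * g) (x : Fin 16) :
    g * monA a x = zz z (reordF j x == 1) * monA a ⟨permF j x % 16, Nat.mod_lt _ (by norm_num)⟩ * g := by
  rw [monA, W_shift _ g hg, h.W_nf, reord_table]

/-- A monomial that commutes with every generator up to the recorded sign. -/
theorem Anti.monA_comm (h : Anti z a) (x : Fin 16) (i : Fin 4) : monA a x * a i =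
    zz z (xor (betaF x (2 ^ (i : ℕ)) == 1) (betaF (2 ^ (i : ℕ)) x == 1)) * (a i * monA a x) := by
  have e : a i = monA a ⟨2 ^ (i : ℕ) % 16, Nat.mod_lt _ (by norm_num)⟩ := by
    have : ∀ i : Fin 4, lst ⟨2 ^ (i : ℕ) % 16, Nat.mod_lt _ (by norm_num)⟩ = [i] := by decide +kernel
    rw [monA, this, W_cons, W_nil, mul_one]
  have hlt : 2 ^ (i : ℕ) % 16 = 2 ^ (i : ℕ) := by fin_cases i <;> rfl
  have hne : ∀ b c : Bool, xor (xor b c) c = b := by decide
  conv_lhs => rw [e, h.monA_mul]
  conv_rhs => rw [e, h.monA_mul, ← mul_assoc, h.zz_mul]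
  simp only [hlt, hne, Nat.xor_comm (2 ^ (i : ℕ))]

end Cfsg.Agent.Spor.JTwoType
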